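import Groth.Agent.FibDepth.Bridge
import Groth.Agent.FlatModB.Basic
import Groth.Agent.FibreFlat.Stalk
import Groth.Agent.QC.FiniteType

/-!
# Semicontinuity of rectified depth and of codepth along the fibres of a morphism
-/

set_option autoImplicit false
set_option linter.style.haveILetI false
set_option backward.isDefEq.respectTransparency false

universe u

open IsLocalRing TensorProduct CategoryTheory AlgebraicGeometry

namespace Groth.Agent.FibDepth

variable {X Y : Scheme.{u}}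

theorem isQCoh_of_isFP {F : X.Modules} (hF : CohB1.IsFP F) : Coh.IsQCoh F :=
  QC.isQCoh_iff_exists_hasPres.mpr fun y => by
    obtain ⟨W, hy, hW⟩ := QC.isFP_iff_exists_hasFinPres.mp hF y
    exact ⟨W, hy, hW.hasPres⟩

/-- Codepth at most `k` of the restriction to the fibre at a point. -/
def CoprofAt (f : X ⟶ Y) (F : X.Modules) (k : ℕ) (y : Y) (z : ↥(f.fiber y)) : Prop :=
  Module.supportDim ((f.fiber y).presheaf.stalk z)
      (((Scheme.Modules.pullback (f.fiberι y)).obj F).presheaf.stalk z) ≤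
    ((LocCoh.depth ((f.fiber y).presheaf.stalk z)
      (((Scheme.Modules.pullback (f.fiberι y)).obj F).presheaf.stalk z) : ℕ∞) : WithBot ℕ∞) + k

/-- Rectified depth at least `m` of the restriction to the fibre at a point. -/
def RectAt (f : X ⟶ Y) (F : X.Modules) (m : ℕ) (y : Y) (z : ↥(f.fiber y)) : Prop :=
  (m : WithBot ℕ∞) ≤ ((LocCoh.depth ((f.fiber y).presheaf.stalk z)
      (((Scheme.Modules.pullback (f.fiberι y)).obj F).presheaf.stalk z) : ℕ∞) : WithBot ℕ∞) +
    topologicalKrullDim ↥(closure ({z} : Set ↥(f.fiber y)))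

/-- On a chart the two conditions come from open sets. -/
theorem exists_chart_loci (f : X ⟶ Y) [LocallyOfFinitePresentation f] (F : X.Modules) (hF : CohB1.IsFP F)
    (hflat : FlatMod.IsFlatOver f F) (x : X) :
    ∃ W : X.Opens, x ∈ W ∧ ∀ k : ℕ,
      (∃ O : Set X, IsOpen O ∧ ∀ (y : Y) (z : ↥(f.fiber y)), f.fiberι y z ∈ W →
        (f.fiberι y z ∈ O ↔ CoprofAt f F k y z)) ∧
      (∃ O : Set X, IsOpen O ∧ ∀ (y : Y) (z : ↥(f.fiber y)), f.fiberι y z ∈ W →
        (f.fiberι y z ∈ O ↔ RectAt f F k y z)) := by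
  have hq := isQCoh_of_isFP hF
  obtain ⟨V, W, hV, hW, hxW, e, -⟩ := Unibranch.exists_chart_le f (U := ⊤) (x := x) trivial
  letI : Algebra Γ(Y, V) Γ(X, W) := (f.appLE V W e).hom.toAlgebra
  haveI : Algebra.FinitePresentation Γ(Y, V) Γ(X, W) := f.finitePresentation_appLE hV hW e
  obtain ⟨n, π, hπ, hker⟩ := Algebra.FinitePresentation.out (R := Γ(Y, V)) (A := Γ(X, W))
  let P := MvPolynomial (Fin n) Γ(Y, V)
  let σ : P →+* Γ(X, W) := π.toRingHom
  have hσC : ∀ a, σ (MvPolynomial.C a) = (f.appLE V W e).hom a := fun a => π.commutes a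
  letI : Algebra P Γ(X, W) := σ.toAlgebra
  letI := chartModule F σ
  haveI : IsScalarTower P Γ(X, W) Γ(F, W) := IsScalarTower.of_algebraMap_smul fun _ _ => rfl
  haveI : Module.Finite P Γ(X, W) := Module.Finite.of_surjective (Algebra.linearMap P Γ(X, W)) hπ
  haveI : Module.FinitePresentation P Γ(X, W) :=
    Module.finitePresentation_of_surjective (Algebra.linearMap P Γ(X, W)) hπ hker
  haveI := LocFree.finitePresentation_sections_of_isFP hq hF hW
  haveI : Module.FinitePresentation P Γ(F, W) := Module.FinitePresentation.trans P Γ(F, W) Γ(X, W)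
  letI := FlatModB.secModule f F W V e
  haveI : Module.Flat Γ(Y, V) Γ(F, W) := (FlatModB.flat_sections_iff f F hq hW hV e).2 fun x _ => hflat x
  haveI : IsScalarTower Γ(Y, V) P Γ(F, W) := IsScalarTower.of_algebraMap_smul fun a m => by
    show σ (MvPolynomial.C a) • m = (f.appLE V W e).hom a • m
    rw [hσC]
  let c : ↥W → PrimeSpectrum P := fun w => chartPrime hW σ w.1 w.2
  have hc : Continuous c := by
    have h1 : Continuous fun w : ↥W => hW.primeIdealOf ⟨w.1, w.2⟩ := by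
      rw [hW.fromSpec.isOpenEmbedding.isInducing.continuous_iff]
      exact continuous_subtype_val.congr fun w => (hW.fromSpec_primeIdealOf ⟨w.1, w.2⟩).symm
    exact (PrimeSpectrum.continuous_comap σ).comp h1
  refine ⟨W, hxW, fun k => ⟨⟨Subtype.val '' (c ⁻¹' _), W.2.isOpenMap_subtype_val _ ((isOpen_coprof Γ(F, W) k).preimage hc),
    fun y z hz => ?_⟩, ⟨Subtype.val '' (c ⁻¹' _), W.2.isOpenMap_subtype_val _ ((isOpen_rect Γ(F, W) k).preimage hc),
    fun y z hz => ?_⟩⟩⟩
  · obtain ⟨h1, h2, -⟩ := fibre_stalk_eq f F hq hV hW e σ hπ hσC inferInstance y z hz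
    rw [CoprofAt, h1, h2]
    exact ⟨fun ⟨w, hw, hwz⟩ => by obtain rfl : w = ⟨_, hz⟩ := Subtype.ext hwz; exact hw,
      fun h => ⟨⟨_, hz⟩, h, rfl⟩⟩
  · obtain ⟨-, h2, -⟩ := fibre_stalk_eq f F hq hV hW e σ hπ hσC inferInstance y z hz
    have hr : Unibranch.rdimIn f hW e (f.fiberι y z) hz =
        Unibranch.rdim Γ(Y, V) (chartPrime hW σ _ hz).asIdeal :=
      (rdim_comap_of_surjective π hπ (hW.primeIdealOf ⟨_, hz⟩)).symm
    have h3 : RectAt f F k y z ↔ (k : ℕ∞) ≤ LocCoh.depth (FibQ Γ(Y, V) (chartPrime hW σ _ hz).asIdeal)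
        (FibM Γ(Y, V) (chartPrime hW σ _ hz).asIdeal Γ(F, W)) +
          (Unibranch.rdim Γ(Y, V) (chartPrime hW σ _ hz).asIdeal : ℕ∞) := by
      rw [RectAt, dim_closure_fibre f hV hW e y z hz, hr, h2]
      norm_cast
    rw [h3]
    exact ⟨fun ⟨w, hw, hwz⟩ => by obtain rfl : w = ⟨_, hz⟩ := Subtype.ext hwz; exact hw,
      fun h => ⟨⟨_, hz⟩, h, rfl⟩⟩

/-- A finitely generated module on the fibre: depth is at most the support dimension. -/
theorem depth_le_supportDim_fibre (f : X ⟶ Y) [LocallyOfFiniteType f] (F : X.Modules) (hF : CohB1.IsFP F)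
    (y : Y) (z : ↥(f.fiber y))
    (hne : Nontrivial (((Scheme.Modules.pullback (f.fiberι y)).obj F).presheaf.stalk z)) :
    ((LocCoh.depth ((f.fiber y).presheaf.stalk z)
      (((Scheme.Modules.pullback (f.fiberι y)).obj F).presheaf.stalk z) : ℕ∞) : WithBot ℕ∞) ≤
    Module.supportDim ((f.fiber y).presheaf.stalk z)
      (((Scheme.Modules.pullback (f.fiberι y)).obj F).presheaf.stalk z) := by
  have hq := isQCoh_of_isFP hF
  obtain ⟨V, W, hV, hW, hxW, e, -⟩ := Unibranch.exists_chart_le f (U := ⊤) (x := f.fiberι y z) trivial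
  letI : Algebra Γ(Y, V) Γ(X, W) := (f.appLE V W e).hom.toAlgebra
  haveI : Algebra.FiniteType Γ(Y, V) Γ(X, W) := f.finiteType_appLE hV hW e
  obtain ⟨n, π, hπ⟩ := Algebra.FiniteType.iff_quotient_mvPolynomial''.mp
    (inferInstance : Algebra.FiniteType Γ(Y, V) Γ(X, W))
  let P := MvPolynomial (Fin n) Γ(Y, V)
  let σ : P →+* Γ(X, W) := π.toRingHom
  letI : Algebra P Γ(X, W) := σ.toAlgebra
  letI := chartModule F σ
  haveI : IsScalarTower P Γ(X, W) Γ(F, W) := IsScalarTower.of_algebraMap_smul fun _ _ => rfl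
  haveI := LocFree.finitePresentation_sections_of_isFP hq hF hW
  haveI : Module.Finite P Γ(X, W) := Module.Finite.of_surjective (Algebra.linearMap P Γ(X, W)) hπ
  haveI : Module.Finite P Γ(F, W) := Module.Finite.trans Γ(X, W) Γ(F, W)
  obtain ⟨h1, h2, -⟩ := fibre_stalk_eq f F hq hV hW e σ hπ (fun a => π.commutes a) inferInstance y z hxW
  haveI := isRegularLocalRing_fibQ (chartPrime hW σ _ hxW).asIdeal
  rcases supportDim_depth_cases (ringKrullDim_fibQ (chartPrime hW σ _ hxW).asIdeal)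
    (FibM Γ(Y, V) (chartPrime hW σ _ hxW).asIdeal Γ(F, W)) with ⟨h3, -⟩ | ⟨a, b, h3, h4⟩
  · rw [← h1, Module.supportDim_eq_bot_iff_subsingleton] at h3
    exact absurd h3 (not_subsingleton _)
  · rw [h1, h2, h3, h4]
    have h5 := InvFin.depth_le_supportDim _ h3
    rw [h4] at h5
    exact_mod_cast h5

/-- Sections over an affine open of the flat locus are flat. -/
theorem flat_of_le_flatOpen (f : X ⟶ Y) [LocallyOfFinitePresentation f] {V : Y.Opens} (hV : IsAffineOpen V)
    {W : X.Opens} (hW : IsAffineOpen W) (e : W ≤ f ⁻¹ᵁ V) (h : ∀ x ∈ W, (f.stalkMap x).hom.Flat) :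
    (f.appLE V W e).hom.Flat := by
  letI : Algebra Γ(Y, V) Γ(X, W) := (f.appLE V W e).hom.toAlgebra
  show Module.Flat Γ(Y, V) Γ(X, W)
  refine Module.flat_of_isLocalized_maximal (R := Γ(Y, V)) Γ(X, W) Γ(X, W)
    (fun P _ => LocalizedModule P.primeCompl Γ(X, W))
    (fun P _ => LocalizedModule.mkLinearMap P.primeCompl Γ(X, W)) fun P _ => ?_
  let z : PrimeSpectrum Γ(X, W) := ⟨P, inferInstance⟩
  obtain ⟨hx, hz⟩ := InjFibre.primeIdealOf_fromSpec hW z
  let x : X := hW.fromSpec z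
  letI : Algebra Γ(X, W) (X.presheaf.stalk x) := (X.presheaf.germ W x hx).hom.toAlgebra
  haveI : IsLocalization.AtPrime (X.presheaf.stalk x) P := by
    have h' : IsLocalization.AtPrime (X.presheaf.stalk x) (hW.primeIdealOf ⟨x, hx⟩).asIdeal :=
      hW.isLocalization_stalk ⟨x, hx⟩
    convert h' using 2
    exact (congrArg PrimeSpectrum.asIdeal hz).symm
  letI := TopCat.Presheaf.algebra_section_stalk Y.presheaf (⟨f x, e hx⟩ : V)
  haveI : IsLocalization.AtPrime (Y.presheaf.stalk (f x)) (hV.primeIdealOf ⟨f x, e hx⟩).asIdeal :=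
    hV.isLocalization_stalk ⟨f x, e hx⟩
  letI : Algebra Γ(Y, V) (X.presheaf.stalk x) :=
    ((algebraMap Γ(X, W) (X.presheaf.stalk x)).comp (algebraMap Γ(Y, V) Γ(X, W))).toAlgebra
  haveI : IsScalarTower Γ(Y, V) Γ(X, W) (X.presheaf.stalk x) := IsScalarTower.of_algebraMap_eq fun _ => rfl
  have hcomp : algebraMap Γ(Y, V) (X.presheaf.stalk x) =
      (f.stalkMap x).hom.comp (algebraMap Γ(Y, V) (Y.presheaf.stalk (f x))) :=
    RingHom.ext fun a => (FibCrit.germ_comm f V W e x hx a).symm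
  have hfl : (algebraMap Γ(Y, V) (X.presheaf.stalk x)).Flat := by
    rw [hcomp]
    exact RingHom.Flat.comp (RingHom.flat_algebraMap_iff.mpr (IsLocalization.flat _ (hV.primeIdealOf ⟨f x, e hx⟩).asIdeal.primeCompl))
      (h x hx)
  haveI : Module.Flat Γ(Y, V) (X.presheaf.stalk x) := RingHom.flat_algebraMap_iff.mp hfl
  exact Module.Flat.of_linearEquiv
    ((IsLocalizedModule.iso P.primeCompl (Algebra.linearMap Γ(X, W) (X.presheaf.stalk x))).restrictScalars Γ(Y, V))

/-- The chart reads the condition on the local ring of the fibre. -/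
theorem chart_ring_iff (f : X ⟶ Y) {V : Y.Opens} (hV : IsAffineOpen V) {W : X.Opens} (hW : IsAffineOpen W)
    (e : W ≤ f ⁻¹ᵁ V) {n : ℕ} (σ : MvPolynomial (Fin n) Γ(Y, V) →+* Γ(X, W)) (hσ : Function.Surjective σ)
    (hσC : ∀ a, σ (MvPolynomial.C a) = (f.appLE V W e).hom a)
    (hfin : letI : Module (MvPolynomial (Fin n) Γ(Y, V)) Γ(X, W) := Module.compHom Γ(X, W) σ
      Module.Finite (MvPolynomial (Fin n) Γ(Y, V)) Γ(X, W)) (k : ℕ) (x : X) (hx : x ∈ W) :
    letI : Module (MvPolynomial (Fin n) Γ(Y, V)) Γ(X, W) := Module.compHom Γ(X, W) σ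
    (Module.supportDim (FibQ Γ(Y, V) (chartPrime hW σ x hx).asIdeal)
        (FibM Γ(Y, V) (chartPrime hW σ x hx).asIdeal Γ(X, W)) ≤
      (LocCoh.depth (FibQ Γ(Y, V) (chartPrime hW σ x hx).asIdeal)
        (FibM Γ(Y, V) (chartPrime hW σ x hx).asIdeal Γ(X, W)) : WithBot ℕ∞) + (k : WithBot ℕ∞)) ↔
      ringKrullDim ((f.fiber (f x)).presheaf.stalk (f.asFiber x)) ≤
        ((LocCoh.depth ((f.fiber (f x)).presheaf.stalk (f.asFiber x))
          ((f.fiber (f x)).presheaf.stalk (f.asFiber x)) : ℕ∞) : WithBot ℕ∞) + k := by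
  have hz : f.fiberι (f x) (f.asFiber x) ∈ W := by rw [f.fiberι_asFiber]; exact hx
  have hP : chartPrime hW σ x hx = chartPrime hW σ _ hz := by
    unfold chartPrime
    congr 2
    exact Subtype.ext (f.fiberι_asFiber x).symm
  obtain ⟨h1, h2, -⟩ := fibre_ring_eq f hV hW e σ hσ hσC hfin (f x) (f.asFiber x) hz
  rw [h1, h2, hP]

/-- The flat points with codepth at most `k` in the fibre form an open set. -/
theorem isOpen_flat_coprof (f : X ⟶ Y) [LocallyOfFinitePresentation f] (k : ℕ) :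
    IsOpen {x : X | (f.stalkMap x).hom.Flat ∧
      ringKrullDim ((f.fiber (f x)).presheaf.stalk (f.asFiber x)) ≤
        ((LocCoh.depth ((f.fiber (f x)).presheaf.stalk (f.asFiber x))
          ((f.fiber (f x)).presheaf.stalk (f.asFiber x)) : ℕ∞) : WithBot ℕ∞) + k} := by
  rw [isOpen_iff_forall_mem_open]
  rintro x₀ ⟨hx₀, hx₀'⟩
  obtain ⟨V, W, hV, hW, hxW, e, hWU⟩ := Unibranch.exists_chart_le f (U := FibreFlat.flatOpen f) (x := x₀) hx₀
  letI : Algebra Γ(Y, V) Γ(X, W) := (f.appLE V W e).hom.toAlgebra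
  haveI : Module.Flat Γ(Y, V) Γ(X, W) := flat_of_le_flatOpen f hV hW e fun x hx => hWU hx
  haveI : Algebra.FinitePresentation Γ(Y, V) Γ(X, W) := f.finitePresentation_appLE hV hW e
  obtain ⟨n, π, hπ, hker⟩ := Algebra.FinitePresentation.out (R := Γ(Y, V)) (A := Γ(X, W))
  let P := MvPolynomial (Fin n) Γ(Y, V)
  let σ : P →+* Γ(X, W) := π.toRingHom
  letI : Algebra P Γ(X, W) := σ.toAlgebra
  haveI : IsScalarTower Γ(Y, V) P Γ(X, W) := IsScalarTower.of_algebraMap_eq fun a => (π.commutes a).symm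
  haveI : Module.Finite P Γ(X, W) := Module.Finite.of_surjective (Algebra.linearMap P Γ(X, W)) hπ
  haveI : Module.FinitePresentation P Γ(X, W) :=
    Module.finitePresentation_of_surjective (Algebra.linearMap P Γ(X, W)) hπ hker
  let c : ↥W → PrimeSpectrum P := fun w => chartPrime hW σ w.1 w.2
  have hc : Continuous c := by
    have h1 : Continuous fun w : ↥W => hW.primeIdealOf ⟨w.1, w.2⟩ := by
      rw [hW.fromSpec.isOpenEmbedding.isInducing.continuous_iff]
      exact continuous_subtype_val.congr fun w => (hW.fromSpec_primeIdealOf ⟨w.1, w.2⟩).symm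
    exact (PrimeSpectrum.continuous_comap σ).comp h1
  let O : Set (PrimeSpectrum P) := {Q | Module.supportDim (FibQ Γ(Y, V) Q.asIdeal) (FibM Γ(Y, V) Q.asIdeal Γ(X, W)) ≤
      (LocCoh.depth (FibQ Γ(Y, V) Q.asIdeal) (FibM Γ(Y, V) Q.asIdeal Γ(X, W)) : WithBot ℕ∞) + (k : WithBot ℕ∞)}
  have hO : IsOpen O := isOpen_coprof Γ(X, W) k
  have key : ∀ (x : X) (hx : x ∈ W), c ⟨x, hx⟩ ∈ O ↔
      ringKrullDim ((f.fiber (f x)).presheaf.stalk (f.asFiber x)) ≤
        ((LocCoh.depth ((f.fiber (f x)).presheaf.stalk (f.asFiber x))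
          ((f.fiber (f x)).presheaf.stalk (f.asFiber x)) : ℕ∞) : WithBot ℕ∞) + k := fun x hx =>
    chart_ring_iff f hV hW e σ hπ (fun a => π.commutes a) inferInstance k x hx
  refine ⟨Subtype.val '' (c ⁻¹' O), ?_, W.2.isOpenMap_subtype_val _ (hO.preimage hc), ⟨⟨x₀, hxW⟩, (key x₀ hxW).2 hx₀', rfl⟩⟩
  rintro _ ⟨⟨x, hx⟩, hxO, rfl⟩
  exact ⟨hWU hx, (key x hx).1 hxO⟩

/-- Codepth zero means Cohen–Macaulay or zero. -/
theorem subsingleton_or_cm_iff (f : X ⟶ Y) [LocallyOfFiniteType f] (F : X.Modules) (hF : CohB1.IsFP F)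
    (y : Y) (z : ↥(f.fiber y)) :
    (Subsingleton (((Scheme.Modules.pullback (f.fiberι y)).obj F).presheaf.stalk z) ∨
      LocCoh.IsCohenMacaulayModule ((f.fiber y).presheaf.stalk z)
        (((Scheme.Modules.pullback (f.fiberι y)).obj F).presheaf.stalk z)) ↔ CoprofAt f F 0 y z := by
  rw [CoprofAt, Nat.cast_zero, add_zero, LocCoh.IsCohenMacaulayModule]
  constructor
  · rintro (h | h)
    · rw [Module.supportDim_eq_bot_of_subsingleton]
      exact bot_le
    · exact h.le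
  · intro h
    rcases subsingleton_or_nontrivial (((Scheme.Modules.pullback (f.fiberι y)).obj F).presheaf.stalk z) with hs | hs
    · exact Or.inl hs
    · exact Or.inr (le_antisymm h (depth_le_supportDim_fibre f F hF y z hs))

variable (f : X ⟶ Y) [LocallyOfFinitePresentation f] (F : X.Modules) (hF : CohB1.IsFP F)
  (hflat : FlatMod.IsFlatOver f F)

include hF hflat

/-- Openness, both read at the point in its own fibre and as a set met by all fibres. -/
theorem exists_open_loci (k : ℕ) :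
    (∃ O : Set X, IsOpen O ∧ ∀ (y : Y) (z : ↥(f.fiber y)), f.fiberι y z ∈ O ↔ CoprofAt f F k y z) ∧
    (∃ O : Set X, IsOpen O ∧ ∀ (y : Y) (z : ↥(f.fiber y)), f.fiberι y z ∈ O ↔ RectAt f F k y z) := by
  choose W hxW hW using exists_chart_loci f F hF hflat
  choose O₁ hO₁ hO₁' using fun x => (hW x k).1
  choose O₂ hO₂ hO₂' using fun x => (hW x k).2
  refine ⟨⟨⋃ x, (W x : Set X) ∩ O₁ x, isOpen_iUnion fun x => (W x).2.inter (hO₁ x), fun y z => ⟨fun h => ?_, fun h => ?_⟩⟩,
    ⟨⋃ x, (W x : Set X) ∩ O₂ x, isOpen_iUnion fun x => (W x).2.inter (hO₂ x), fun y z => ⟨fun h => ?_, fun h => ?_⟩⟩⟩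
  · obtain ⟨x, h1, h2⟩ := Set.mem_iUnion.1 h
    exact (hO₁' x y z h1).1 h2
  · exact Set.mem_iUnion.2 ⟨_, hxW _, (hO₁' _ y z (hxW _)).2 h⟩
  · obtain ⟨x, h1, h2⟩ := Set.mem_iUnion.1 h
    exact (hO₂' x y z h1).1 h2
  · exact Set.mem_iUnion.2 ⟨_, hxW _, (hO₂' _ y z (hxW _)).2 h⟩

theorem isOpen_coprofAt (k : ℕ) : IsOpen {x : X | CoprofAt f F k (f x) (f.asFiber x)} := by
  obtain ⟨O, hO, h⟩ := (exists_open_loci f F hF hflat k).1
  convert hO using 1
  ext x
  exact (h _ _).symm.trans (iff_of_eq (congrArg (· ∈ O) (f.fiberι_asFiber x)))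

theorem isOpen_rectAt (m : ℕ) : IsOpen {x : X | RectAt f F m (f x) (f.asFiber x)} := by
  obtain ⟨O, hO, h⟩ := (exists_open_loci f F hF hflat m).2
  convert hO using 1
  ext x
  exact (h _ _).symm.trans (iff_of_eq (congrArg (· ∈ O) (f.fiberι_asFiber x)))

/-- For a universally closed morphism the condition on whole fibres is open on the base. -/
theorem isOpen_forall_coprofAt [UniversallyClosed f] (k : ℕ) :
    IsOpen {y : Y | ∀ z, CoprofAt f F k y z} := by
  obtain ⟨O, hO, h⟩ := (exists_open_loci f F hF hflat k).1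
  have heq : {y : Y | ∀ z, CoprofAt f F k y z} = (f '' Oᶜ)ᶜ := by
    ext y
    constructor
    · rintro hy ⟨x, hx, rfl⟩
      exact hx (by rw [← f.fiberι_asFiber x]; exact (h _ _).2 (hy _))
    · intro hy z
      refine (h y z).1 (by_contra fun hz => hy ⟨_, hz, ?_⟩)
      exact (f.range_fiberι y).subset ⟨z, rfl⟩
  rw [heq]
  exact (f.isClosedMap _ hO.isClosed_compl).isOpen_compl

/-- For a universally closed morphism the rectified depth of whole fibres is lower semicontinuous. -/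
theorem isOpen_forall_rectAt [UniversallyClosed f] (m : ℕ) :
    IsOpen {y : Y | ∀ z, RectAt f F m y z} := by
  obtain ⟨O, hO, h⟩ := (exists_open_loci f F hF hflat m).2
  have heq : {y : Y | ∀ z, RectAt f F m y z} = (f '' Oᶜ)ᶜ := by
    ext y
    constructor
    · rintro hy ⟨x, hx, rfl⟩
      exact hx (by rw [← f.fiberι_asFiber x]; exact (h _ _).2 (hy _))
    · intro hy z
      refine (h y z).1 (by_contra fun hz => hy ⟨_, hz, ?_⟩)
      exact (f.range_fiberι y).subset ⟨z, rfl⟩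
  rw [heq]
  exact (f.isClosedMap _ hO.isClosed_compl).isOpen_compl

end Groth.Agent.FibDepth
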