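import Groth.Agent.LocH.Annihilator

/-!
# Depth and projective dimension over regular local rings
-/

set_option autoImplicit false
set_option linter.style.haveILetI false

universe u

open CategoryTheory CategoryTheory.Limits IsLocalRing

namespace Groth.Agent.FibDepth

variable (A : Type u) [CommRing A] [IsRegularLocalRing A]

/-- Projective dimension at most `k` gives depth at least `d - k`. -/
theorem vanish_of_pdLE {d : ℕ} (hd : ringKrullDim A = d) : ∀ (k : ℕ) (N : Type u) [AddCommGroup N] [Module A N]
    [Module.Finite A N], SerreReg.PdLE A N k → ∀ i, i + k < d → Subsingleton (LocCoh.H (maximalIdeal A) i N) := by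
  intro k
  induction k with
  | zero =>
    intro N _ _ _ h i hi
    rw [SerreReg.pdLE_zero_iff] at h
    haveI := h
    haveI : Module.Free A N := Module.free_of_flat_of_isLocalRing
    let ι := Module.Free.ChooseBasisIndex A N
    haveI : Fintype ι := Module.Free.ChooseBasisIndex.fintype A N
    let e : N ≃ₗ[A] (Fin (Fintype.card ι) → A) :=
      ((Module.Free.chooseBasis A N).reindex (Fintype.equivFin ι)).equivFun
    have h1 : ((i + 1 : ℕ) : ℕ∞) ≤ LocCoh.idealDepth (maximalIdeal A) (Fin (Fintype.card ι) → A) :=
      (LocH.le_idealDepth_iff _ _ _).2 fun j hj => LocH.subsingleton_H_regular_pi A hd (by omega) _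
    rw [← LocH.idealDepth_congr e] at h1
    exact (LocH.le_idealDepth_iff _ _ _).1 h1 i (by omega)
  | succ k ih =>
    intro N _ _ _ h i hi
    obtain ⟨n, f, hf⟩ := Module.Finite.exists_fin' A N
    rw [SerreReg.pdLE_succ_iff f hf] at h
    let S : ShortComplex (ModuleCat.{u} A) :=
      ShortComplex.mk (ModuleCat.ofHom (LinearMap.ker f).subtype) (ModuleCat.ofHom f) (by ext x; exact x.2)
    have hS : S.ShortExact :=
      { exact := (ShortComplex.ShortExact.moduleCat_exact_iff_function_exact S).2 (LinearMap.exact_subtype_ker_map f)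
        mono_f := (ModuleCat.mono_iff_injective _).2 (LinearMap.ker f).injective_subtype
        epi_g := (ModuleCat.epi_iff_surjective _).2 hf }
    exact LocH.subsingleton_X₃ hS i (LocH.subsingleton_H_regular_pi A hd (by omega) n)
      (ih _ h (i + 1) (by omega))

/-- The formula of Auslander and Buchsbaum over a regular local ring, as an equivalence. -/
theorem pdLE_iff_le_depth {d : ℕ} (hd : ringKrullDim A = d) (k : ℕ) (N : Type u) [AddCommGroup N] [Module A N]
    [Module.Finite A N] : SerreReg.PdLE A N k ↔ ((d - k : ℕ) : ℕ∞) ≤ LocCoh.depth A N := by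
  rw [LocCoh.depth, LocH.le_idealDepth_iff]
  exact ⟨fun h i hi => vanish_of_pdLE A hd k N h i (by omega),
    fun h => LocH.pdLE_of_vanish A hd k N fun i hi => h i (by omega)⟩

end Groth.Agent.FibDepth
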