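import Groth.Agent.FibDepth.SuppDim
import Groth.Agent.AssLib.Points
import Groth.Agent.Goren.MCMDepth
import Groth.Agent.QC.Pullback

/-!
# Associated points of the restriction of a module to the fibres
-/

set_option autoImplicit false
set_option linter.style.haveILetI false
set_option backward.isDefEq.respectTransparency false

universe u

open IsLocalRing TensorProduct CategoryTheory AlgebraicGeometry

namespace Groth.Agent.FibDepth

/-- The closed point is associated exactly when the depth is zero. -/
theorem isAssociatedPrime_maximalIdeal_iff {A : Type u} [CommRing A] [IsLocalRing A] [IsNoetherianRing A]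
    (M : Type u) [AddCommGroup M] [Module A M] [Module.Finite A M] :
    IsAssociatedPrime (maximalIdeal A) M ↔ LocCoh.depth A M = 0 := by
  constructor
  · intro h
    rcases subsingleton_or_nontrivial M with hs | hn
    · exact absurd h not_isAssociatedPrime_of_subsingleton
    refine le_antisymm (not_lt.1 fun h0 => ?_) zero_le
    obtain ⟨x, hx, hreg⟩ := (Goren.depth_pos_iff_exists M).1 h0
    have : x ∈ ⋃ p ∈ associatedPrimes A M, (p : Set A) := Set.mem_biUnion h hx
    rw [biUnion_associatedPrimes_eq_compl_regular] at this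
    exact this hreg
  · intro h
    rcases subsingleton_or_nontrivial M with hs | hn
    · rw [LocCoh.depth, LocCoh.idealDepth, if_pos (Subsingleton.elim _ _)] at h
      exact absurd h ENat.top_ne_zero
    have h1 : (maximalIdeal A : Set A) ⊆ ⋃ p ∈ associatedPrimes A M, (p : Set A) := fun x hx => by
      rw [biUnion_associatedPrimes_eq_compl_regular]
      exact fun hreg => (Goren.depth_pos_iff_exists M).2 ⟨x, hx, hreg⟩ |>.ne' h
    obtain ⟨p, hp, hle⟩ := (Ideal.subset_union_prime_finite (associatedPrimes.finite A M) (f := id) ⊥ ⊥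
      fun p hp _ _ => hp.1).1 h1
    have : maximalIdeal A = p := (IsLocalRing.maximalIdeal.isMaximal A).eq_of_le hp.1.ne_top hle
    exact this ▸ hp

variable {X Y : Scheme.{u}}

/-- The fibre of a morphism locally of finite type is locally noetherian. -/
theorem isLocallyNoetherian_fiber (f : X ⟶ Y) [LocallyOfFiniteType f] (y : Y) : IsLocallyNoetherian (f.fiber y) := by
  haveI : LocallyOfFiniteType (f.fiberToSpecResidueField y) := MorphismProperty.pullback_snd _ _ ‹_›
  exact LocallyOfFiniteType.isLocallyNoetherian (f.fiberToSpecResidueField y)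

/-- The stalks of the restriction to a fibre are finite. -/
theorem finite_stalk_fibre (f : X ⟶ Y) (F : X.Modules) (hF : CohB1.IsFP F) (y : Y) (z : ↥(f.fiber y)) :
    Module.Finite ((f.fiber y).presheaf.stalk z)
      (((Scheme.Modules.pullback (f.fiberι y)).obj F).presheaf.stalk z) := by
  haveI := isQCoh_of_isFP hF
  haveI : CohB1.IsFT F := inferInstanceAs (SheafOfModules.IsFiniteType (R := X.ringCatSheaf) F)
  letI : Algebra (X.presheaf.stalk (f.fiberι y z)) ((f.fiber y).presheaf.stalk z) :=
    ((f.fiberι y).stalkMap z).hom.toAlgebra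
  haveI := SupportLib.finite_stalk F ‹_› (f.fiberι y z)
  let eP : (((Scheme.Modules.pullback (f.fiberι y)).obj F).presheaf.stalk z) ≃ₗ[(f.fiber y).presheaf.stalk z]
      (f.fiber y).presheaf.stalk z ⊗[X.presheaf.stalk (f.fiberι y z)] F.presheaf.stalk (f.fiberι y z) :=
    ((KFlat.pullStalkIso (f.fiberι y) z).app F).toLinearEquiv
  exact Module.Finite.equiv eP.symm

/-- Associated points of the fibre are the points of depth zero. -/
theorem mem_ass_fibre_iff (f : X ⟶ Y) [LocallyOfFiniteType f] (F : X.Modules) (hF : CohB1.IsFP F) (y : Y)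
    (z : ↥(f.fiber y)) :
    z ∈ AssSch.Ass ((Scheme.Modules.pullback (f.fiberι y)).obj F) ↔
      LocCoh.depth ((f.fiber y).presheaf.stalk z)
        (((Scheme.Modules.pullback (f.fiberι y)).obj F).presheaf.stalk z) = 0 := by
  haveI := isLocallyNoetherian_fiber f y
  haveI := finite_stalk_fibre f F hF y z
  exact isAssociatedPrime_maximalIdeal_iff _

/-- An associated point without other associated points above it is minimal in the support. -/
theorem ass_minimal_fibre_iff (f : X ⟶ Y) (F : X.Modules) (hF : CohB1.IsFP F) (y : Y) (z : ↥(f.fiber y))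
    (hz : z ∈ AssSch.Ass ((Scheme.Modules.pullback (f.fiberι y)).obj F)) :
    (∀ w ∈ AssSch.Ass ((Scheme.Modules.pullback (f.fiberι y)).obj F), w ⤳ z → w = z) ↔
      ∀ w ∈ suppFib f F y, w ⤳ z → w = z := by
  haveI := isQCoh_of_isFP hF
  have h := AssLib.ass_minimal_iff (QC.isQCoh_pullback (f.fiberι y) (isQCoh_of_isFP hF)) z
  exact ⟨fun h' => (h.1 ⟨hz, h'⟩).2, fun h' => (h.2 ⟨AssLib.nontrivial_of_isAssPoint hz, h'⟩).2⟩

/-- All associated points generalising the point have dimension in the given set. -/
def AssDimAt (f : X ⟶ Y) (F : X.Modules) (Φ : Finset ℕ) (y : Y) (z : ↥(f.fiber y)) : Prop :=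
  ∀ z' ∈ AssSch.Ass ((Scheme.Modules.pullback (f.fiberι y)).obj F), z' ⤳ z →
    ∃ n ∈ Φ, topologicalKrullDim ↥(closure ({z'} : Set ↥(f.fiber y))) = (n : WithBot ℕ∞)

/-- No associated point generalising the point is embedded. -/
def NoEmbAt (f : X ⟶ Y) (F : X.Modules) (y : Y) (z : ↥(f.fiber y)) : Prop :=
  ∀ z' ∈ AssSch.Ass ((Scheme.Modules.pullback (f.fiberι y)).obj F), z' ⤳ z →
    ∀ w ∈ AssSch.Ass ((Scheme.Modules.pullback (f.fiberι y)).obj F), w ⤳ z' → w = z'

/-- Some component of the support of the fibre has dimension `j`. -/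
def HasCompDim (f : X ⟶ Y) (F : X.Modules) (j : ℕ) (y : Y) : Prop :=
  ∃ z ∈ suppFib f F y, (∀ w ∈ suppFib f F y, w ⤳ z → w = z) ∧
    topologicalKrullDim ↥(closure ({z} : Set ↥(f.fiber y))) = (j : WithBot ℕ∞)

theorem noEmbedded_iff (f : X ⟶ Y) (F : X.Modules) (y : Y) :
    AssSch.NoEmbedded ((Scheme.Modules.pullback (f.fiberι y)).obj F) ↔ ∀ z, NoEmbAt f F y z := by
  constructor
  · intro h z z' hz' _ w hw hwz'
    exact (h z' hz' w hw hwz').symm
  · intro h x hx w hw hwx
    exact (h x x hx specializes_rfl w hw hwx).symm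

theorem isClosed_suppFib (f : X ⟶ Y) (F : X.Modules) (hF : CohB1.IsFP F) (y : Y) : IsClosed (suppFib f F y) := by
  haveI := isQCoh_of_isFP hF
  haveI : CohB1.IsFT F := inferInstanceAs (SheafOfModules.IsFiniteType (R := X.ringCatSheaf) F)
  rw [suppFib_eq f F hF y]
  exact (QC.isClosed_support ‹CohB1.IsFT F›).preimage (f.fiberι y).continuous

/-- The dimensions of the components of the support of a fibre. -/
theorem image_components_suppFib (f : X ⟶ Y) (F : X.Modules) (hF : CohB1.IsFP F) (y : Y) (d : WithBot ℕ∞) :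
    (∃ Z ∈ irreducibleComponents ↥(suppFib f F y), topologicalKrullDim ↥Z = d) ↔
      ∃ z ∈ suppFib f F y, (∀ w ∈ suppFib f F y, w ⤳ z → w = z) ∧
        topologicalKrullDim ↥(closure ({z} : Set ↥(f.fiber y))) = d := by
  have hcl := isClosed_suppFib f F hF y
  haveI : QuasiSober ↥(suppFib f F y) := hcl.isClosedEmbedding_subtypeVal.quasiSober
  have hdim : ∀ w : ↥(suppFib f F y), topologicalKrullDim ↥(closure ({w} : Set ↥(suppFib f F y))) =
      topologicalKrullDim ↥(closure ({w.1} : Set ↥(f.fiber y))) := by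
    intro w
    have h1 : closure ({w.1} : Set ↥(f.fiber y)) ⊆ suppFib f F y :=
      hcl.closure_subset_iff.2 (Set.singleton_subset_iff.2 w.2)
    have h2 : Subtype.val '' closure ({w} : Set ↥(suppFib f F y)) = closure ({w.1} : Set ↥(f.fiber y)) := by
      rw [← hcl.isClosedEmbedding_subtypeVal.closure_image_eq, Set.image_singleton]
    exact ((hcl.isClosedEmbedding_subtypeVal.isEmbedding.homeomorphImage _).trans
      (Homeomorph.setCongr h2)).isHomeomorph.topologicalKrullDim_eq
  constructor
  · rintro ⟨Z, hZ, rfl⟩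
    obtain ⟨w, hw⟩ := QuasiSober.sober hZ.1 (isClosed_of_mem_irreducibleComponents Z hZ)
    refine ⟨w.1, w.2, fun v hv hvw => ?_, ?_⟩
    · have hle : Z ⊆ closure ({⟨v, hv⟩} : Set ↥(suppFib f F y)) := by
        rw [← hw.def]
        exact closure_minimal (Set.singleton_subset_iff.2
          (specializes_iff_mem_closure.1 ((subtype_specializes_iff _ _).2 hvw))) isClosed_closure
      have hge := hZ.2 isIrreducible_singleton.closure hle
      have h3 : w ⤳ (⟨v, hv⟩ : ↥(suppFib f F y)) := by
        rw [specializes_iff_mem_closure, hw.def]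
        exact hge (subset_closure rfl)
      exact (hvw.antisymm ((subtype_specializes_iff _ _).1 h3)).eq
    · rw [← hdim, hw.def]
  · rintro ⟨z, hz, hmin, rfl⟩
    refine ⟨closure {⟨z, hz⟩}, ⟨isIrreducible_singleton.closure, fun t ht hle => ?_⟩, hdim _⟩
    obtain ⟨w, hw⟩ := QuasiSober.sober ht.closure isClosed_closure
    have h4 : w ⤳ (⟨z, hz⟩ : ↥(suppFib f F y)) := by
      rw [specializes_iff_mem_closure, hw.def]
      exact subset_closure (hle (subset_closure rfl))
    have h5 : w = ⟨z, hz⟩ := Subtype.ext (hmin w.1 w.2 ((subtype_specializes_iff _ _).1 h4))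
    refine subset_closure.trans ?_
    rw [← hw.def, h5]

end Groth.Agent.FibDepth
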