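import Groth.Agent.FibDepth.BridgeAlg
import Groth.Prelude.Def_EGA4b

/-!
# Conditions of Serre and equidimensionality along surjections
-/

set_option autoImplicit false
set_option linter.style.haveILetI false
set_option backward.isDefEq.respectTransparency false

universe u

open IsLocalRing TensorProduct

namespace Groth.Agent.FibDepth

theorem hasSk_congr {R : Type u} [CommRing R] {N N' : Type u} [AddCommGroup N] [Module R N] [AddCommGroup N']
    [Module R N'] (e : N ≃ₗ[R] N') (k : ℕ) (h : LocCoh.HasSk k R N) : LocCoh.HasSk k R N' := fun p _ => by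
  let e' := LinearEquiv.extendScalarsOfIsLocalization p.primeCompl (Localization.AtPrime p)
    (IsLocalizedModule.iso p.primeCompl ((LocalizedModule.mkLinearMap p.primeCompl N').comp e.toLinearMap))
  have h1 := h p
  rw [Module.supportDim_eq_of_equiv e', show LocCoh.depth (Localization.AtPrime p) (LocalizedModule p.primeCompl N) =
    LocCoh.depth (Localization.AtPrime p) (LocalizedModule p.primeCompl N') from LocH.idealDepth_congr e' _] at h1
  exact h1

theorem isEquidimModule_congr {R : Type u} [CommRing R] {N N' : Type u} [AddCommGroup N] [Module R N]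
    [AddCommGroup N'] [Module R N'] (e : N ≃ₗ[R] N') (h : EGA4.IsEquidimModule R N) : EGA4.IsEquidimModule R N' := by
  intro p hp
  rw [← Module.supportDim_eq_of_equiv e]
  exact h p (e.annihilator_eq ▸ hp)

section Surjective

variable {T R : Type u} [CommRing T] [CommRing R] [Algebra T R] (hτ : Function.Surjective (algebraMap T R))
  (N : Type u) [AddCommGroup N] [Module R N] [Module T N] [IsScalarTower T R N] [Module.Finite T N]

include hτ

omit hτ [Module.Finite T N] in
theorem annihilator_of_surjective :
    Module.annihilator T N = (Module.annihilator R N).comap (algebraMap T R) := by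
  ext t
  rw [Ideal.mem_comap, Module.mem_annihilator, Module.mem_annihilator]
  exact forall_congr' fun x => by rw [algebraMap_smul]

theorem isEquidimModule_iff_of_surjective : EGA4.IsEquidimModule T N ↔ EGA4.IsEquidimModule R N := by
  rw [EGA4.IsEquidimModule, EGA4.IsEquidimModule, annihilator_of_surjective (T := T) (R := R) N,
    Ideal.comap_minimalPrimes_eq_of_surjective hτ, Set.forall_mem_image, supportDim_eq_of_surjective hτ N]
  refine forall_congr' fun p => forall_congr' fun _ => Iff.of_eq (congrArg (· = _) ?_)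
  refine RingEquiv.ringKrullDim (RingEquiv.ofBijective
    (Ideal.quotientMap p (algebraMap T R) le_rfl) ⟨Ideal.quotientMap_injective, ?_⟩)
  exact Ideal.quotientMap_surjective hτ

theorem invariants_localized_of_surjective [IsNoetherianRing T] (p : Ideal R) [p.IsPrime] :
    Module.supportDim (Localization.AtPrime (p.comap (algebraMap T R)))
        (LocalizedModule (p.comap (algebraMap T R)).primeCompl N) =
      Module.supportDim (Localization.AtPrime p) (LocalizedModule p.primeCompl N) ∧
    LocCoh.depth (Localization.AtPrime (p.comap (algebraMap T R)))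
        (LocalizedModule (p.comap (algebraMap T R)).primeCompl N) =
      LocCoh.depth (Localization.AtPrime p) (LocalizedModule p.primeCompl N) := by
  let q := p.comap (algebraMap T R)
  let T' := Localization.AtPrime q
  let R' := Localization.AtPrime p
  haveI : IsNoetherianRing R := isNoetherianRing_of_surjective T R _ hτ
  have hu : ∀ t : q.primeCompl, IsUnit (algebraMap R R' (algebraMap T R t)) := fun t =>
    IsLocalization.map_units R' (⟨algebraMap T R t, t.2⟩ : p.primeCompl)
  let φ : T' →+* R' := IsLocalization.lift (g := (algebraMap R R').comp (algebraMap T R)) hu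
  have hφ : ∀ t, φ (algebraMap T T' t) = algebraMap R R' (algebraMap T R t) := fun t => IsLocalization.lift_eq hu t
  have hφs : Function.Surjective φ := fun x => by
    obtain ⟨a, ⟨b, hb⟩, rfl⟩ := IsLocalization.exists_mk'_eq p.primeCompl x
    obtain ⟨a, rfl⟩ := hτ a
    obtain ⟨b, rfl⟩ := hτ b
    refine ⟨IsLocalization.mk' T' a (⟨b, hb⟩ : q.primeCompl), ?_⟩
    rw [IsLocalization.eq_mk'_iff_mul_eq]
    show φ _ * algebraMap R R' (algebraMap T R b) = algebraMap R R' (algebraMap T R a)
    rw [← hφ, ← hφ, ← map_mul, IsLocalization.mk'_spec]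
  letI : Algebra T' R' := φ.toAlgebra
  let g := LocalizedModule.mkLinearMap p.primeCompl N
  haveI : IsLocalizedModule q.primeCompl (g.restrictScalars T) := by
    refine ⟨fun a => ?_, fun y => ?_, fun {x y} hxy => ?_⟩
    · rw [Module.End.isUnit_iff]
      have h1 := (Module.End.isUnit_iff _).1 (IsLocalizedModule.map_units g (⟨algebraMap T R a, a.2⟩ : p.primeCompl))
      have hc : (fun x : LocalizedModule p.primeCompl N => (a : T) • x) = fun x => algebraMap T R a • x :=
        funext fun x => (algebraMap_smul R _ x).symm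
      show Function.Bijective fun x : LocalizedModule p.primeCompl N => (a : T) • x
      rw [hc]
      exact h1
    · obtain ⟨⟨m, ⟨s, hs⟩⟩, hms⟩ := IsLocalizedModule.surj p.primeCompl g y
      obtain ⟨t, rfl⟩ := hτ s
      exact ⟨(m, ⟨t, hs⟩), (algebraMap_smul R t y).symm.trans hms⟩
    · obtain ⟨⟨s, hs⟩, hst⟩ := IsLocalizedModule.exists_of_eq (S := p.primeCompl) (f := g) hxy
      obtain ⟨t, rfl⟩ := hτ s
      exact ⟨⟨t, hs⟩, (algebraMap_smul R t x).symm.trans (hst.trans (algebraMap_smul R t y))⟩
  letI : Module T' (LocalizedModule p.primeCompl N) := Module.compHom _ φ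
  haveI : IsScalarTower T' R' (LocalizedModule p.primeCompl N) := IsScalarTower.of_algebraMap_smul fun _ _ => rfl
  haveI : IsScalarTower T T' (LocalizedModule p.primeCompl N) := IsScalarTower.of_algebraMap_smul fun t m => by
    show φ (algebraMap T T' t) • m = t • m
    rw [hφ, algebraMap_smul, algebraMap_smul]
  let e : LocalizedModule q.primeCompl N ≃ₗ[T'] LocalizedModule p.primeCompl N :=
    LinearEquiv.extendScalarsOfIsLocalization q.primeCompl T' (IsLocalizedModule.iso q.primeCompl (g.restrictScalars T))
  haveI : Module.Finite T' (LocalizedModule p.primeCompl N) := Module.Finite.equiv e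
  exact ⟨(Module.supportDim_eq_of_equiv e).trans (supportDim_eq_of_surjective (T := T') (R := R') hφs _),
    (LocH.idealDepth_congr e _).trans (LocH.depth_eq_of_surjective (A := T') (B := R') hφs _)⟩

theorem hasSk_iff_of_surjective [IsNoetherianRing T] (k : ℕ) : LocCoh.HasSk k T N ↔ LocCoh.HasSk k R N := by
  constructor
  · intro h p _
    obtain ⟨h1, h2⟩ := invariants_localized_of_surjective hτ N p
    rw [← h1, ← h2]
    exact h _
  · intro h q _
    by_cases hs : (⟨q, ‹_›⟩ : PrimeSpectrum T) ∈ Module.support T N
    · rw [Module.mem_support_iff_of_finite, annihilator_of_surjective (T := T) (R := R) N] at hs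
      have hle : RingHom.ker (algebraMap T R) ≤ q := le_trans (Ideal.comap_mono bot_le) hs
      haveI : (q.map (algebraMap T R)).IsPrime := Ideal.map_isPrime_of_surjective hτ hle
      have hq : (q.map (algebraMap T R)).comap (algebraMap T R) = q := by
        rw [Ideal.comap_map_of_surjective' _ hτ, sup_eq_left.mpr hle]
      obtain ⟨h1, h2⟩ := invariants_localized_of_surjective hτ N (q.map (algebraMap T R))
      have key : ∀ (q' : Ideal T) [q'.IsPrime], q' = q →
          min (k : WithBot ℕ∞) (Module.supportDim (Localization.AtPrime q') (LocalizedModule q'.primeCompl N)) ≤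
            ((LocCoh.depth (Localization.AtPrime q') (LocalizedModule q'.primeCompl N) : ℕ∞) : WithBot ℕ∞) →
          min (k : WithBot ℕ∞) (Module.supportDim (Localization.AtPrime q) (LocalizedModule q.primeCompl N)) ≤
            ((LocCoh.depth (Localization.AtPrime q) (LocalizedModule q.primeCompl N) : ℕ∞) : WithBot ℕ∞) := by
        rintro q' _ rfl h'
        exact h'
      exact key _ hq (by rw [h1, h2]; exact h _)
    · rw [Module.notMem_support_iff] at hs
      rw [Module.supportDim_eq_bot_of_subsingleton]
      exact (min_le_right _ _).trans bot_le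

end Surjective

/-- The two conditions computed on a quotient of the local ring. -/
theorem transfer_sk {S O R : Type u} [CommRing S] [CommRing O] [CommRing R] [Algebra O R]
    (J : Ideal S) [IsNoetherianRing (S ⧸ J)] (α : S →+* O) (hα : Function.Surjective α)
    (hψ : Function.Surjective (algebraMap O R)) (hker : RingHom.ker (algebraMap O R) = J.map α)
    (F : Type u) [AddCommGroup F] [Module O F] [Module S F] (hS : ∀ (s : S) (x : F), s • x = α s • x)
    [Module.Finite S F] :
    (∀ k, LocCoh.HasSk k R (R ⊗[O] F) ↔ LocCoh.HasSk k (S ⧸ J) ((S ⧸ J) ⊗[S] F)) ∧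
      (EGA4.IsEquidimModule R (R ⊗[O] F) ↔ EGA4.IsEquidimModule (S ⧸ J) ((S ⧸ J) ⊗[S] F)) := by
  let τ : S ⧸ J →+* R := Ideal.Quotient.lift J ((algebraMap O R).comp α) fun s hs => by
    rw [RingHom.comp_apply, ← RingHom.mem_ker, hker]
    exact Ideal.mem_map_of_mem α hs
  have hτ : Function.Surjective τ :=
    Ideal.Quotient.lift_surjective_of_surjective _ _ (hψ.comp hα)
  letI : Algebra (S ⧸ J) R := τ.toAlgebra
  letI : Algebra S O := α.toAlgebra
  haveI : IsScalarTower S O F := IsScalarTower.of_algebraMap_smul fun s x => (hS s x).symm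
  letI : Algebra S R := ((algebraMap O R).comp α).toAlgebra
  haveI : IsScalarTower S O R := IsScalarTower.of_algebraMap_eq fun _ => rfl
  haveI : IsScalarTower S (S ⧸ J) R := IsScalarTower.of_algebraMap_eq fun _ => rfl
  letI : Module (S ⧸ J) (R ⊗[O] F) := Module.compHom _ τ
  haveI : IsScalarTower (S ⧸ J) R (R ⊗[O] F) := IsScalarTower.of_algebraMap_smul fun _ _ => rfl
  haveI : IsScalarTower S (S ⧸ J) (R ⊗[O] F) := IsScalarTower.of_algebraMap_smul fun s z => by
    show algebraMap S R s • z = s • z
    rw [algebraMap_smul]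
  let g : F →ₗ[S] R ⊗[O] F := ((TensorProduct.mk O R F) 1).restrictScalars S
  have hg : Function.Surjective g := fun z => by
    induction z using TensorProduct.induction_on with
    | zero => exact ⟨0, map_zero _⟩
    | tmul r x =>
      obtain ⟨o, rfl⟩ := hψ r
      exact ⟨o • x, by show (1 : R) ⊗ₜ[O] (o • x) = _; rw [tmul_smul, smul_tmul', Algebra.smul_def, mul_one]⟩
    | add a b ha hb =>
      obtain ⟨x, rfl⟩ := ha
      obtain ⟨y, rfl⟩ := hb
      exact ⟨x + y, map_add _ _ _⟩
  have hgk : ∀ x, g x = 0 → x ∈ J • (⊤ : Submodule S F) := fun x hx => by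
    have h1 : x ∈ J.map α • (⊤ : Submodule O F) := hker ▸ (one_tmul_eq_zero_of_surjective hψ x).1 hx
    have h2 : J • (⊤ : Submodule S F) = (J.map (algebraMap S O) • (⊤ : Submodule O F)).restrictScalars S := by
      rw [Ideal.smul_restrictScalars, Submodule.restrictScalars_top]
    rw [h2]
    exact h1
  let Φ : (S ⧸ J) ⊗[S] F →ₗ[S ⧸ J] R ⊗[O] F := g.liftBaseChange (S ⧸ J)
  have hΦ : ∀ x, Φ ((1 : S ⧸ J) ⊗ₜ[S] x) = g x := fun x => by simp [Φ]
  have hbij : Function.Bijective Φ := by
    refine ⟨(injective_iff_map_eq_zero Φ).2 fun z hz => ?_, fun z => ?_⟩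
    · obtain ⟨x, rfl⟩ := LocalCrit.exists_one_tmul J z
      rw [hΦ] at hz
      exact (LocalCrit.one_tmul_eq_zero_iff J x).2 (hgk x hz)
    · obtain ⟨x, hx⟩ := hg z
      exact ⟨(1 : S ⧸ J) ⊗ₜ[S] x, (hΦ x).trans hx⟩
  let e := LinearEquiv.ofBijective Φ hbij
  haveI : Module.Finite (S ⧸ J) (R ⊗[O] F) := Module.Finite.equiv e
  haveI : IsNoetherianRing R := isNoetherianRing_of_surjective (S ⧸ J) R τ hτ
  exact ⟨fun k => (hasSk_iff_of_surjective hτ (R ⊗[O] F) k).symm.trans ⟨hasSk_congr e.symm k, hasSk_congr e k⟩,
    (isEquidimModule_iff_of_surjective hτ (R ⊗[O] F)).symm.trans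
      ⟨isEquidimModule_congr e.symm, isEquidimModule_congr e⟩⟩

end Groth.Agent.FibDepth
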