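import Groth.Agent.FibDepth.AB
import Groth.Agent.Unibranch.TrDeg
import Groth.Agent.Catenary.DimFormula
import Groth.Agent.Catenary.CM
import Groth.Agent.SerreReg.CM
import Groth.Agent.InvFin.Depth
import Groth.Agent.SMT.CMFree

/-!
# Depth, support dimension and projective dimension in polynomial rings over a field
-/

set_option autoImplicit false
set_option linter.style.haveILetI false

universe u

open IsLocalRing

namespace Groth.Agent.FibDepth

variable {K : Type u} [Field K] {n : ℕ}

instance cm_mvPolynomial : LocCoh.IsCohenMacaulayRing (MvPolynomial (Fin n) K) :=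
  SMT.isCohenMacaulayRing_polynomial K n

/-- Height and relative dimension of a prime of a polynomial ring add up to the number of variables. -/
theorem height_add_rdim (q : Ideal (MvPolynomial (Fin n) K)) [q.IsPrime] :
    q.height + (Unibranch.rdim K q : ℕ∞) = (n : ℕ∞) := by
  haveI : LocCoh.IsCohenMacaulayRing K :=
    { isCohenMacaulayLocalRing_localization := fun p _ => by
        haveI : IsRegularLocalRing (Localization.AtPrime p) := IsRegularRing.isRegularLocalRing_localization p
        exact CMFlat.isCohenMacaulayLocalRing_of_isRegularLocalRing _ }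
  have hK : CAlg.IsUniversallyCatenary K := Catenary.isUniversallyCatenary_of_cm K
  haveI : FaithfulSMul K (MvPolynomial (Fin n) K) :=
    (faithfulSMul_iff_algebraMap_injective _ _).mpr (MvPolynomial.C_injective _ _)
  obtain ⟨a, b, c, d, ha, hb, hc, hd, h⟩ :=
    Catenary.exists_dimension_formula K hK (MvPolynomial (Fin n) K) (q.under K) q
  have h0 : q.under K = ⊥ := Ideal.eq_bot_of_prime _
  rw [h0, Ideal.height_bot, eq_comm, Nat.cast_eq_zero] at hc
  have hd' : d = n := by
    rw [MvPolynomial.trdeg_of_isDomain, Cardinal.mk_fin, Cardinal.lift_natCast] at hd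
    exact_mod_cast hd.symm
  have hb' : Unibranch.rdim K q = b := by
    rw [Unibranch.rdim, hb, Cardinal.toNat_natCast]
  rw [ha, hb', ← Nat.cast_add, h, hc, hd', zero_add]

/-- The dimension of the local ring at a prime. -/
theorem ringKrullDim_localization (q : Ideal (MvPolynomial (Fin n) K)) [q.IsPrime] :
    ringKrullDim (Localization.AtPrime q) = ((n - Unibranch.rdim K q : ℕ) : WithBot ℕ∞) := by
  have h := height_add_rdim q
  obtain ⟨a, ha⟩ := ENat.ne_top_iff_exists.mp (q.height_ne_top_of_isPrime)
  rw [← ha, ← Nat.cast_add, Nat.cast_inj] at h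
  rw [IsLocalization.AtPrime.ringKrullDim_eq_height q (Localization.AtPrime q), ← ha,
    show n - Unibranch.rdim K q = a by omega]
  rfl

theorem rdim_le (q : Ideal (MvPolynomial (Fin n) K)) [q.IsPrime] : Unibranch.rdim K q ≤ n := by
  have h := height_add_rdim q
  exact_mod_cast le_of_add_le_right h.le

/-- Relative dimensions and the height of a prime in a quotient. -/
theorem height_quotient_add_rdim {P q : Ideal (MvPolynomial (Fin n) K)} [P.IsPrime] [q.IsPrime] (h : P ≤ q) :
    (q.map (Ideal.Quotient.mk P)).height + (Unibranch.rdim K q : ℕ∞) = (Unibranch.rdim K P : ℕ∞) := by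
  have h1 := Catenary.height_quotient_add (Catenary.isCatenary_of_cm (MvPolynomial (Fin n) K)) P q h
  have hP := height_add_rdim P
  have hq := height_add_rdim q
  haveI : (q.map (Ideal.Quotient.mk P)).IsPrime :=
    Ideal.map_isPrime_of_surjective Ideal.Quotient.mk_surjective (by rwa [Ideal.mk_ker])
  obtain ⟨a, ha⟩ := ENat.ne_top_iff_exists.mp ((q.map (Ideal.Quotient.mk P)).height_ne_top_of_isPrime)
  obtain ⟨b, hb⟩ := ENat.ne_top_iff_exists.mp (P.height_ne_top_of_isPrime)
  obtain ⟨c, hc⟩ := ENat.ne_top_iff_exists.mp (q.height_ne_top_of_isPrime)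
  rw [← ha, ← hb, ← hc] at h1
  rw [← hb] at hP
  rw [← hc] at hq
  rw [← ha]
  norm_cast at h1 hP hq ⊢
  omega

variable (M : Type u) [AddCommGroup M] [Module (MvPolynomial (Fin n) K) M]
  (q : Ideal (MvPolynomial (Fin n) K)) [q.IsPrime]

/-- The support of a localized module. -/
theorem mem_support_localized {R : Type u} [CommRing R] (N : Type u) [AddCommGroup N] [Module R N]
    (p : Ideal R) [p.IsPrime] (Q : PrimeSpectrum (Localization.AtPrime p)) :
    Q ∈ Module.support (Localization.AtPrime p) (LocalizedModule p.primeCompl N) ↔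
      PrimeSpectrum.comap (algebraMap R (Localization.AtPrime p)) Q ∈ Module.support R N := by
  rw [Module.mem_support_iff', Module.mem_support_iff']
  constructor
  · rintro ⟨x, hx⟩
    induction x using LocalizedModule.induction_on with
    | h m s =>
      refine ⟨m, fun r hr h0 => hx (algebraMap R _ r) hr ?_⟩
      rw [algebraMap_smul, LocalizedModule.smul'_mk, h0, LocalizedModule.zero_mk]
  · rintro ⟨m, hm⟩
    refine ⟨LocalizedModule.mkLinearMap p.primeCompl N m, fun a ha h0 => ?_⟩
    obtain ⟨⟨r, s⟩, hrs⟩ := IsLocalization.surj p.primeCompl a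
    have hs : algebraMap R (Localization.AtPrime p) s ∉ Q.asIdeal := fun hs =>
      Q.isPrime.ne_top (Ideal.eq_top_of_isUnit_mem _ hs (IsLocalization.map_units _ s))
    have hr : algebraMap R (Localization.AtPrime p) r ∉ Q.asIdeal := fun hr => by
      rw [← hrs] at hr
      exact (Q.isPrime.mem_or_mem hr).elim ha hs
    have h1 : LocalizedModule.mkLinearMap p.primeCompl N (r • m) = LocalizedModule.mkLinearMap p.primeCompl N 0 := by
      rw [map_smul, map_zero, ← algebraMap_smul (Localization.AtPrime p) r, ← hrs, mul_comm, mul_smul, h0, smul_zero]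
    obtain ⟨u, hu⟩ := IsLocalizedModule.exists_of_eq (S := p.primeCompl) h1
    have hu' : algebraMap R (Localization.AtPrime p) u ∉ Q.asIdeal := fun h =>
      Q.isPrime.ne_top (Ideal.eq_top_of_isUnit_mem _ h (IsLocalization.map_units _ u))
    refine hm ((u : R) * r) (fun h => ?_) ?_
    · have h' : algebraMap R (Localization.AtPrime p) u * algebraMap R (Localization.AtPrime p) r ∈ Q.asIdeal := by
        rw [← map_mul]; exact h
      exact (Q.isPrime.mem_or_mem h').elim hu' hr
    · simpa [mul_smul, Submonoid.smul_def] using hu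

/-- Support dimension plus relative dimension is the largest relative dimension of a generisation in the
support. -/
theorem supportDim_add_rdim_le_iff (e : ℕ) :
    Module.supportDim (Localization.AtPrime q) (LocalizedModule q.primeCompl M) +
        (Unibranch.rdim K q : WithBot ℕ∞) ≤ (e : WithBot ℕ∞) ↔
      ∀ P : PrimeSpectrum (MvPolynomial (Fin n) K), P ∈ Module.support _ M → P.asIdeal ≤ q →
        Unibranch.rdim K P.asIdeal ≤ e := by
  let R := MvPolynomial (Fin n) K
  let L := Localization.AtPrime q
  let c := PrimeSpectrum.comap (algebraMap R L)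
  have hc : ∀ Q, (c Q).asIdeal ≤ q := fun Q r hr => by
    by_contra h
    exact Q.isPrime.ne_top (Ideal.eq_top_of_isUnit_mem _ hr (IsLocalization.map_units L (⟨r, h⟩ : q.primeCompl)))
  have hsm : StrictMono c := fun a b h => lt_of_le_of_ne (Ideal.comap_mono h.le)
    fun e => h.ne (PrimeSpectrum.localization_comap_injective L q.primeCompl e)
  constructor
  · intro h P hP hPq
    haveI : (q.map (Ideal.Quotient.mk P.asIdeal)).IsPrime :=
      Ideal.map_isPrime_of_surjective Ideal.Quotient.mk_surjective (by rwa [Ideal.mk_ker])
    obtain ⟨k, hk⟩ := ENat.ne_top_iff_exists.mp ((q.map (Ideal.Quotient.mk P.asIdeal)).height_ne_top_of_isPrime)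
    obtain ⟨l, hl, hlen⟩ := Order.exists_series_of_height_eq_coe (⟨q.map (Ideal.Quotient.mk P.asIdeal), ‹_›⟩ : PrimeSpectrum _)
      (show Order.height _ = (k : ℕ∞) by rw [← PrimeSpectrum.height_eq_orderHeight]; exact hk.symm)
    have hle : ∀ i, P.asIdeal ≤ (PrimeSpectrum.comap (Ideal.Quotient.mk P.asIdeal) (l i)).asIdeal := fun i a ha => by
      show Ideal.Quotient.mk P.asIdeal a ∈ (l i).asIdeal
      rw [Ideal.Quotient.eq_zero_iff_mem.mpr ha]
      exact zero_mem _
    have hleq : ∀ i, (PrimeSpectrum.comap (Ideal.Quotient.mk P.asIdeal) (l i)).asIdeal ≤ q := fun i => by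
      have h1 : (l i).asIdeal ≤ q.map (Ideal.Quotient.mk P.asIdeal) := by
        have := l.monotone (Fin.le_last i)
        rw [show l (Fin.last l.length) = l.last from rfl, hl] at this
        exact this
      refine (Ideal.comap_mono h1).trans ?_
      rw [Ideal.comap_map_of_surjective' _ Ideal.Quotient.mk_surjective, Ideal.mk_ker, sup_eq_left.mpr hPq]
    have hlift : ∀ i, ∃ Q : PrimeSpectrum L, c Q = PrimeSpectrum.comap (Ideal.Quotient.mk P.asIdeal) (l i) := fun i => by
      have : PrimeSpectrum.comap (Ideal.Quotient.mk P.asIdeal) (l i) ∈ Set.range c := by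
        rw [PrimeSpectrum.localization_comap_range L q.primeCompl]
        exact Set.disjoint_left.mpr fun r hr h' => hr (hleq i h')
      exact this
    choose Q hQ using hlift
    have hsupp : ∀ i, Q i ∈ Module.support L (LocalizedModule q.primeCompl M) := fun i => by
      rw [mem_support_localized, show PrimeSpectrum.comap (algebraMap R L) (Q i) = _ from hQ i]
      exact Module.mem_support_mono (hle i) hP
    let s : LTSeries (Module.support L (LocalizedModule q.primeCompl M)) :=
      { length := l.length
        toFun := fun i => ⟨Q i, hsupp i⟩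
        step := fun i => by
          refine lt_of_le_of_ne (α := Module.support L (LocalizedModule q.primeCompl M)) ?_ fun e => ?_
          · intro a ha
            obtain ⟨⟨r, t⟩, hrt⟩ := IsLocalization.surj q.primeCompl a
            have h1 : algebraMap R L r ∈ (Q i.castSucc).asIdeal := hrt ▸ Ideal.mul_mem_right _ _ ha
            have h2 : r ∈ (c (Q i.succ)).asIdeal := by
              rw [hQ]
              have h3 : r ∈ (c (Q i.castSucc)).asIdeal := h1
              rw [hQ] at h3
              exact Ideal.comap_mono (l.step i).le h3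
            have h4 : a * algebraMap R L t ∈ (Q i.succ).asIdeal := hrt ▸ h2
            refine ((Q i.succ).isPrime.mem_or_mem h4).resolve_right fun h5 => ?_
            exact (Q i.succ).isPrime.ne_top (Ideal.eq_top_of_isUnit_mem _ h5 (IsLocalization.map_units L t))
          · refine (show l i.castSucc < l i.succ from l.step i).ne
              (PrimeSpectrum.comap_injective_of_surjective _ Ideal.Quotient.mk_surjective ?_)
            rw [← hQ, ← hQ]
            exact congrArg c (congrArg Subtype.val e) }
    have h1 : (l.length : WithBot ℕ∞) ≤ Module.supportDim L (LocalizedModule q.primeCompl M) :=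
      Order.LTSeries.length_le_krullDim s
    have h2 := le_trans (add_le_add_left h1 _) h
    have h3 := height_quotient_add_rdim hPq
    rw [← hk] at h3
    rw [hlen] at h2
    norm_cast at h2 h3
    omega
  · intro h
    rcases isEmpty_or_nonempty (Module.support L (LocalizedModule q.primeCompl M)) with he | he
    · rw [Module.supportDim, Order.krullDim_eq_bot, WithBot.bot_add]
      exact bot_le
    rw [Module.supportDim, Order.krullDim_eq_iSup_length, ← WithBot.coe_natCast (Unibranch.rdim K q),
      ← WithBot.coe_natCast e, ← WithBot.coe_add, WithBot.coe_le_coe, ENat.iSup_add]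
    refine iSup_le fun s => ?_
    let P := c (s.head).1
    have hP : P ∈ Module.support R M := (mem_support_localized M q _).mp s.head.2
    haveI : (q.map (Ideal.Quotient.mk P.asIdeal)).IsPrime :=
      Ideal.map_isPrime_of_surjective Ideal.Quotient.mk_surjective (by rw [Ideal.mk_ker]; exact hc _)
    have hP0 : ∀ i, P.asIdeal ≤ (c (s i).1).asIdeal := fun i => Ideal.comap_mono (s.head_le i)
    have hpi : ∀ i, ((c (s i).1).asIdeal.map (Ideal.Quotient.mk P.asIdeal)).IsPrime := fun i =>
      Ideal.map_isPrime_of_surjective Ideal.Quotient.mk_surjective (by rw [Ideal.mk_ker]; exact hP0 i)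
    have hcm : ∀ i, ((c (s i).1).asIdeal.map (Ideal.Quotient.mk P.asIdeal)).comap (Ideal.Quotient.mk P.asIdeal) =
        (c (s i).1).asIdeal := fun i => by
      rw [Ideal.comap_map_of_surjective' _ Ideal.Quotient.mk_surjective, Ideal.mk_ker, sup_eq_left.mpr (hP0 i)]
    let t : LTSeries (PrimeSpectrum (R ⧸ P.asIdeal)) :=
      { length := s.length
        toFun := fun i => ⟨_, hpi i⟩
        step := fun i => lt_of_le_of_ne (Ideal.map_mono (Ideal.comap_mono (s.step i).le)) fun e => by
          have h1 := congrArg (Ideal.comap (Ideal.Quotient.mk P.asIdeal)) e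
          exact (hsm (show (s i.castSucc).1 < (s i.succ).1 from s.step i)).ne
            (PrimeSpectrum.ext ((hcm _).symm.trans (h1.trans (hcm _)))) }
    have hlast : t.last ≤ ⟨q.map (Ideal.Quotient.mk P.asIdeal), ‹_›⟩ := Ideal.map_mono (hc _)
    have h1 : (s.length : ℕ∞) ≤ (q.map (Ideal.Quotient.mk P.asIdeal)).height := by
      rw [PrimeSpectrum.height_eq_orderHeight (⟨_, ‹_›⟩ : PrimeSpectrum (R ⧸ P.asIdeal))]
      exact Order.length_le_height (p := t) hlast
    calc (s.length : ℕ∞) + (Unibranch.rdim K q : ℕ∞)
        ≤ (q.map (Ideal.Quotient.mk P.asIdeal)).height + (Unibranch.rdim K q : ℕ∞) := add_le_add_left h1 _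
      _ = (Unibranch.rdim K P.asIdeal : ℕ∞) := height_quotient_add_rdim (hc _)
      _ ≤ e := by exact_mod_cast h P hP (hc _)

end Groth.Agent.FibDepth
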