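import Groth.Agent.FibDepth.Fibre
import Groth.Agent.FlatRes.Basic
import Groth.Agent.FlatRes.FibreFree
import Groth.Agent.InjFibre.Loc

/-!
# Openness of the locus of bounded projective dimension along the fibres
-/

set_option autoImplicit false
set_option linter.style.haveILetI false
set_option backward.isDefEq.respectTransparency false

universe u

open IsLocalRing TensorProduct

namespace Groth.Agent.FibDepth

theorem mem_map_smul_of_mem {A S K F N : Type u} [CommRing A] [CommRing S] [Algebra A S]
    [AddCommGroup K] [Module S K] [Module A K] [IsScalarTower A S K]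
    [AddCommGroup F] [Module S F] [Module A F] [IsScalarTower A S F]
    [AddCommGroup N] [Module S N] [Module A N] [IsScalarTower A S N] [Module.Flat A N]
    (ι : K →ₗ[S] F) (π : F →ₗ[S] N) (hι : Function.Injective ι) (hπ : Function.Surjective π)
    (hex : Function.Exact ι π) (p : Ideal A) (x : K)
    (hx : ι x ∈ p.map (algebraMap A S) • (⊤ : Submodule S F)) :
    x ∈ p.map (algebraMap A S) • (⊤ : Submodule S K) := by
  have h1 : ι x ∈ p • (⊤ : Submodule A F) := by
    have : (p • (⊤ : Submodule A F)) = (p.map (algebraMap A S) • (⊤ : Submodule S F)).restrictScalars A := by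
      rw [Ideal.smul_restrictScalars, Submodule.restrictScalars_top]
    rw [this]
    exact hx
  have h2 := LocalCrit.mem_smul_of_map_mem_of_mulMap_injective (R := A) (ι.restrictScalars A) hι
    (π.restrictScalars A) hπ hex p (LocalCrit.mulMap_injective p) (x := x) h1
  have h3 : x ∈ (p.map (algebraMap A S) • (⊤ : Submodule S K)).restrictScalars A := by
    rw [Ideal.smul_restrictScalars, Submodule.restrictScalars_top]
    exact h2
  exact h3

/-- The kernel of a surjection between flat modules is flat. -/
theorem flat_ker {R M N P : Type u} [CommRing R] [AddCommGroup M] [Module R M] [AddCommGroup N] [Module R N]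
    [AddCommGroup P] [Module R P] [Module.Flat R N] [Module.Flat R P] (f : M →ₗ[R] N) (g : N →ₗ[R] P)
    (hf : Function.Injective f) (hg : Function.Surjective g) (hfg : Function.Exact f g) : Module.Flat R M := by
  rw [Module.Flat.iff_rTensor_injective']
  intro I
  have h1 := LinearMap.lTensor_injective_of_exact_of_flat g hg f hf hfg I
  have h2 := Module.Flat.rTensor_preserves_injective_linearMap (M := N) (I.subtype) (Submodule.injective_subtype I)
  refine Function.Injective.of_comp (f := f.lTensor R) ?_
  have he : f.lTensor R ∘ₗ I.subtype.rTensor M = I.subtype.rTensor N ∘ₗ f.lTensor I := by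
    rw [LinearMap.lTensor_comp_rTensor, LinearMap.rTensor_comp_lTensor]
  rw [← LinearMap.coe_comp, he, LinearMap.coe_comp]
  exact h2.comp h1

variable {A B : Type u} [CommRing A] [CommRing B] [Algebra A B]

theorem isScalarTower_localized (G : Submonoid B) (M : Type u) [AddCommGroup M] [Module B M] [Module A M]
    [IsScalarTower A B M] : IsScalarTower A (Localization G) (LocalizedModule G M) :=
  IsScalarTower.of_algebraMap_smul fun a x => by
    rw [IsScalarTower.algebraMap_apply A B (Localization G), algebraMap_smul, algebraMap_smul]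

/-- The fibre is free exactly where the module is. -/
theorem pdLE_zero_iff_mem_freeLocus (M : Type u) [AddCommGroup M] [Module B M] [Module A M]
    [IsScalarTower A B M] [Module.FinitePresentation B M] [Module.Flat A M] (Q : PrimeSpectrum B) :
    SerreReg.PdLE (FibQ A Q.asIdeal) (FibM A Q.asIdeal M) 0 ↔ Q ∈ Module.freeLocus B M := by
  haveI := isScalarTower_localized (A := A) Q.asIdeal.primeCompl M
  haveI : Module.Flat A (LocalizedModule Q.asIdeal.primeCompl M) :=
    InjFibre.flat_localized Q.asIdeal.primeCompl (LocalizedModule.mkLinearMap Q.asIdeal.primeCompl M)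
  rw [SerreReg.pdLE_zero_iff, Module.mem_freeLocus]
  refine ⟨fun h => ?_, fun h => inferInstance⟩
  haveI := h
  exact FlatRes.free_of_fibre_free (A := A) (Q.asIdeal.under A) (fibIdeal_le A Q.asIdeal)
    Module.free_of_flat_of_isLocalRing

/-- A short exact sequence which stays exact modulo an ideal, as a step of a resolution. -/
theorem pdLE_quot_succ_iff {S K F N : Type u} [CommRing S] [AddCommGroup K] [Module S K] [AddCommGroup F]
    [Module S F] [Module.Free S F] [AddCommGroup N] [Module S N] (J : Ideal S) (ι : K →ₗ[S] F) (π : F →ₗ[S] N)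
    (hπ : Function.Surjective π) (hex : Function.Exact ι π)
    (hmem : ∀ x, ι x ∈ J • (⊤ : Submodule S F) → x ∈ J • (⊤ : Submodule S K)) (j : ℕ) :
    SerreReg.PdLE (S ⧸ J) ((S ⧸ J) ⊗[S] N) (j + 1) ↔ SerreReg.PdLE (S ⧸ J) ((S ⧸ J) ⊗[S] K) j := by
  let T := S ⧸ J
  let ιT := ι.baseChange T
  let πT := π.baseChange T
  have hπT : Function.Surjective πT := LinearMap.lTensor_surjective T hπ
  have hexT : Function.Exact ιT πT := lTensor_exact T hex hπ
  have hιT : Function.Injective ιT := by
    refine (injective_iff_map_eq_zero ιT).2 fun z hz => ?_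
    obtain ⟨x, rfl⟩ := LocalCrit.exists_one_tmul J z
    rw [LinearMap.baseChange_tmul, LocalCrit.one_tmul_eq_zero_iff] at hz
    rw [LocalCrit.one_tmul_eq_zero_iff]
    exact hmem x hz
  let e : T ⊗[S] K ≃ₗ[T] LinearMap.ker πT :=
    (LinearEquiv.ofInjective ιT hιT).trans (LinearEquiv.ofEq _ _ (hexT.linearMap_ker_eq).symm)
  rw [SerreReg.pdLE_succ_iff πT hπT]
  exact ⟨SerreReg.pdLE_of_equiv e.symm, SerreReg.pdLE_of_equiv e⟩

/-- One step of a resolution, read in the fibre. -/
theorem pdLE_succ_iff_ker (M : Type u) [AddCommGroup M] [Module B M] [Module A M] [IsScalarTower A B M]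
    [Module.Flat A M] {m : ℕ} (g : (Fin m → B) →ₗ[B] M) (hg : Function.Surjective g) (j : ℕ)
    (Q : PrimeSpectrum B) :
    SerreReg.PdLE (FibQ A Q.asIdeal) (FibM A Q.asIdeal M) (j + 1) ↔
      SerreReg.PdLE (FibQ A Q.asIdeal) (FibM A Q.asIdeal (LinearMap.ker g)) j := by
  let G := Q.asIdeal.primeCompl
  haveI := isScalarTower_localized (A := A) G M
  haveI := isScalarTower_localized (A := A) G (Fin m → B)
  haveI := isScalarTower_localized (A := A) G (LinearMap.ker g)
  haveI : Module.Flat A (LocalizedModule G M) :=
    InjFibre.flat_localized G (LocalizedModule.mkLinearMap G M)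
  haveI : Module.Free (Localization G) (LocalizedModule G (Fin m → B)) :=
    Module.free_of_isLocalizedModule G (LocalizedModule.mkLinearMap G (Fin m → B))
  exact pdLE_quot_succ_iff (fibIdeal A Q.asIdeal) (LocalizedModule.map G (LinearMap.ker g).subtype)
    (LocalizedModule.map G g) (LocalizedModule.map_surjective G _ hg)
    (LocalizedModule.map_exact G _ _ (LinearMap.exact_subtype_ker_map g))
    (fun x hx => mem_map_smul_of_mem _ _ (LocalizedModule.map_injective G _ (Submodule.injective_subtype _))
      (LocalizedModule.map_surjective G _ hg) (LocalizedModule.map_exact G _ _ (LinearMap.exact_subtype_ker_map g))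
      _ x hx) j

/-- The locus where the fibre has projective dimension at most `j` is open. -/
theorem isOpen_pdLE [Algebra.FinitePresentation A B] [Module.Flat A B] : ∀ (j : ℕ) (M : Type u) [AddCommGroup M]
    [Module B M] [Module A M] [IsScalarTower A B M] [Module.FinitePresentation B M] [Module.Flat A M],
    IsOpen {Q : PrimeSpectrum B | SerreReg.PdLE (FibQ A Q.asIdeal) (FibM A Q.asIdeal M) j} := by
  intro j
  induction j with
  | zero =>
    intro M _ _ _ _ _ _
    convert Module.isOpen_freeLocus (R := B) (M := M) using 1
    exact Set.ext (pdLE_zero_iff_mem_freeLocus M)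
  | succ j ih =>
    intro M _ _ _ _ _ _
    obtain ⟨m, g, hg⟩ := Module.Finite.exists_fin' B M
    haveI : Module.FinitePresentation B (LinearMap.ker g) := FlatRes.finitePresentation_ker (A := A) g hg
    haveI : Module.Flat A (Fin m → B) := Module.Flat.trans A B (Fin m → B)
    haveI : Module.Flat A (LinearMap.ker g) := flat_ker ((LinearMap.ker g).subtype.restrictScalars A)
      (g.restrictScalars A) (Submodule.injective_subtype _) hg (LinearMap.exact_subtype_ker_map g)
    convert ih (LinearMap.ker g) using 1
    exact Set.ext (pdLE_succ_iff_ker M g hg j)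

end Groth.Agent.FibDepth
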