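import Groth.Agent.FibDepth.DimOpen
import Groth.Agent.FibDepth.PdOpen
import Groth.Agent.InvFin.Depth

/-!
# Openness of the loci of rectified depth and of codepth along the fibres, over polynomial rings
-/

set_option autoImplicit false
set_option linter.style.haveILetI false
set_option backward.isDefEq.respectTransparency false

universe u

open IsLocalRing

namespace Groth.Agent.FibDepth

/-- Arithmetic: codepth bounded, read through a bound of the support dimension. -/
theorem le_add_iff_exists (s : WithBot ℕ∞) (d : ℕ∞) (r k : ℕ)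
    (h : (s = ⊥ ∧ d = ⊤) ∨ ∃ a b : ℕ, s = (a : WithBot ℕ∞) ∧ d = (b : ℕ∞)) :
    s ≤ (d : WithBot ℕ∞) + (k : WithBot ℕ∞) ↔
      ∃ e : ℕ, s + (r : WithBot ℕ∞) ≤ (e : WithBot ℕ∞) ∧ ((e - k : ℕ) : ℕ∞) ≤ d + (r : ℕ∞) := by
  rcases h with ⟨rfl, rfl⟩ | ⟨a, b, rfl, rfl⟩
  · simp
  · norm_cast
    constructor
    · intro h
      exact ⟨a + r, le_rfl, by omega⟩
    · rintro ⟨e, h1, h2⟩
      omega

theorem supportDim_depth_cases {T : Type u} [CommRing T] [IsLocalRing T] [IsNoetherianRing T] {d : ℕ}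
    (hd : ringKrullDim T = d) (N : Type u) [AddCommGroup N] [Module T N] [Module.Finite T N] :
    (Module.supportDim T N = ⊥ ∧ LocCoh.depth T N = ⊤) ∨
      ∃ a b : ℕ, Module.supportDim T N = (a : WithBot ℕ∞) ∧ LocCoh.depth T N = (b : ℕ∞) := by
  rcases subsingleton_or_nontrivial N with h | h
  · left
    refine ⟨Module.supportDim_eq_bot_of_subsingleton T N, ?_⟩
    rw [LocCoh.depth, LocCoh.idealDepth, if_pos (Subsingleton.elim _ _)]
  · right
    obtain ⟨s, hs⟩ := WithBot.ne_bot_iff_exists.mp (Module.supportDim_ne_bot_of_nontrivial T N)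
    have h1 := Module.supportDim_le_ringKrullDim T N
    rw [← hs, hd, ← WithBot.coe_natCast d, WithBot.coe_le_coe] at h1
    obtain ⟨a, ha⟩ := ENat.ne_top_iff_exists.mp (ne_top_of_le_ne_top (ENat.natCast_ne_top d) h1)
    have hsa : Module.supportDim T N = (a : WithBot ℕ∞) := by rw [← hs, ← ha]; rfl
    obtain ⟨b, hb⟩ := ENat.ne_top_iff_exists.mp
      (ne_top_of_le_ne_top (ENat.natCast_ne_top a) (InvFin.depth_le_supportDim N hsa))
    exact ⟨a, b, hsa, hb.symm⟩

variable {A : Type u} [CommRing A] {n : ℕ}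
variable (M : Type u) [AddCommGroup M] [Module (MvPolynomial (Fin n) A) M]

section

variable [Module.Finite (MvPolynomial (Fin n) A) M]

/-- Rectified depth at least `m`, through projective dimension. -/
theorem rect_iff (Q : PrimeSpectrum (MvPolynomial (Fin n) A)) (m : ℕ) :
    (m : ℕ∞) ≤ LocCoh.depth (FibQ A Q.asIdeal) (FibM A Q.asIdeal M) + (Unibranch.rdim A Q.asIdeal : ℕ∞) ↔
      if m ≤ n then SerreReg.PdLE (FibQ A Q.asIdeal) (FibM A Q.asIdeal M) (n - m)
      else Q ∉ Module.support (MvPolynomial (Fin n) A) M := by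
  haveI := isRegularLocalRing_fibQ Q.asIdeal
  have hr := rdim_le_card Q.asIdeal
  have hd := ringKrullDim_fibQ Q.asIdeal
  rcases supportDim_depth_cases hd (FibM A Q.asIdeal M) with ⟨h1, h2⟩ | ⟨a, b, h1, h2⟩
  · rw [h2]
    have hsub : Q ∉ Module.support (MvPolynomial (Fin n) A) M :=
      (subsingleton_fibM_iff A Q.asIdeal M).1 ((Module.supportDim_eq_bot_iff_subsingleton _ _).1 h1)
    split_ifs with hm
    · refine iff_of_true (by simp) ?_
      rw [pdLE_iff_le_depth _ hd, h2]
      exact le_top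
    · exact iff_of_true (by simp) hsub
  · have hne : Q ∈ Module.support (MvPolynomial (Fin n) A) M := by
      by_contra hQ
      have := (Module.supportDim_eq_bot_iff_subsingleton (FibQ A Q.asIdeal)
        (FibM A Q.asIdeal M)).2 ((subsingleton_fibM_iff A Q.asIdeal M).2 hQ)
      rw [h1] at this
      exact WithBot.natCast_ne_bot a this
    have hb : b ≤ n - Unibranch.rdim A Q.asIdeal := by
      have h3 := Module.supportDim_le_ringKrullDim (FibQ A Q.asIdeal) (FibM A Q.asIdeal M)
      have h4 := InvFin.depth_le_supportDim (FibM A Q.asIdeal M) h1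
      rw [h1, hd] at h3
      rw [h2] at h4
      norm_cast at h3 h4
      omega
    rw [h2]
    split_ifs with hm
    · rw [pdLE_iff_le_depth _ hd, h2]
      norm_cast
      omega
    · refine iff_of_false ?_ (not_not.mpr hne)
      norm_cast
      omega

end

variable [Module.FinitePresentation (MvPolynomial (Fin n) A) M] [Module A M]
  [IsScalarTower A (MvPolynomial (Fin n) A) M] [Module.Flat A M]

/-- The rectified depth along the fibres is lower semicontinuous. -/
theorem isOpen_rect (m : ℕ) :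
    IsOpen {Q : PrimeSpectrum (MvPolynomial (Fin n) A) |
      (m : ℕ∞) ≤ LocCoh.depth (FibQ A Q.asIdeal) (FibM A Q.asIdeal M) + (Unibranch.rdim A Q.asIdeal : ℕ∞)} := by
  simp only [rect_iff]
  split_ifs
  · exact isOpen_pdLE (n - m) M
  · rw [Module.support_eq_zeroLocus]
    exact (PrimeSpectrum.isClosed_zeroLocus _).isOpen_compl

/-- The codepth along the fibres is upper semicontinuous. -/
theorem isOpen_coprof (k : ℕ) :
    IsOpen {Q : PrimeSpectrum (MvPolynomial (Fin n) A) |
      Module.supportDim (FibQ A Q.asIdeal) (FibM A Q.asIdeal M) ≤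
        (LocCoh.depth (FibQ A Q.asIdeal) (FibM A Q.asIdeal M) : WithBot ℕ∞) + (k : WithBot ℕ∞)} := by
  have heq : {Q : PrimeSpectrum (MvPolynomial (Fin n) A) |
      Module.supportDim (FibQ A Q.asIdeal) (FibM A Q.asIdeal M) ≤
        (LocCoh.depth (FibQ A Q.asIdeal) (FibM A Q.asIdeal M) : WithBot ℕ∞) + (k : WithBot ℕ∞)} =
      ⋃ e : ℕ, {Q | Module.supportDim (FibQ A Q.asIdeal) (FibM A Q.asIdeal M) +
          (Unibranch.rdim A Q.asIdeal : WithBot ℕ∞) ≤ (e : WithBot ℕ∞)} ∩
        {Q | ((e - k : ℕ) : ℕ∞) ≤ LocCoh.depth (FibQ A Q.asIdeal) (FibM A Q.asIdeal M) +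
          (Unibranch.rdim A Q.asIdeal : ℕ∞)} := by
    ext Q
    haveI := isRegularLocalRing_fibQ Q.asIdeal
    simp only [Set.mem_iUnion, Set.mem_inter_iff, Set.mem_setOf_eq]
    exact le_add_iff_exists _ _ _ k (supportDim_depth_cases (ringKrullDim_fibQ Q.asIdeal) _)
  rw [heq]
  exact isOpen_iUnion fun e => (isOpen_supportDim_le M e).inter (isOpen_rect M _)

end Groth.Agent.FibDepth
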