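import Groth.Agent.FibDepth.AB
import Groth.Agent.FibDepth.Loci
import Groth.Agent.Dim.ProjDimOpen
import Groth.Agent.SupportLib.Ann
import Groth.Agent.SupportLib.Pull
import Groth.Agent.InvFin.Depth
import Groth.Agent.LocH.AdjDepthChange
import Groth.Agent.RegLoc.Order

/-!
# Rectified depth on regular biequidimensional schemes
-/

set_option autoImplicit false
set_option linter.style.haveILetI false
set_option backward.isDefEq.respectTransparency false

universe u

open CategoryTheory AlgebraicGeometry IsLocalRing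

namespace Groth.Agent.FibDepth

/-- The depth of a nonzero finite module over a regular local ring is at most the dimension. -/
theorem exists_depth_eq {A : Type u} [CommRing A] [IsRegularLocalRing A] {d : ℕ} (hd : ringKrullDim A = d)
    (N : Type u) [AddCommGroup N] [Module A N] [Module.Finite A N] [Nontrivial N] :
    ∃ b ≤ d, LocCoh.depth A N = (b : ℕ∞) := by
  rcases supportDim_depth_cases hd N with ⟨h1, -⟩ | ⟨a, b, h1, h2⟩
  · exact absurd ((Module.supportDim_eq_bot_iff_subsingleton _ _).1 h1) (not_subsingleton N)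
  · refine ⟨b, ?_, h2⟩
    have h3 := Module.supportDim_le_ringKrullDim A N
    have h4 := InvFin.depth_le_supportDim N h1
    rw [h1, hd] at h3
    rw [h2] at h4
    norm_cast at h3 h4
    omega

/-- The formula of Auslander and Buchsbaum as an equality. -/
theorem projectiveDimension_eq {A : Type u} [CommRing A] [IsRegularLocalRing A] {d b : ℕ} (hd : ringKrullDim A = d)
    (N : Type u) [AddCommGroup N] [Module A N] [Module.Finite A N] [Nontrivial N]
    (hb : LocCoh.depth A N = (b : ℕ∞)) :
    projectiveDimension (ModuleCat.of A N) = ((d - b : ℕ) : WithBot ℕ∞) := by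
  have key : ∀ k : ℕ, projectiveDimension (ModuleCat.of A N) ≤ (k : WithBot ℕ∞) ↔ d - b ≤ k := fun k => by
    rw [projectiveDimension_le_iff]
    refine (pdLE_iff_le_depth A hd k N).trans ?_
    rw [hb, Nat.cast_le]
    omega
  refine le_antisymm ((key _).2 le_rfl) ?_
  rcases Nat.eq_zero_or_pos (d - b) with h0 | h0
  · rw [h0]
    have hne : projectiveDimension (ModuleCat.of A N) ≠ ⊥ := fun h => by
      rw [projectiveDimension_eq_bot_iff] at h
      exact not_subsingleton N (ModuleCat.isZero_iff_subsingleton.1 h)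
    obtain ⟨v, hv⟩ := WithBot.ne_bot_iff_exists.1 hne
    rw [← hv, Nat.cast_zero]
    exact WithBot.coe_le_coe.2 zero_le
  · rw [projectiveDimension_ge_iff]
    intro h
    obtain ⟨m, hm⟩ : ∃ m, d - b = m + 1 := ⟨d - b - 1, by omega⟩
    rw [hm] at h
    have h1 := (key m).1 ((projectiveDimension_le_iff _ _).2 h)
    omega

section Scheme

variable (X : Scheme.{u})

/-- The dimension of the space of generisations is the dimension of the local ring. -/
theorem dim_generalizations (x : X) :
    topologicalKrullDim ↥{t : X | t ⤳ x} = ringKrullDim (X.presheaf.stalk x) := by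
  rw [← X.range_fromSpecStalk]
  exact (IsHomeomorph.topologicalKrullDim_eq _
    (X.fromSpecStalk x).isEmbedding.toHomeomorph.isHomeomorph).symm.trans
      (PrimeSpectrum.topologicalKrullDim_eq_ringKrullDim (R := X.presheaf.stalk x))

/-- The generisations of a point with integral local ring lie on one component. -/
theorem exists_component_forall (x : X) [IsDomain (X.presheaf.stalk x)] :
    ∃ C ∈ irreducibleComponents (X : Type u), IsClosed C ∧ IsIrreducible C ∧ x ∈ C ∧ ∀ t, t ⤳ x → t ∈ C := by
  let η : X := X.fromSpecStalk x ⟨⊥, Ideal.isPrime_bot⟩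
  have hη : ∀ t, t ⤳ x → η ⤳ t := fun t ht => by
    obtain ⟨p, rfl⟩ : t ∈ Set.range (X.fromSpecStalk x) := by rw [X.range_fromSpecStalk]; exact ht
    exact ((PrimeSpectrum.le_iff_specializes (⟨⊥, Ideal.isPrime_bot⟩ : PrimeSpectrum (X.presheaf.stalk x)) p).1
      bot_le).map (X.fromSpecStalk x).continuous
  refine ⟨closure {η}, ⟨isIrreducible_singleton.closure, fun Z hZ hle => ?_⟩, isClosed_closure,
    isIrreducible_singleton.closure, specializes_iff_mem_closure.1 (hη x specializes_rfl),
    fun t ht => specializes_iff_mem_closure.1 (hη t ht)⟩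
  obtain ⟨v, hv⟩ := QuasiSober.sober hZ.closure isClosed_closure
  have hvη : v ⤳ η := by
    rw [specializes_iff_mem_closure, hv.def]
    exact subset_closure (hle (subset_closure rfl))
  have h1 : η ⤳ v := hη v (hvη.trans (hη x specializes_rfl))
  rw [(hvη.antisymm h1).eq.symm, hv.def]
  exact subset_closure

variable [IsNoetherian X] (hreg : ∀ x : X, IsRegularLocalRing ↑(X.presheaf.stalk x))
  (hfin : topologicalKrullDim X < ⊤)
  (hcomp : ∀ C ∈ irreducibleComponents (X : Type u), topologicalKrullDim ↥C = topologicalKrullDim X)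
  (hchain : ∀ (y : X) (T : Set X), IsClosed T → IsIrreducible T → y ∈ T →
    topologicalKrullDim ↥T = topologicalKrullDim ↥(closure ({y} : Set X)) + topologicalKrullDim ↥{t : X | t ∈ T ∧ t ⤳ y})

include hreg hfin hcomp hchain in
omit [AlgebraicGeometry.IsNoetherian X] in
/-- The dimensions at a point of a regular biequidimensional scheme. -/
theorem exists_dims (x : X) :
    ∃ a d N : ℕ, topologicalKrullDim ↥(closure ({x} : Set X)) = (a : WithBot ℕ∞) ∧
      ringKrullDim (X.presheaf.stalk x) = (d : WithBot ℕ∞) ∧ topologicalKrullDim X = (N : WithBot ℕ∞) ∧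
      a + d = N := by
  haveI := hreg x
  haveI : IsDomain (X.presheaf.stalk x) := RegLoc.isDomain _
  haveI : Nonempty X := ⟨x⟩
  obtain ⟨C, hC, hCc, hCi, hxC, hgen⟩ := exists_component_forall X x
  have h1 := hchain x C hCc hCi hxC
  have hset : {t : X | t ∈ C ∧ t ⤳ x} = {t : X | t ⤳ x} := Set.ext fun t => and_iff_right_of_imp (hgen t)
  rw [hcomp C hC, hset, dim_generalizations X x] at h1
  obtain ⟨N, hN⟩ : ∃ N : ℕ, topologicalKrullDim X = (N : WithBot ℕ∞) := by
    haveI : Nonempty (TopologicalSpace.IrreducibleCloseds X) :=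
      ⟨⟨closure {x}, isIrreducible_singleton.closure, isClosed_closure⟩⟩
    have h0 : (0 : WithBot ℕ∞) ≤ topologicalKrullDim X := Order.krullDim_nonneg
    obtain ⟨v, hv⟩ := WithBot.ne_bot_iff_exists.1 (ne_bot_of_le_ne_bot (by simp) h0)
    obtain ⟨N, hN⟩ := ENat.ne_top_iff_exists.1 (fun h => hfin.ne (by rw [← hv, h]; rfl) : v ≠ ⊤)
    exact ⟨N, by rw [← hv, ← hN]; rfl⟩
  obtain ⟨d, hd⟩ : ∃ d : ℕ, ringKrullDim (X.presheaf.stalk x) = (d : WithBot ℕ∞) :=
    ⟨_, IsRegularLocalRing.spanFinrank_maximalIdeal.symm⟩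
  rw [hN, hd] at h1
  obtain ⟨a, ha⟩ : ∃ a : ℕ, topologicalKrullDim ↥(closure ({x} : Set X)) = (a : WithBot ℕ∞) := by
    cases hh : topologicalKrullDim ↥(closure ({x} : Set X)) with
    | bot => rw [hh, WithBot.bot_add] at h1; exact absurd h1 (WithBot.natCast_ne_bot N)
    | coe v =>
      cases v with
      | top =>
        rw [hh] at h1
        change ((N : ℕ∞) : WithBot ℕ∞) = (((⊤ : ℕ∞) + (d : ℕ∞) : ℕ∞) : WithBot ℕ∞) at h1
        rw [WithBot.coe_inj, top_add] at h1
        exact absurd h1 (ENat.natCast_ne_top N)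
      | coe m => exact ⟨m, rfl⟩
  rw [ha] at h1
  exact ⟨a, d, N, ha, hd, hN, by norm_cast at h1; omega⟩

include hreg hfin hcomp hchain in
/-- Rectified depth plus projective dimension is the dimension. -/
theorem rectDepth_add_pd (F : X.Modules) (hF : Coh.IsCoh F) (x : X) (hx : x ∈ CohB1.support F) :
    ((LocCoh.depth ↑(X.presheaf.stalk x) ↑(F.presheaf.stalk x) : ℕ∞) : WithBot ℕ∞) +
        topologicalKrullDim ↥(closure ({x} : Set X)) +
        projectiveDimension (ModuleCat.of ↑(X.presheaf.stalk x) ↑(F.presheaf.stalk x)) =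
      topologicalKrullDim X := by
  obtain ⟨a, d, N, ha, hd, hN, hadd⟩ := exists_dims X hreg hfin hcomp hchain x
  haveI := hreg x
  haveI := hF.1
  haveI := SupportLib.finite_stalk F hF.2 x
  haveI : Nontrivial (F.presheaf.stalk x) := not_subsingleton_iff_nontrivial.1 hx
  obtain ⟨b, hb, hdep⟩ := exists_depth_eq hd (F.presheaf.stalk x)
  rw [projectiveDimension_eq hd (F.presheaf.stalk x) hdep, hdep, ha, hN]
  show (b : WithBot ℕ∞) + (a : WithBot ℕ∞) + ((d - b : ℕ) : WithBot ℕ∞) = (N : WithBot ℕ∞)
  rw [← Nat.cast_add, ← Nat.cast_add]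
  exact congrArg Nat.cast (by omega)

include hreg hfin hcomp hchain in
/-- The rectified depth is lower semicontinuous. -/
theorem isOpen_le_rectDepth (F : X.Modules) (hF : Coh.IsCoh F) (n : ℕ) :
    IsOpen {x : X | (n : WithBot ℕ∞) ≤
      ((LocCoh.depth ↑(X.presheaf.stalk x) ↑(F.presheaf.stalk x) : ℕ∞) : WithBot ℕ∞) +
        topologicalKrullDim ↥(closure ({x} : Set X))} := by
  rw [isOpen_iff_forall_mem_open]
  intro x₀ hx₀
  obtain ⟨_, ⟨U, hU, rfl⟩, hxU, -⟩ := X.isBasis_affineOpens.exists_subset_of_mem_open (Set.mem_univ x₀) isOpen_univ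
  obtain ⟨-, -, N, -, -, hN, -⟩ := exists_dims X hreg hfin hcomp hchain x₀
  haveI := hF.1
  haveI : IsNoetherianRing Γ(X, U) := IsLocallyNoetherian.component_noetherian ⟨U, hU⟩
  haveI : Module.Finite Γ(X, U) Γ(F, U) := QC.finite_sections (M := F) hU hF.2
  let S : Set (PrimeSpectrum Γ(X, U)) := if n ≤ N then
      {p | HasProjectiveDimensionLE
        (ModuleCat.of (Localization.AtPrime p.asIdeal) (LocalizedModule p.asIdeal.primeCompl Γ(F, U))) (N - n)}
    else (Module.support Γ(X, U) Γ(F, U))ᶜ
  have hS : IsOpen S := by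
    simp only [S]
    split_ifs
    · exact Dim.isOpen_pd_le _ _ _
    · rw [Module.support_eq_zeroLocus]
      exact (PrimeSpectrum.isClosed_zeroLocus _).isOpen_compl
  have key : ∀ (x : X) (hx : x ∈ U), (n : WithBot ℕ∞) ≤
      ((LocCoh.depth ↑(X.presheaf.stalk x) ↑(F.presheaf.stalk x) : ℕ∞) : WithBot ℕ∞) +
        topologicalKrullDim ↥(closure ({x} : Set X)) ↔ hU.primeIdealOf ⟨x, hx⟩ ∈ S := by
    intro x hx
    obtain ⟨a, d, N', ha, hd, hN', hadd⟩ := exists_dims X hreg hfin hcomp hchain x
    obtain rfl : N' = N := by rw [hN] at hN'; exact_mod_cast hN'.symm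
    let p := hU.primeIdealOf ⟨x, hx⟩
    haveI := hreg x
    obtain ⟨g, hg⟩ := LocFree.exists_stalkMap hU hF.1 hx
    letI := Module.compHom (F.presheaf.stalk x) (X.presheaf.germ U x hx).hom
    haveI := hg
    letI : Algebra Γ(X, U) (X.presheaf.stalk x) := (X.presheaf.germ U x hx).hom.toAlgebra
    haveI : IsScalarTower Γ(X, U) (X.presheaf.stalk x) (F.presheaf.stalk x) :=
      IsScalarTower.of_algebraMap_smul fun _ _ => rfl
    haveI : IsLocalization.AtPrime (X.presheaf.stalk x) p.asIdeal := hU.isLocalization_stalk ⟨x, hx⟩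
    let eR := IsLocalization.algEquiv p.asIdeal.primeCompl (Localization.AtPrime p.asIdeal) (X.presheaf.stalk x)
    letI : Algebra (Localization.AtPrime p.asIdeal) (X.presheaf.stalk x) := eR.toRingEquiv.toRingHom.toAlgebra
    letI : Module (Localization.AtPrime p.asIdeal) (F.presheaf.stalk x) :=
      Module.compHom _ eR.toRingEquiv.toRingHom
    haveI : IsScalarTower (Localization.AtPrime p.asIdeal) (X.presheaf.stalk x) (F.presheaf.stalk x) :=
      IsScalarTower.of_algebraMap_smul fun _ _ => rfl
    haveI : IsScalarTower Γ(X, U) (Localization.AtPrime p.asIdeal) (F.presheaf.stalk x) :=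
      IsScalarTower.of_algebraMap_smul fun r m => by
        show eR (algebraMap Γ(X, U) (Localization.AtPrime p.asIdeal) r) • m = r • m
        rw [eR.commutes, algebraMap_smul]
    let e := LinearEquiv.extendScalarsOfIsLocalization p.asIdeal.primeCompl (Localization.AtPrime p.asIdeal)
      (IsLocalizedModule.iso p.asIdeal.primeCompl g)
    haveI : Module.Finite (Localization.AtPrime p.asIdeal) (F.presheaf.stalk x) := Module.Finite.equiv e
    haveI : IsRegularLocalRing (Localization.AtPrime p.asIdeal) := IsRegularLocalRing.of_ringEquiv eR.toRingEquiv.symm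
    have hd' : ringKrullDim (Localization.AtPrime p.asIdeal) = d := by
      rw [ringKrullDim_eq_of_ringEquiv eR.toRingEquiv, hd]
    have hdepth : LocCoh.depth (X.presheaf.stalk x) (F.presheaf.stalk x) =
        LocCoh.depth (Localization.AtPrime p.asIdeal) (LocalizedModule p.asIdeal.primeCompl Γ(F, U)) := by
      rw [← LocH.depth_eq_of_surjective (A := Localization.AtPrime p.asIdeal) (B := X.presheaf.stalk x)
        eR.surjective (F.presheaf.stalk x)]
      exact (LocH.idealDepth_congr e _).symm
    rw [hdepth, ha]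
    rcases subsingleton_or_nontrivial (LocalizedModule p.asIdeal.primeCompl Γ(F, U)) with hs | hnt
    · rw [LocCoh.depth, LocCoh.idealDepth, if_pos (Subsingleton.elim _ _)]
      refine iff_of_true (le_top.trans (le_of_eq (WithBot.coe_add _ _ |>.symm.trans ?_).symm)) ?_
      · rw [top_add]; rfl
      · simp only [S]
        split_ifs with hn
        · exact (pdLE_iff_le_depth (Localization.AtPrime p.asIdeal) hd' _ _).2 (by
            rw [LocCoh.depth, LocCoh.idealDepth, if_pos (Subsingleton.elim _ _)]; exact le_top)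
        · exact Module.notMem_support_iff.2 hs
    · obtain ⟨b, hb, hdep⟩ := exists_depth_eq hd' (LocalizedModule p.asIdeal.primeCompl Γ(F, U))
      rw [hdep]
      simp only [S]
      split_ifs with hn
      · refine Iff.trans ?_ (pdLE_iff_le_depth (Localization.AtPrime p.asIdeal) hd' _ _).symm
        rw [hdep]
        norm_cast
        omega
      · refine iff_of_false ?_ ?_
        · norm_cast
          omega
        · intro hmem
          exact hmem (Module.mem_support_iff.2 hnt)
  refine ⟨hU.fromSpec '' S, ?_, hU.fromSpec.isOpenEmbedding.isOpenMap _ hS,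
    ⟨_, (key x₀ hxU).1 hx₀, hU.fromSpec_primeIdealOf ⟨x₀, hxU⟩⟩⟩
  rintro _ ⟨q, hq, rfl⟩
  have hqU : hU.fromSpec q ∈ U := hU.opensRange_fromSpec.le ⟨q, rfl⟩
  refine (key _ hqU).2 ?_
  rwa [hU.fromSpec.isOpenEmbedding.injective (hU.fromSpec_primeIdealOf ⟨_, hqU⟩)]

end Scheme

end Groth.Agent.FibDepth
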