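import Groth.Agent.FibDepth.GeomRk
import Groth.Agent.FlatDepth.CompDescent
import Groth.Agent.GeomProp.SchemeGeom
import Groth.Agent.S0601

/-!
# Geometric normality is the geometric condition `(R_1)` with the condition `(S_2)`
-/

set_option autoImplicit false
set_option linter.style.haveILetI false
set_option backward.isDefEq.respectTransparency false

universe u

open CategoryTheory AlgebraicGeometry Limits
open scoped TensorProduct

attribute [local instance] Curv2.stalkAlgebra

namespace Groth.Agent.FibDepth

/-- Serre's condition localises. -/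
theorem hasSk_localization {R : Type u} [CommRing R] [IsNoetherianRing R] (k : ℕ) (h : LocCoh.HasSk k R R)
    (Q : Ideal R) [Q.IsPrime] : LocCoh.HasSk k (Localization.AtPrime Q) (Localization.AtPrime Q) := by
  rw [FlatDepth.hasSk_iff_condS] at h ⊢
  intro P _
  let e := (IsLocalization.localizationLocalizationAtPrimeIsoLocalization Q.primeCompl P).toRingEquiv
  haveI : IsNoetherianRing (Localization.AtPrime (P.comap (algebraMap R (Localization.AtPrime Q)))) :=
    IsLocalization.isNoetherianRing (P.comap (algebraMap R (Localization.AtPrime Q))).primeCompl _ inferInstance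
  exact (h (P.comap (algebraMap R (Localization.AtPrime Q)))).of_ringEquiv e

/-- A noetherian local ring with `(R_1)` and `(S_2)` is a normal domain. -/
theorem normal_of_conditions (T : Type u) [CommRing T] [IsLocalRing T] [IsNoetherianRing T]
    (h1 : LocCoh.HasRk 1 T) (h2 : LocCoh.HasSk 2 T T) : IsDomain T ∧ IsIntegrallyClosed T := by
  obtain ⟨_, _⟩ := (S0601.result T).2 ⟨h1, h2⟩ (IsLocalRing.maximalIdeal T)
  let e : T ≃+* Localization.AtPrime (IsLocalRing.maximalIdeal T) :=
    (IsLocalization.atUnits T (IsLocalRing.maximalIdeal T).primeCompl (S := Localization.AtPrime _) fun x hx => by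
      exact not_not.1 fun h => hx h).toRingEquiv
  exact ⟨e.toMulEquiv.isDomain (Localization.AtPrime (IsLocalRing.maximalIdeal T)),
    IsIntegrallyClosed.of_equiv (R := Localization.AtPrime (IsLocalRing.maximalIdeal T)) e.symm⟩

/-- A normal domain satisfies the two conditions. -/
theorem conditions_of_normal (T : Type u) [CommRing T] [IsNoetherianRing T] [IsDomain T] [IsIntegrallyClosed T] :
    LocCoh.HasRk 1 T ∧ LocCoh.HasSk 2 T T :=
  (S0601.result T).1 (GeomProp.isNormalRing_of_domain T)

variable {k : Type u} [Field k] {X : Scheme.{u}} (p : X ⟶ Spec (CommRingCat.of k)) [LocallyOfFinitePresentation p]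

/-- Geometric normality tested on finite extensions gives the two conditions. -/
theorem conditions_of_geomNormal {x : X}
    (h : ∀ (K : Type u) [Field K] [Algebra k K], Module.Finite k K → ∀ x' : ↥(FBase.bc p K),
      FBase.bcπ p K x' = x → IsDomain ((FBase.bc p K).presheaf.stalk x') ∧
        IsIntegrallyClosed ((FBase.bc p K).presheaf.stalk x')) :
    GoodAt p 1 x ∧ LocCoh.HasSk 2 (X.presheaf.stalk x) (X.presheaf.stalk x) := by
  haveI : IsLocallyNoetherian X := LocallyOfFiniteType.isLocallyNoetherian p
  refine ⟨goodAt_of_hasRk_bc p fun K _ _ hK x' hx' => ?_, ?_⟩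
  · haveI : LocallyOfFinitePresentation (FBase.bcStr p K) :=
      MorphismProperty.pullback_snd (P := @LocallyOfFinitePresentation) _ _ inferInstance
    haveI : IsLocallyNoetherian (FBase.bc p K) := LocallyOfFiniteType.isLocallyNoetherian (FBase.bcStr p K)
    obtain ⟨_, _⟩ := h K hK x' hx'
    exact (conditions_of_normal ((FBase.bc p K).presheaf.stalk x')).1
  · letI : X.Over (Spec (CommRingCat.of k)) := ⟨p⟩
    have h1 := GeomProp.normal_tensor_of_stalks k X x k fun x' hx' => h k inferInstance x' hx'
    have h2 : EGA4.IsNormalRing (X.presheaf.stalk x) :=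
      FlatDepth.isNormalRing_of_equiv (Algebra.TensorProduct.lid k (X.presheaf.stalk x)).toRingEquiv h1
    exact ((S0601.result (X.presheaf.stalk x)).1 h2).2

/-- The two conditions give geometric normality along every extension. -/
theorem geomNormal_of_conditions {x : X} (h1 : GoodAt p 1 x)
    (h2 : LocCoh.HasSk 2 (X.presheaf.stalk x) (X.presheaf.stalk x))
    (K : Type u) [Field K] [Algebra k K] (x' : ↥(FBase.bc p K)) (hx' : FBase.bcπ p K x' = x) :
    IsDomain ((FBase.bc p K).presheaf.stalk x') ∧ IsIntegrallyClosed ((FBase.bc p K).presheaf.stalk x') := by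
  letI : X.Over (Spec (CommRingCat.of k)) := ⟨p⟩
  haveI : IsLocallyNoetherian X := LocallyOfFiniteType.isLocallyNoetherian p
  refine GeomProp.normal_stalk_of_tensor k X x K (GeomProp.geomNormal_stalk k X x (fun L _ _ _ _ z hz => ?_) K) x' hx'
  obtain ⟨Q, _, -, ⟨g⟩⟩ := (GeomProp.bc_stalks k X L x).1 z hz
  let A : Type u := X.presheaf.stalk x
  haveI : IsNoetherianRing (A ⊗[k] L) := IsNoetherianRing.of_finite A (A ⊗[k] L)
  haveI : IsNoetherianRing (L ⊗[k] A) :=
    isNoetherianRing_of_ringEquiv (A ⊗[k] L) (Algebra.TensorProduct.comm k A L).toRingEquiv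
  have hs : LocCoh.HasSk 2 (A ⊗[k] L) (A ⊗[k] L) := FlatDepth.hasSk_of_equiv 2
    (Algebra.TensorProduct.comm k L A).toRingEquiv (FlatDepth.hasSk_finite_field_tensor 2 k L A h2)
  haveI : IsNoetherianRing (Localization.AtPrime Q) :=
    IsLocalization.isNoetherianRing Q.primeCompl _ inferInstance
  haveI : IsNoetherianRing ((Curv2.bc k X L).presheaf.stalk z) := isNoetherianRing_of_ringEquiv _ g
  exact normal_of_conditions _ (hasRk_bc_of_goodAt p h1 L z hz)
    (FlatDepth.hasSk_of_equiv 2 g (hasSk_localization 2 hs Q))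

/-- Geometric normality through the two conditions. -/
theorem geomNormal_iff (x : X) :
    (∀ (K : Type u) [Field K] [Algebra k K] (x' : ↥(FBase.bc p K)), FBase.bcπ p K x' = x →
      IsDomain ((FBase.bc p K).presheaf.stalk x') ∧ IsIntegrallyClosed ((FBase.bc p K).presheaf.stalk x')) ↔
      GoodAt p 1 x ∧ LocCoh.HasSk 2 (X.presheaf.stalk x) (X.presheaf.stalk x) :=
  ⟨fun h => conditions_of_geomNormal p fun K _ _ _ => h K,
    fun h K _ _ x' hx' => geomNormal_of_conditions p h.1 h.2 K x' hx'⟩

/-- Geometric normality tested on finite extensions, through the two conditions. -/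
theorem geomNormal_iff_finite (x : X) :
    (∀ (K : Type u) [Field K] [Algebra k K], Module.Finite k K → ∀ x' : ↥(FBase.bc p K), FBase.bcπ p K x' = x →
      IsDomain ((FBase.bc p K).presheaf.stalk x') ∧ IsIntegrallyClosed ((FBase.bc p K).presheaf.stalk x')) ↔
      GoodAt p 1 x ∧ LocCoh.HasSk 2 (X.presheaf.stalk x) (X.presheaf.stalk x) :=
  ⟨conditions_of_geomNormal p, fun h K _ _ _ x' hx' => geomNormal_of_conditions p h.1 h.2 K x' hx'⟩

end Groth.Agent.FibDepth
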