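import Groth.Agent.FibDepth.AssFib
import Groth.Agent.Hensel.Fibres
import Groth.Prelude.Def_EGA4b

/-!
# The condition `(S_1)` and equidimensionality of a ring
-/

set_option autoImplicit false
set_option linter.style.haveILetI false
set_option backward.isDefEq.respectTransparency false

universe u

open IsLocalRing

namespace Groth.Agent.FibDepth

/-- A prime is associated exactly when the depth of the local ring there is zero. -/
theorem mem_associatedPrimes_self_iff {R : Type u} [CommRing R] [IsNoetherianRing R] (q : Ideal R) [q.IsPrime] :
    q ∈ associatedPrimes R R ↔ LocCoh.depth (Localization.AtPrime q) (Localization.AtPrime q) = 0 := by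
  haveI : IsNoetherianRing (Localization.AtPrime q) := IsLocalization.isNoetherianRing q.primeCompl _ inferInstance
  rw [← isAssociatedPrime_maximalIdeal_iff, ← AssociatedPrimes.mem_iff,
    ← Module.associatedPrimes.preimage_comap_associatedPrimes_eq_associatedPrimes_of_isLocalizedModule
      q.primeCompl (Localization.AtPrime q) (Algebra.linearMap R (Localization.AtPrime q)),
    Set.mem_preimage]
  exact iff_of_eq (congrArg (· ∈ associatedPrimes R R) (IsLocalization.AtPrime.under_maximalIdeal (Localization.AtPrime q) q).symm)

/-- `(S_1)` says that there are no embedded associated primes. -/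
theorem hasSk_one_iff (R : Type u) [CommRing R] [IsNoetherianRing R] :
    LocCoh.HasSk 1 R R ↔ ∀ p ∈ associatedPrimes R R, p ∈ minimalPrimes R := by
  rw [Hensel.hasSk_self_iff]
  constructor
  · intro h p hp
    haveI := hp.1
    have h1 := h p
    rw [(mem_associatedPrimes_self_iff p).1 hp,
      IsLocalization.AtPrime.ringKrullDim_eq_height p (Localization.AtPrime p), WithBot.coe_zero, Nat.cast_one,
      min_le_iff] at h1
    rcases h1 with h1 | h1
    · exact absurd h1 (by simp)
    · exact Ideal.height_eq_zero_iff.1 (le_antisymm (WithBot.coe_le_coe.1 h1) zero_le)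
  · intro h q _
    rcases eq_or_ne (LocCoh.depth (Localization.AtPrime q) (Localization.AtPrime q)) 0 with hd | hd
    · refine (min_le_right _ _).trans ?_
      rw [IsLocalization.AtPrime.ringKrullDim_eq_height q (Localization.AtPrime q),
        Ideal.height_eq_zero_iff.2 (h q ((mem_associatedPrimes_self_iff q).2 hd))]
      exact WithBot.coe_le_coe.2 zero_le
    · refine (min_le_left _ _).trans ?_
      rw [← WithBot.coe_natCast, WithBot.coe_le_coe, Nat.cast_one, Order.one_le_iff_pos]
      exact pos_iff_ne_zero.2 hd

/-- Equidimensionality of a ring, as of a module over itself. -/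
theorem isEquidimModule_self_iff (R : Type u) [CommRing R] : EGA4.IsEquidimModule R R ↔ EGA4.IsEquidim R := by
  rw [EGA4.IsEquidimModule, EGA4.IsEquidim, Module.supportDim_self_eq_ringKrullDim]
  have h : Module.annihilator R R = ⊥ := (Submodule.eq_bot_iff _).2 fun x hx => by
    simpa using Module.mem_annihilator.1 hx 1
  rw [h]

/-- A domain is equidimensional. -/
theorem isEquidimModule_self_of_isDomain (R : Type u) [CommRing R] [IsDomain R] : EGA4.IsEquidimModule R R := by
  rw [isEquidimModule_self_iff]
  intro p hp
  obtain rfl : p = ⊥ := le_antisymm (hp.2 ⟨Ideal.isPrime_bot, le_rfl⟩ bot_le) bot_le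
  exact ringKrullDim_eq_of_ringEquiv (RingEquiv.quotientBot R)

end Groth.Agent.FibDepth
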