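import Groth.Agent.FibDepth.ConsAbs
import Groth.Agent.ConsEngine.ClosureFibre

/-!
# The dimension in the fibres of a constructible set is constructible
-/

set_option autoImplicit false
set_option linter.style.haveILetI false
set_option backward.isDefEq.respectTransparency false

universe u

open IsLocalRing Topology CategoryTheory AlgebraicGeometry

namespace Groth.Agent.FibDepth

variable {n : ℕ}

/-- A point of the closure of a piece of a fibre is a specialisation of a point of the piece. -/
theorem exists_le_of_mem_closure_fibre {A : Type u} [CommRing A] {Z : Set (PrimeSpectrum (MvPolynomial (Fin n) A))}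
    (hZ : IsConstructible Z) (P : PrimeSpectrum (MvPolynomial (Fin n) A))
    (h : P ∈ closure (Z ∩ {P' | P'.asIdeal.under A = P.asIdeal.under A})) :
    ∃ P' ∈ Z, P'.asIdeal ≤ P.asIdeal ∧ P'.asIdeal.under A = P.asIdeal.under A := by
  obtain ⟨T, _, g, hg⟩ := PrimeSpectrum.exists_range_eq_of_isConstructible
    (isConstructible_preimage_comap (toFib P.asIdeal) hZ)
  let φ := g.comp (toFib P.asIdeal)
  have hsub : Z ∩ {P' | P'.asIdeal.under A = P.asIdeal.under A} ⊆ Set.range (PrimeSpectrum.comap φ) := by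
    rintro P' ⟨hP', hu⟩
    obtain ⟨r, hr⟩ := exists_comap_toFib_eq P.asIdeal P' hu
    subst hr
    obtain ⟨t, rfl⟩ : r ∈ Set.range (PrimeSpectrum.comap g) := hg ▸ hP'
    exact ⟨t, PrimeSpectrum.comap_comp_apply _ _ _⟩
  have h2 : P ∈ closure (Set.range (PrimeSpectrum.comap φ)) := closure_mono hsub h
  rw [PrimeSpectrum.closure_range_comap] at h2
  obtain ⟨q, hq, hqP⟩ := Ideal.exists_minimalPrimes_le (show RingHom.ker φ ≤ P.asIdeal from h2)
  obtain ⟨t, ht, -, htq⟩ := Ideal.exists_comap_eq_of_mem_minimalPrimes φ (I := ⊥) q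
    (by rwa [← RingHom.ker_eq_comap_bot])
  refine ⟨PrimeSpectrum.comap (toFib P.asIdeal) (PrimeSpectrum.comap g ⟨t, ht⟩), ?_, ?_,
    under_comap_toFib P.asIdeal _⟩
  · have hmem : PrimeSpectrum.comap g ⟨t, ht⟩ ∈ PrimeSpectrum.comap (toFib P.asIdeal) ⁻¹' Z :=
      hg ▸ Set.mem_range_self _
    exact hmem
  · show (t.comap g).comap (toFib P.asIdeal) ≤ P.asIdeal
    rw [Ideal.comap_comap]
    exact htq.le.trans hqP

/-- Over a domain the fibres near the generic point see the closure of a constructible set. -/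
theorem exists_fibBound_eq_closure (R : Type u) [CommRing R] [IsDomain R] [IsNoetherianRing R]
    {E : Set (PrimeSpectrum (MvPolynomial (Fin n) R))} (hE : IsConstructible E) :
    ∃ f : R, f ≠ 0 ∧ ∀ (Q : PrimeSpectrum (MvPolynomial (Fin n) R)), f ∉ Q.asIdeal.under R → ∀ b : ℕ,
      (Q ∈ fibBound E b ↔ Q ∈ fibBound (closure E) b) := by
  let g : Spec (CommRingCat.of (MvPolynomial (Fin n) R)) ⟶ Spec (CommRingCat.of R) :=
    Spec.map (CommRingCat.ofHom (algebraMap R (MvPolynomial (Fin n) R)))
  haveI : LocallyOfFiniteType g :=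
    (HasRingHomProperty.Spec_iff (P := @LocallyOfFiniteType)).mpr (RingHom.finiteType_algebraMap.mpr inferInstance)
  obtain ⟨V, hV, hVE⟩ := ConsEngine.exists_closure_fibre_subset g E hE.isLocallyConstructible
  obtain ⟨x, hx⟩ := hV
  obtain ⟨_, ⟨f, rfl⟩, hxf, hfV⟩ := PrimeSpectrum.isTopologicalBasis_basic_opens.exists_subset_of_mem_open hx V.2
  have hf : f ≠ 0 := by
    rintro rfl
    exact hxf (zero_mem _)
  refine ⟨f, hf, fun Q hQ b => ⟨fun h P hP hPQ hu => ?_, fun h P hP => h P (subset_closure hP)⟩⟩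
  have hPV : g P ∈ V := hfV (show f ∉ P.asIdeal.under R from hu ▸ hQ)
  have hcl := hVE P hP hPV
  have hset : E ∩ g ⁻¹' {g P} = E ∩ {P' | P'.asIdeal.under R = P.asIdeal.under R} := by
    ext P'
    exact and_congr_right fun _ => ⟨fun h => congrArg PrimeSpectrum.asIdeal h, fun h => PrimeSpectrum.ext h⟩
  rw [hset] at hcl
  obtain ⟨P', hP', hle, hu'⟩ := exists_le_of_mem_closure_fibre hE P hcl
  exact (rdim_mono hle hu').trans_lt (h P' hP' (hle.trans hPQ) (hu'.trans hu))

/-- Over a noetherian base. -/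
theorem isConstructible_fibBound_noetherian (A : Type u) [CommRing A] [IsNoetherianRing A]
    {Z : Set (PrimeSpectrum (MvPolynomial (Fin n) A))} (hZ : IsConstructible Z) (b : ℕ) :
    IsConstructible (fibBound Z b) := by
  suffices h : ∀ I : Ideal A, IsConstructible
      (fibBound Z b ∩ PrimeSpectrum.zeroLocus (I.map (MvPolynomial.C (σ := Fin n)) : Set (MvPolynomial (Fin n) A))) by
    simpa [PrimeSpectrum.zeroLocus_bot] using h ⊥
  intro I
  induction I using WellFoundedGT.induction with
  | ind I ih =>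
    by_cases hI : I = ⊤
    · subst hI
      rw [Ideal.map_top, Submodule.top_coe, PrimeSpectrum.zeroLocus_univ, Set.inter_empty]
      exact IsConstructible.empty
    have hlt : ∀ c, c ∉ I → I < I ⊔ Ideal.span {c} := fun c hc =>
      left_lt_sup.2 fun h => hc (h (Ideal.mem_span_singleton_self c))
    by_cases hp : I.IsPrime
    · let R := A ⧸ I
      have hsurj : Function.Surjective (polyBC (A₀ := A) (A := R) (n := n)) :=
        MvPolynomial.map_surjective _ Ideal.Quotient.mk_surjective
      have he : IsClosedEmbedding (downPt (A₀ := A) (A := R) (n := n)) :=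
        PrimeSpectrum.isClosedEmbedding_comap_of_surjective _ _ hsurj
      have hr : Set.range (downPt (A₀ := A) (A := R) (n := n)) =
          PrimeSpectrum.zeroLocus (I.map (MvPolynomial.C (σ := Fin n)) : Set (MvPolynomial (Fin n) A)) := by
        show Set.range (PrimeSpectrum.comap _) = _
        rw [range_comap_of_surjective _ _ hsurj, MvPolynomial.ker_map, Ideal.Quotient.algebraMap_eq, Ideal.mk_ker]
      let E : Set (PrimeSpectrum (MvPolynomial (Fin n) R)) := downPt ⁻¹' Z
      obtain ⟨fb, hfb, hE⟩ := exists_fibBound_eq_closure R (E := E) (isConstructible_preimage_comap _ hZ)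
      obtain ⟨f, rfl⟩ := Ideal.Quotient.mk_surjective fb
      have hfI : f ∉ I := fun h => hfb (Ideal.Quotient.eq_zero_iff_mem.2 h)
      obtain ⟨O, hO, hO'⟩ := he.isInducing.isOpen_iff.1 (isOpen_fibBound (Z := closure E) isClosed_closure b)
      have hs : IsConstructible (fibBound Z b ∩
          (PrimeSpectrum.zeroLocus (I.map (MvPolynomial.C (σ := Fin n)) : Set (MvPolynomial (Fin n) A)) ∩
            (PrimeSpectrum.basicOpen (MvPolynomial.C (σ := Fin n) f) : Set (PrimeSpectrum (MvPolynomial (Fin n) A))))) := by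
        have heq : fibBound Z b ∩
          (PrimeSpectrum.zeroLocus (I.map (MvPolynomial.C (σ := Fin n)) : Set (MvPolynomial (Fin n) A)) ∩
            (PrimeSpectrum.basicOpen (MvPolynomial.C (σ := Fin n) f) : Set (PrimeSpectrum (MvPolynomial (Fin n) A)))) =
          O ∩ (PrimeSpectrum.zeroLocus (I.map (MvPolynomial.C (σ := Fin n)) : Set (MvPolynomial (Fin n) A)) ∩
            (PrimeSpectrum.basicOpen (MvPolynomial.C (σ := Fin n) f) : Set (PrimeSpectrum (MvPolynomial (Fin n) A)))) := by
          ext x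
          refine and_congr_left ?_
          rintro ⟨hx1, hx2⟩
          obtain ⟨Q, rfl⟩ := hr.symm ▸ hx1
          have hQf : Ideal.Quotient.mk I f ∉ Q.asIdeal.under R := by
            intro h
            apply hx2
            show polyBC (A := R) (MvPolynomial.C f) ∈ Q.asIdeal
            rw [MvPolynomial.map_C]
            exact h
          rw [← mem_fibBound_preimage Z b Q, hE Q hQf b]
          exact Set.ext_iff.1 hO'.symm Q
        rw [heq]
        exact (IsRetrocompact.isConstructible hO (fun _ _ _ => TopologicalSpace.NoetherianSpace.isCompact _)).inter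
          ((IsRetrocompact.isConstructible (PrimeSpectrum.isClosed_zeroLocus _).isOpen_compl
            (fun _ _ _ => TopologicalSpace.NoetherianSpace.isCompact _)).of_compl.inter
            (IsRetrocompact.isConstructible (PrimeSpectrum.basicOpen _).2
              (fun _ _ _ => TopologicalSpace.NoetherianSpace.isCompact _)))
      convert hs.union (ih _ (hlt f hfI)) using 1
      rw [Ideal.map_sup, Ideal.map_span, Set.image_singleton, PrimeSpectrum.zeroLocus_sup,
        PrimeSpectrum.zeroLocus_span, PrimeSpectrum.basicOpen_eq_zeroLocus_compl]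
      ext x
      simp only [Set.mem_inter_iff, Set.mem_union, Set.mem_compl_iff]
      tauto
    · obtain ⟨c, d, hab, ha, hb⟩ : ∃ a b, a * b ∈ I ∧ a ∉ I ∧ b ∉ I := by
        by_contra h
        push Not at h
        exact hp ⟨hI, fun {x y} hxy => or_iff_not_imp_left.2 (h x y hxy)⟩
      convert (ih _ (hlt c ha)).union (ih _ (hlt d hb)) using 1
      simp only [Ideal.map_sup, Ideal.map_span, Set.image_singleton, PrimeSpectrum.zeroLocus_sup,
        PrimeSpectrum.zeroLocus_span]
      ext x
      simp only [Set.mem_inter_iff, Set.mem_union]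
      refine ⟨fun ⟨h1, h2⟩ => ?_, fun h => ?_⟩
      · have h3 : MvPolynomial.C (σ := Fin n) c * MvPolynomial.C d ∈ x.asIdeal := by
          rw [← map_mul]
          exact h2 (Ideal.mem_map_of_mem _ hab)
        rcases x.isPrime.mem_or_mem h3 with h4 | h4
        · exact Or.inl ⟨h1, h2, Set.singleton_subset_iff.2 h4⟩
        · exact Or.inr ⟨h1, h2, Set.singleton_subset_iff.2 h4⟩
      · rcases h with ⟨h1, h2, -⟩ | ⟨h1, h2, -⟩ <;> exact ⟨h1, h2⟩

/-- A constructible set comes from a noetherian base. -/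
theorem exists_constructible_model (A : Type u) [CommRing A] {Z : Set (PrimeSpectrum (MvPolynomial (Fin n) A))}
    (hZ : IsConstructible Z) :
    ∃ (A₀ : Subalgebra ℤ A) (_ : IsNoetherianRing A₀) (Z₀ : Set (PrimeSpectrum (MvPolynomial (Fin n) A₀))),
      IsConstructible Z₀ ∧ Z = downPt ⁻¹' Z₀ := by
  classical
  obtain ⟨D, rfl⟩ := PrimeSpectrum.exists_constructibleSetData_iff.2 hZ
  let G : Finset A := D.biUnion fun C => C.f.coeffs ∪ Finset.univ.biUnion fun i => (C.g i).coeffs
  let A₀ := Algebra.adjoin ℤ (G : Set A)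
  have hN : IsNoetherianRing A₀ := by
    haveI : Algebra.FiniteType ℤ A₀ := A₀.fg_iff_finiteType.1 ⟨G, rfl⟩
    exact Algebra.FiniteType.isNoetherianRing ℤ A₀
  have hmem : ∀ C : (D : Set (PrimeSpectrum.BasicConstructibleSetData (MvPolynomial (Fin n) A))),
      ∃ C₀ : PrimeSpectrum.BasicConstructibleSetData (MvPolynomial (Fin n) A₀),
        C₀.map (polyBC (A₀ := A₀) (A := A)) = C.1 := by
    intro C
    have hf : ∃ f₀ : MvPolynomial (Fin n) A₀, polyBC (A := A) f₀ = C.1.f :=
      MvPolynomial.mem_range_map_iff_coeffs_subset.2 fun c hc =>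
        ⟨⟨c, Algebra.subset_adjoin (Finset.mem_biUnion.2 ⟨C.1, C.2, Finset.mem_union_left _ hc⟩)⟩, rfl⟩
    have hg : ∀ i, ∃ g₀ : MvPolynomial (Fin n) A₀, polyBC (A := A) g₀ = C.1.g i := fun i =>
      MvPolynomial.mem_range_map_iff_coeffs_subset.2 fun c hc =>
        ⟨⟨c, Algebra.subset_adjoin (Finset.mem_biUnion.2 ⟨C.1, C.2,
          Finset.mem_union_right _ (Finset.mem_biUnion.2 ⟨i, Finset.mem_univ _, hc⟩)⟩)⟩, rfl⟩
    obtain ⟨f₀, hf₀⟩ := hf
    choose g₀ hg₀ using hg
    refine ⟨⟨f₀, C.1.n, g₀⟩, ?_⟩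
    ext1
    · exact hf₀
    · rfl
    · exact heq_of_eq (funext hg₀)
  choose C₀ hC₀ using hmem
  refine ⟨A₀, hN, PrimeSpectrum.ConstructibleSetData.toSet (Finset.univ.image C₀),
    PrimeSpectrum.exists_constructibleSetData_iff.1 ⟨_, rfl⟩, ?_⟩
  show _ = PrimeSpectrum.comap _ ⁻¹' _
  rw [← PrimeSpectrum.ConstructibleSetData.toSet_map]
  refine congrArg PrimeSpectrum.ConstructibleSetData.toSet ?_
  ext C
  simp only [PrimeSpectrum.ConstructibleSetData.map, Finset.mem_image, Finset.mem_univ, true_and]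
  constructor
  · intro h
    exact ⟨_, ⟨⟨C, h⟩, rfl⟩, hC₀ ⟨C, h⟩⟩
  · rintro ⟨_, ⟨C', rfl⟩, rfl⟩
    rw [hC₀]
    exact C'.2

/-- The bound on the dimension in the fibres of a constructible set cuts out a constructible set. -/
theorem isConstructible_fibBound {A : Type u} [CommRing A] {Z : Set (PrimeSpectrum (MvPolynomial (Fin n) A))}
    (hZ : IsConstructible Z) (b : ℕ) : IsConstructible (fibBound Z b) := by
  obtain ⟨A₀, hN, Z₀, hZ₀, rfl⟩ := exists_constructible_model A hZ
  have h : fibBound (downPt ⁻¹' Z₀) b = downPt (A₀ := A₀) (A := A) ⁻¹' fibBound Z₀ b :=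
    Set.ext fun Q => mem_fibBound_preimage Z₀ b Q
  rw [h]
  exact isConstructible_preimage_comap _ (isConstructible_fibBound_noetherian A₀ hZ₀ b)

end Groth.Agent.FibDepth
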