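import Groth.Agent.FibDepth.GlobalCons
import Mathlib.AlgebraicGeometry.Morphisms.FiniteType

/-!
# Constructible conditions on all points or some point of a fibre
-/

set_option autoImplicit false
set_option linter.style.haveILetI false
set_option backward.isDefEq.respectTransparency false

universe u

open CategoryTheory AlgebraicGeometry Topology

namespace Groth.Agent.FibDepth

/-- The complement of a locally constructible set. -/
theorem isLocallyConstructible_compl {T : Type u} [TopologicalSpace T] {s : Set T} (h : IsLocallyConstructible s) :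
    IsLocallyConstructible sᶜ := fun x => by
  obtain ⟨U, hxU, hU, hs⟩ := h x
  exact ⟨U, hxU, hU, by rw [Set.preimage_compl]; exact hs.compl⟩

variable {X Y : Scheme.{u}} (f : X ⟶ Y) [LocallyOfFinitePresentation f] [QuasiCompact f]

/-- A constructible condition holding at some point of the fibre. -/
theorem isLocallyConstructible_exists_of_fibres {C : ∀ y, ↥(f.fiber y) → Prop}
    (h : IsLocallyConstructible {x : X | C (f x) (f.asFiber x)}) :
    IsLocallyConstructible {y : Y | ∃ z, C y z} := by
  have heq : {y : Y | ∃ z, C y z} = f '' {x : X | C (f x) (f.asFiber x)} := by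
    ext y
    constructor
    · rintro ⟨z, hz⟩
      have hy : f (f.fiberι y z) = y := (f.range_fiberι y).subset ⟨z, rfl⟩
      refine ⟨f.fiberι y z, ?_, hy⟩
      generalize hx : f.fiberι y z = x at hy ⊢
      subst hy
      obtain rfl : z = f.asFiber x := (f.fiberι (f x)).isEmbedding.injective (hx.trans (f.fiberι_asFiber x).symm)
      exact hz
    · rintro ⟨x, hx, rfl⟩
      exact ⟨_, hx⟩
  rw [heq]
  exact f.isLocallyConstructible_image h

/-- A constructible condition holding at all points of the fibre. -/
theorem isLocallyConstructible_forall_of_fibres {C : ∀ y, ↥(f.fiber y) → Prop}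
    (h : IsLocallyConstructible {x : X | C (f x) (f.asFiber x)}) :
    IsLocallyConstructible {y : Y | ∀ z, C y z} := by
  convert isLocallyConstructible_compl (isLocallyConstructible_exists_of_fibres f (C := fun y z => ¬ C y z)
    (isLocallyConstructible_compl h)) using 1
  ext y
  simp

end Groth.Agent.FibDepth

namespace Groth.Agent.FibDepth

/-- In an irreducible space a constructible set containing the generic point contains an open neighbourhood of it. -/
theorem exists_open_genericPoint {α : Type u} [TopologicalSpace α] [IrreducibleSpace α] [QuasiSober α]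
    {C : Set α} (hC : IsConstructible C) (h : genericPoint α ∈ C) :
    ∃ U : Set α, IsOpen U ∧ genericPoint α ∈ U ∧ U ⊆ C := by
  have hmem : ∀ U : Set α, IsOpen U → U.Nonempty → genericPoint α ∈ U := fun U hU hne =>
    ((genericPoint_spec α).mem_open_set_iff hU).2 (by simpa using hne)
  have key : (∃ U : Set α, IsOpen U ∧ U.Nonempty ∧ U ⊆ C) ∨ ∃ U : Set α, IsOpen U ∧ U.Nonempty ∧ U ⊆ Cᶜ := by
    clear h
    induction hC using Topology.IsConstructible.empty_union_induction with
    | open_retrocompact U hU _ =>
      rcases U.eq_empty_or_nonempty with rfl | hne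
      · exact Or.inr ⟨Set.univ, isOpen_univ, Set.univ_nonempty, by simp⟩
      · exact Or.inl ⟨U, hU, hne, subset_rfl⟩
    | union s hs t ht hs' ht' =>
      rcases hs' with ⟨U, hU, hne, hsub⟩ | ⟨U, hU, hne, hsub⟩
      · exact Or.inl ⟨U, hU, hne, hsub.trans Set.subset_union_left⟩
      rcases ht' with ⟨V, hV, hVne, hVsub⟩ | ⟨V, hV, hVne, hVsub⟩
      · exact Or.inl ⟨V, hV, hVne, hVsub.trans Set.subset_union_right⟩
      · exact Or.inr ⟨U ∩ V, hU.inter hV, ⟨_, hmem U hU hne, hmem V hV hVne⟩,
          fun z hz hzc => hzc.elim (hsub hz.1) (hVsub hz.2)⟩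
    | compl s hs hs' =>
      rcases hs' with h | h
      · exact Or.inr (by simpa using h)
      · exact Or.inl h
  rcases key with ⟨U, hU, hne, hsub⟩ | ⟨U, hU, hne, hsub⟩
  · exact ⟨U, hU, hmem U hU hne, hsub⟩
  · exact absurd h (hsub (hmem U hU hne))

end Groth.Agent.FibDepth
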