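import Groth.Agent.FibDepth.AssFib

/-!
# Openness of conditions on the associated points of the fibres
-/

set_option autoImplicit false
set_option linter.style.haveILetI false
set_option backward.isDefEq.respectTransparency false

universe u

open IsLocalRing TensorProduct CategoryTheory AlgebraicGeometry

namespace Groth.Agent.FibDepth

theorem rdim_of_comap_toFib_eq {A : Type u} [CommRing A] {n : ℕ} (Q : Ideal (MvPolynomial (Fin n) A)) [Q.IsPrime]
    (r : PrimeSpectrum (MvPolynomial (Fin n) (baseField Q))) {P : PrimeSpectrum (MvPolynomial (Fin n) A)}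
    (hr : PrimeSpectrum.comap (toFib Q) r = P) :
    Unibranch.rdim A P.asIdeal = Unibranch.rdim (baseField Q) r.asIdeal := by
  subst hr
  exact (rdim_comap_toFib Q r).symm

/-- The relative dimension drops strictly along strict specialisations in a fibre. -/
theorem rdim_strict {A : Type u} [CommRing A] {n : ℕ} {P P' : PrimeSpectrum (MvPolynomial (Fin n) A)}
    (h : P < P') (hu : P.asIdeal.under A = P'.asIdeal.under A) :
    Unibranch.rdim A P'.asIdeal < Unibranch.rdim A P.asIdeal := by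
  obtain ⟨r, hr⟩ := exists_comap_toFib_eq P'.asIdeal P hu
  obtain ⟨r', hr'⟩ := exists_comap_toFib_eq P'.asIdeal P' rfl
  have hlt : r < r' := by
    refine lt_of_le_not_ge (le_of_comap_toFib_le P'.asIdeal ?_) fun hle => ?_
    · show (PrimeSpectrum.comap _ r).asIdeal ≤ (PrimeSpectrum.comap _ r').asIdeal
      rw [hr, hr']
      exact h.le
    · have h' : PrimeSpectrum.comap (toFib P'.asIdeal) r' ≤ PrimeSpectrum.comap (toFib P'.asIdeal) r :=
        Ideal.comap_mono hle
      rw [hr, hr'] at h'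
      exact h.not_ge h'
  have e1 := rdim_of_comap_toFib_eq P'.asIdeal r hr
  have e2 := rdim_of_comap_toFib_eq P'.asIdeal r' hr'
  haveI : r'.asIdeal.FiniteHeight := r'.asIdeal.finiteHeight_iff.mpr (Or.inr r'.asIdeal.height_ne_top_of_isPrime)
  have h1 : r.asIdeal.height < r'.asIdeal.height := Ideal.height_strict_mono_of_isPrime_of_isPrime hlt
  have h2 := height_add_rdim r.asIdeal
  have h3 := height_add_rdim r'.asIdeal
  obtain ⟨a, ha⟩ := ENat.ne_top_iff_exists.mp r.asIdeal.height_ne_top_of_isPrime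
  obtain ⟨b, hb⟩ := ENat.ne_top_iff_exists.mp r'.asIdeal.height_ne_top_of_isPrime
  rw [← ha] at h1 h2
  rw [← hb] at h1 h3
  norm_cast at h1 h2 h3
  omega

section Alg

variable {A : Type u} [CommRing A] {n : ℕ} (M : Type u) [AddCommGroup M] [Module (MvPolynomial (Fin n) A) M]

/-- The points all whose generisations in the fibre of depth zero have relative dimension in `Φ`. -/
def assDimSet (Φ : Finset ℕ) : Set (PrimeSpectrum (MvPolynomial (Fin n) A)) :=
  ⋂ j ∈ (Finset.range (n + 1)).filter (· ∉ Φ), fibBound (rectLeSet (A := A) (n := n) M j) j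

theorem mem_assDimSet_iff (Φ : Finset ℕ) (Q : PrimeSpectrum (MvPolynomial (Fin n) A)) :
    Q ∈ assDimSet (A := A) (n := n) M Φ ↔
      ∀ P : PrimeSpectrum (MvPolynomial (Fin n) A), P.asIdeal ≤ Q.asIdeal → P.asIdeal.under A = Q.asIdeal.under A →
        LocCoh.depth (FibQ A P.asIdeal) (FibM A P.asIdeal M) = 0 → Unibranch.rdim A P.asIdeal ∈ Φ := by
  simp only [assDimSet, Set.mem_iInter, Finset.mem_filter, Finset.mem_range]
  constructor
  · intro h P hPQ hu hd
    by_contra hj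
    refine lt_irrefl _ (h _ ⟨Nat.lt_succ_of_le (rdim_le_card P.asIdeal), hj⟩ P ?_ hPQ hu)
    rw [mem_rectLeSet, hd, zero_add]
  · rintro h j ⟨-, hj⟩ P hP hPQ hu
    rw [mem_rectLeSet] at hP
    by_contra hlt
    obtain ⟨d, hd⟩ := ENat.ne_top_iff_exists.1
      (ne_top_of_le_ne_top (ENat.natCast_ne_top j) (le_trans le_self_add hP))
    rw [← hd] at hP
    norm_cast at hP
    have h0 : d = 0 := by omega
    have h1 := h P hPQ hu (by rw [← hd, h0, Nat.cast_zero])
    rw [show Unibranch.rdim A P.asIdeal = j by omega] at h1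
    exact hj h1

variable [Module.Finite (MvPolynomial (Fin n) A) M]

/-- A point of the support is minimal in the fibre when the support has dimension zero there. -/
theorem supportDim_le_zero_iff (P : PrimeSpectrum (MvPolynomial (Fin n) A)) :
    Module.supportDim (FibQ A P.asIdeal) (FibM A P.asIdeal M) ≤ 0 ↔
      ∀ P' ∈ Module.support (MvPolynomial (Fin n) A) M, P'.asIdeal ≤ P.asIdeal →
        P'.asIdeal.under A = P.asIdeal.under A → P' = P := by
  haveI := isRegularLocalRing_fibQ P.asIdeal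
  have h := supportDim_fibM_add_rdim_le_iff P.asIdeal M (Unibranch.rdim A P.asIdeal)
  have h0 : Module.supportDim (FibQ A P.asIdeal) (FibM A P.asIdeal M) ≤ 0 ↔
      Module.supportDim (FibQ A P.asIdeal) (FibM A P.asIdeal M) + (Unibranch.rdim A P.asIdeal : WithBot ℕ∞) ≤
        (Unibranch.rdim A P.asIdeal : WithBot ℕ∞) := by
    rcases supportDim_depth_cases (ringKrullDim_fibQ P.asIdeal) (FibM A P.asIdeal M) with ⟨h1, -⟩ | ⟨a, b, h1, -⟩
    · rw [h1, WithBot.bot_add]
      exact iff_of_true bot_le bot_le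
    · rw [h1]
      norm_cast
      omega
  rw [h0, h]
  constructor
  · intro h' P' hP' hle hu
    by_contra hne
    exact (rdim_strict (lt_of_le_of_ne hle hne) hu).not_ge (h' P' hP' hle hu)
  · intro h' P' hP' hle hu
    rw [h' P' hP' hle hu]

omit [Module.Finite (MvPolynomial (Fin n) A) M] in
theorem isOpen_assDimSet [Module.FinitePresentation (MvPolynomial (Fin n) A) M] [Module A M]
    [IsScalarTower A (MvPolynomial (Fin n) A) M] [Module.Flat A M] (Φ : Finset ℕ) :
    IsOpen (assDimSet (A := A) (n := n) M Φ) :=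
  isOpen_biInter_finset fun j _ => isOpen_fibBound (isClosed_rectLeSet M j) j

end Alg

variable {X Y : Scheme.{u}}

theorem chartPrime_le_iff {V : Y.Opens} {W : X.Opens} (hW : IsAffineOpen W) {n : ℕ}
    (σ : MvPolynomial (Fin n) Γ(Y, V) →+* Γ(X, W)) (hσ : Function.Surjective σ) (x x' : X) (hx : x ∈ W)
    (hx' : x' ∈ W) : (chartPrime hW σ x hx).asIdeal ≤ (chartPrime hW σ x' hx').asIdeal ↔ x ⤳ x' := by
  show chartPrime hW σ x hx ≤ chartPrime hW σ x' hx' ↔ _
  rw [PrimeSpectrum.le_iff_specializes, chartPrime, chartPrime,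
    (PrimeSpectrum.isClosedEmbedding_comap_of_surjective _ _ hσ).isInducing.specializes_iff,
    ← hW.fromSpec.isOpenEmbedding.isInducing.specializes_iff, hW.fromSpec_primeIdealOf, hW.fromSpec_primeIdealOf]

/-- A chart for the conditions on associated points. -/
theorem assDim_chart (f : X ⟶ Y) [LocallyOfFinitePresentation f] (F : X.Modules) (hF : CohB1.IsFP F)
    (hflat : FlatMod.IsFlatOver f F) (x : X) :
    ∃ W : X.Opens, x ∈ W ∧
      (∀ Φ : Finset ℕ, ∃ O : Set X, IsOpen O ∧ ∀ (y : Y) (z : ↥(f.fiber y)), f.fiberι y z ∈ W →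
        (f.fiberι y z ∈ O ↔ AssDimAt f F Φ y z)) ∧
      (∃ O : Set X, IsOpen O ∧ ∀ (y : Y) (z : ↥(f.fiber y)), f.fiberι y z ∈ W →
        (f.fiberι y z ∈ O ↔ NoEmbAt f F y z)) ∧
      (∀ (j : ℕ) (y : Y) (z : ↥(f.fiber y)), f.fiberι y z ∈ W → z ∈ suppFib f F y →
        (∀ w ∈ suppFib f F y, w ⤳ z → w = z) →
        topologicalKrullDim ↥(closure ({z} : Set ↥(f.fiber y))) = (j : WithBot ℕ∞) →
        ∃ N : Set Y, IsOpen N ∧ y ∈ N ∧ ∀ y' ∈ N, HasCompDim f F j y') := by
  have hq := isQCoh_of_isFP hF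
  obtain ⟨V, W, hV, hW, hxW, e₀, -⟩ := Unibranch.exists_chart_le f (U := ⊤) (x := x) trivial
  letI : Algebra Γ(Y, V) Γ(X, W) := (f.appLE V W e₀).hom.toAlgebra
  haveI : Algebra.FinitePresentation Γ(Y, V) Γ(X, W) := f.finitePresentation_appLE hV hW e₀
  obtain ⟨n, π, hπ, hker⟩ := Algebra.FinitePresentation.out (R := Γ(Y, V)) (A := Γ(X, W))
  let A := Γ(Y, V)
  let P := MvPolynomial (Fin n) A
  let σ : P →+* Γ(X, W) := π.toRingHom
  have hσC : ∀ a, σ (MvPolynomial.C a) = (f.appLE V W e₀).hom a := fun a => π.commutes a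
  letI : Algebra P Γ(X, W) := σ.toAlgebra
  letI := chartModule F σ
  haveI : IsScalarTower P Γ(X, W) Γ(F, W) := IsScalarTower.of_algebraMap_smul fun _ _ => rfl
  haveI : Module.Finite P Γ(X, W) := Module.Finite.of_surjective (Algebra.linearMap P Γ(X, W)) hπ
  haveI : Module.FinitePresentation P Γ(X, W) :=
    Module.finitePresentation_of_surjective (Algebra.linearMap P Γ(X, W)) hπ hker
  haveI := LocFree.finitePresentation_sections_of_isFP hq hF hW
  haveI : Module.FinitePresentation P Γ(F, W) := Module.FinitePresentation.trans P Γ(F, W) Γ(X, W)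
  letI := FlatModB.secModule f F W V e₀
  haveI : Module.Flat A Γ(F, W) := (FlatModB.flat_sections_iff f F hq hW hV e₀).2 fun x _ => hflat x
  haveI : IsScalarTower A P Γ(F, W) := IsScalarTower.of_algebraMap_smul fun a m => by
    show σ (MvPolynomial.C a) • m = (f.appLE V W e₀).hom a • m
    rw [hσC]
  let c : ∀ (y : Y) (z : ↥(f.fiber y)), f.fiberι y z ∈ W → PrimeSpectrum P := fun y z hz => chartPrime hW σ _ hz
  have hr : ∀ (y : Y) (z : ↥(f.fiber y)) (hz : f.fiberι y z ∈ W),
      topologicalKrullDim ↥(closure ({z} : Set ↥(f.fiber y))) =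
        (Unibranch.rdim A (c y z hz).asIdeal : WithBot ℕ∞) := fun y z hz => by
    rw [dim_closure_fibre f hV hW e₀ y z hz]
    exact congrArg _ (rdim_comap_of_surjective π hπ (hW.primeIdealOf ⟨_, hz⟩)).symm
  have hsupp : ∀ (y : Y) (z : ↥(f.fiber y)) (hz : f.fiberι y z ∈ W),
      z ∈ suppFib f F y ↔ c y z hz ∈ Module.support P Γ(F, W) := fun y z hz =>
    nontrivial_iff_mem_support f F hV hW e₀ σ hπ hσC hq inferInstance y z hz
  have hle : ∀ (y : Y) (z z' : ↥(f.fiber y)) (hz : f.fiberι y z ∈ W) (hz' : f.fiberι y z' ∈ W),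
      (c y z' hz').asIdeal ≤ (c y z hz).asIdeal ↔ z' ⤳ z := fun y z z' hz hz' =>
    (chartPrime_le_iff hW σ hπ _ _ hz' hz).trans (f.fiberι y).isEmbedding.isInducing.specializes_iff
  have hbase : ∀ (y : Y) (z : ↥(f.fiber y)) (hz : f.fiberι y z ∈ W),
      hV.fromSpec (PrimeSpectrum.comap (algebraMap A P) (c y z hz)) = y := fun y z hz => by
    rw [fromSpec_under f hV hW e₀ σ hσC]
    exact (f.range_fiberι y).subset ⟨z, rfl⟩
  have hunder : ∀ (y : Y) (z z' : ↥(f.fiber y)) (hz : f.fiberι y z ∈ W) (hz' : f.fiberι y z' ∈ W),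
      (c y z' hz').asIdeal.under A = (c y z hz).asIdeal.under A := fun y z z' hz hz' =>
    congrArg PrimeSpectrum.asIdeal (hV.fromSpec.isOpenEmbedding.injective ((hbase y z' hz').trans (hbase y z hz).symm))
  have hmem : ∀ (y : Y) (z z' : ↥(f.fiber y)), f.fiberι y z ∈ W → z' ⤳ z → f.fiberι y z' ∈ W := fun y z z' hz h =>
    (h.map (f.fiberι y).continuous).mem_open W.2 hz
  -- primes of the support over a point of the base are points of the fibre
  have hpt : ∀ (y : Y) (Q : PrimeSpectrum P), Q ∈ Module.support P Γ(F, W) →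
      hV.fromSpec (PrimeSpectrum.comap (algebraMap A P) Q) = y →
      ∃ (z : ↥(f.fiber y)) (hz : f.fiberι y z ∈ W), z ∈ suppFib f F y ∧ c y z hz = Q := by
    rintro y Q hQ hy
    obtain ⟨x', hx', rfl⟩ := exists_point f F hV hW e₀ σ hπ hσC inferInstance Q hQ
    rw [fromSpec_under f hV hW e₀ σ hσC] at hy
    obtain ⟨z, rfl⟩ : x' ∈ Set.range (f.fiberι y) := by rw [f.range_fiberι]; exact hy
    exact ⟨z, hx', (hsupp y z hx').2 hQ, rfl⟩
  have hass : ∀ (y : Y) (z : ↥(f.fiber y)) (hz : f.fiberι y z ∈ W),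
      z ∈ AssSch.Ass ((Scheme.Modules.pullback (f.fiberι y)).obj F) ↔
        LocCoh.depth (FibQ A (c y z hz).asIdeal) (FibM A (c y z hz).asIdeal Γ(F, W)) = 0 := fun y z hz => by
    obtain ⟨-, h2, -⟩ := fibre_stalk_eq f F hq hV hW e₀ σ hπ hσC inferInstance y z hz
    rw [mem_ass_fibre_iff f F hF, h2]
  have hmin : ∀ (y : Y) (z : ↥(f.fiber y)) (hz : f.fiberι y z ∈ W),
      Module.supportDim (FibQ A (c y z hz).asIdeal) (FibM A (c y z hz).asIdeal Γ(F, W)) ≤ 0 ↔
        ∀ w ∈ suppFib f F y, w ⤳ z → w = z := by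
    intro y z hz
    rw [supportDim_le_zero_iff]
    constructor
    · intro h w hw hwz
      have hwW := hmem y z w hz hwz
      have h1 := h (c y w hwW) ((hsupp y w hwW).1 hw) ((hle y z w hz hwW).2 hwz) (hunder y z w hz hwW)
      exact (((hle y w z hwW hz).1 (by rw [h1])).antisymm hwz).eq.symm
    · intro h P' hP' hP'le hu
      obtain ⟨w, hwW, hw, rfl⟩ := hpt y P' hP' (by
        rw [show PrimeSpectrum.comap (algebraMap A P) P' = PrimeSpectrum.comap (algebraMap A P) (c y z hz) from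
          PrimeSpectrum.ext hu]
        exact hbase y z hz)
      obtain rfl := h w hw ((hle y z w hz hwW).1 hP'le)
      rfl
  have hdepth_supp : ∀ Q : PrimeSpectrum P, LocCoh.depth (FibQ A Q.asIdeal) (FibM A Q.asIdeal Γ(F, W)) = 0 →
      Q ∈ Module.support P Γ(F, W) := by
    intro Q hd
    by_contra hQ
    haveI := (subsingleton_fibM_iff A Q.asIdeal Γ(F, W)).2 hQ
    rw [LocCoh.depth, LocCoh.idealDepth, if_pos (Subsingleton.elim _ _)] at hd
    exact ENat.top_ne_zero hd
  refine ⟨W, hxW, fun Φ => ?_, ?_, fun j y z hz hzs hzmin hzd => ?_⟩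
  · obtain ⟨O, hO, hO'⟩ := exists_open_chart hW σ (isOpen_assDimSet (A := A) (n := n) Γ(F, W) Φ)
    refine ⟨O, hO, fun y z hz => ?_⟩
    rw [hO' _ hz, mem_assDimSet_iff]
    constructor
    · intro h z' hz' hzz
      have hz'W := hmem y z z' hz hzz
      exact ⟨_, h (c y z' hz'W) ((hle y z z' hz hz'W).2 hzz) (hunder y z z' hz hz'W) ((hass y z' hz'W).1 hz'),
        hr y z' hz'W⟩
    · intro h Q hQle hu hd
      obtain ⟨z', hz'W, -, rfl⟩ := hpt y Q (hdepth_supp Q hd) (by
        rw [show PrimeSpectrum.comap (algebraMap A P) Q = PrimeSpectrum.comap (algebraMap A P) (c y z hz) from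
          PrimeSpectrum.ext hu]
        exact hbase y z hz)
      obtain ⟨m, hm, hm'⟩ := h z' ((hass y z' hz'W).2 hd) ((hle y z z' hz hz'W).1 hQle)
      rw [hr y z' hz'W] at hm'
      obtain rfl : Unibranch.rdim A (c y z' hz'W).asIdeal = m := by exact_mod_cast hm'
      exact hm
  · obtain ⟨O, hO, hO'⟩ := exists_open_chart hW σ (isOpen_skSet (A := A) (n := n) Γ(F, W) 1)
    refine ⟨O, hO, fun y z hz => ?_⟩
    rw [hO' _ hz]
    constructor
    · intro h z' hz' hzz
      have hz'W := hmem y z z' hz hzz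
      rw [ass_minimal_fibre_iff f F hF y z' hz', ← hmin y z' hz'W]
      rcases h (c y z' hz'W) ((hle y z z' hz hz'W).2 hzz) (hunder y z z' hz hz'W) with h1 | h1
      · rw [cmSet, Set.mem_ofPred_eq, (hass y z' hz'W).1 hz'] at h1
        exact h1
      · rw [(hass y z' hz'W).1 hz'] at h1
        norm_cast at h1
    · intro h Q hQle hu
      rcases eq_or_ne (LocCoh.depth (FibQ A Q.asIdeal) (FibM A Q.asIdeal Γ(F, W))) 0 with hd | hd
      · obtain ⟨z', hz'W, -, rfl⟩ := hpt y Q (hdepth_supp Q hd) (by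
          rw [show PrimeSpectrum.comap (algebraMap A P) Q = PrimeSpectrum.comap (algebraMap A P) (c y z hz) from
            PrimeSpectrum.ext hu]
          exact hbase y z hz)
        have hz' := (hass y z' hz'W).2 hd
        left
        rw [cmSet, Set.mem_ofPred_eq, hd]
        exact (hmin y z' hz'W).2 ((ass_minimal_fibre_iff f F hF y z' hz').1 (h z' hz' ((hle y z z' hz hz'W).1 hQle)))
      · exact Or.inr (Order.one_le_iff_pos.2 (pos_iff_ne_zero.2 hd))
  · have hQs := (hsupp y z hz).1 hzs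
    have hQr : Unibranch.rdim A (c y z hz).asIdeal = j := by
      rw [hr y z hz] at hzd
      exact_mod_cast hzd
    let U : Set (PrimeSpectrum P) := {R | Module.supportDim (FibQ A R.asIdeal) (FibM A R.asIdeal Γ(F, W)) +
        (Unibranch.rdim A R.asIdeal : WithBot ℕ∞) ≤ (j : WithBot ℕ∞)} ∩
      {R | (j : ℕ∞) ≤ LocCoh.depth (FibQ A R.asIdeal) (FibM A R.asIdeal Γ(F, W)) + (Unibranch.rdim A R.asIdeal : ℕ∞)}
    have hU : IsOpen U := (isOpen_supportDim_le Γ(F, W) j).inter (isOpen_rect Γ(F, W) j)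
    refine ⟨hV.fromSpec '' (PrimeSpectrum.comap (algebraMap A P) '' (U ∩ Module.support P Γ(F, W))),
      hV.fromSpec.isOpenEmbedding.isOpenMap _ (isOpen_image_support_inter Γ(F, W) hU),
      ⟨_, ⟨c y z hz, ⟨⟨?_, ?_⟩, hQs⟩, rfl⟩, hbase y z hz⟩, ?_⟩
    · show (_ : WithBot ℕ∞) ≤ _
      calc Module.supportDim (FibQ A (c y z hz).asIdeal) (FibM A (c y z hz).asIdeal Γ(F, W)) +
            (Unibranch.rdim A (c y z hz).asIdeal : WithBot ℕ∞)
          ≤ 0 + (Unibranch.rdim A (c y z hz).asIdeal : WithBot ℕ∞) := add_le_add_left ((hmin y z hz).2 hzmin) _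
        _ = (j : WithBot ℕ∞) := by rw [zero_add, hQr]
    · show (_ : ℕ∞) ≤ _
      rw [hQr]
      exact le_add_self
    · rintro y' ⟨_, ⟨R, ⟨⟨hR1, hR2⟩, hRs⟩, rfl⟩, hy'⟩
      change (_ : WithBot ℕ∞) ≤ _ at hR1
      change (_ : ℕ∞) ≤ _ at hR2
      obtain ⟨z₁, hz₁W, hz₁, rfl⟩ := hpt y' R hRs hy'
      haveI := isRegularLocalRing_fibQ (c y' z₁ hz₁W).asIdeal
      obtain ⟨P', hP's, hP'le, hP'u, hP'r⟩ : ∃ P' : PrimeSpectrum P, P' ∈ Module.support P Γ(F, W) ∧
          P'.asIdeal ≤ (c y' z₁ hz₁W).asIdeal ∧ P'.asIdeal.under A = (c y' z₁ hz₁W).asIdeal.under A ∧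
          j ≤ Unibranch.rdim A P'.asIdeal := by
        by_contra hno
        push Not at hno
        have hj1 : 1 ≤ j := Nat.succ_le_iff.2 (lt_of_le_of_lt (Nat.zero_le _) (hno _ hRs le_rfl rfl))
        have hsd := (supportDim_fibM_add_rdim_le_iff (c y' z₁ hz₁W).asIdeal Γ(F, W) (j - 1)).2
          fun R' h1 h2 h3 => Nat.le_sub_one_of_lt (hno R' h1 h2 h3)
        rcases supportDim_depth_cases (ringKrullDim_fibQ (c y' z₁ hz₁W).asIdeal)
          (FibM A (c y' z₁ hz₁W).asIdeal Γ(F, W)) with ⟨h1, -⟩ | ⟨a, b, h1, h2⟩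
        · exact (subsingleton_fibM_iff A (c y' z₁ hz₁W).asIdeal Γ(F, W)).1
            ((Module.supportDim_eq_bot_iff_subsingleton _ _).1 h1) hRs
        · have h3 := InvFin.depth_le_supportDim (FibM A (c y' z₁ hz₁W).asIdeal Γ(F, W)) h1
          rw [h2] at h3 hR2
          rw [h1] at hsd
          norm_cast at h3 hR2 hsd
          omega
      obtain ⟨z₂, hz₂W, hz₂, rfl⟩ := hpt y' P' hP's (by
        rw [show PrimeSpectrum.comap (algebraMap A P) P' = PrimeSpectrum.comap (algebraMap A P) (c y' z₁ hz₁W) from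
          PrimeSpectrum.ext hP'u]
        exact hbase y' z₁ hz₁W)
      -- a minimal point of the support above it
      haveI : QuasiSober ↥(suppFib f F y') := (isClosed_suppFib f F hF y').isClosedEmbedding_subtypeVal.quasiSober
      obtain ⟨Z, hZ, hzZ⟩ : ∃ Z ∈ irreducibleComponents ↥(suppFib f F y'), (⟨z₂, hz₂⟩ : ↥(suppFib f F y')) ∈ Z :=
        ⟨irreducibleComponent _, irreducibleComponent_mem_irreducibleComponents _, mem_irreducibleComponent⟩
      obtain ⟨w, hw⟩ := QuasiSober.sober hZ.1 (isClosed_of_mem_irreducibleComponents Z hZ)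
      have hwmin : ∀ v ∈ suppFib f F y', v ⤳ w.1 → v = w.1 := fun v hv hvw => by
        have hle' : Z ⊆ closure ({⟨v, hv⟩} : Set ↥(suppFib f F y')) := by
          rw [← hw.def]
          exact closure_minimal (Set.singleton_subset_iff.2
            (specializes_iff_mem_closure.1 ((subtype_specializes_iff _ _).2 hvw))) isClosed_closure
        have h3 : w ⤳ (⟨v, hv⟩ : ↥(suppFib f F y')) := by
          rw [specializes_iff_mem_closure, hw.def]
          exact hZ.2 isIrreducible_singleton.closure hle' (subset_closure rfl)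
        exact (hvw.antisymm ((subtype_specializes_iff _ _).1 h3)).eq
      have hw2 : w.1 ⤳ z₂ := (subtype_specializes_iff w ⟨z₂, hz₂⟩).1 (by
        rw [specializes_iff_mem_closure, hw.def]; exact hzZ)
      have hwW := hmem y' z₂ w.1 hz₂W hw2
      refine ⟨w.1, w.2, hwmin, ?_⟩
      rw [hr y' w.1 hwW]
      have hh1 := (supportDim_fibM_add_rdim_le_iff (c y' z₁ hz₁W).asIdeal Γ(F, W) j).1 hR1 (c y' w.1 hwW)
        ((hsupp y' w.1 hwW).1 w.2) (((hle y' z₂ w.1 hz₂W hwW).2 hw2).trans hP'le) (hunder y' z₁ w.1 hz₁W hwW)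
      have hh2 := rdim_mono ((hle y' z₂ w.1 hz₂W hwW).2 hw2) (hunder y' z₂ w.1 hz₂W hwW)
      exact_mod_cast le_antisymm hh1 (hP'r.trans hh2)

variable (f : X ⟶ Y) [LocallyOfFinitePresentation f] (F : X.Modules) (hF : CohB1.IsFP F)
  (hflat : FlatMod.IsFlatOver f F)

include hF hflat

theorem exists_open_assDimAt (Φ : Finset ℕ) :
    ∃ O : Set X, IsOpen O ∧ ∀ (y : Y) (z : ↥(f.fiber y)), f.fiberι y z ∈ O ↔ AssDimAt f F Φ y z := by
  refine exists_open_of_charts f _ fun x => ?_
  obtain ⟨W, hxW, hW, -, -⟩ := assDim_chart f F hF hflat x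
  exact ⟨W, hxW, hW Φ⟩

theorem exists_open_noEmbAt :
    ∃ O : Set X, IsOpen O ∧ ∀ (y : Y) (z : ↥(f.fiber y)), f.fiberι y z ∈ O ↔ NoEmbAt f F y z := by
  refine exists_open_of_charts f _ fun x => ?_
  obtain ⟨W, hxW, -, hW, -⟩ := assDim_chart f F hF hflat x
  exact ⟨W, hxW, hW⟩

theorem isOpen_hasCompDim (j : ℕ) : IsOpen {y : Y | HasCompDim f F j y} := by
  rw [isOpen_iff_forall_mem_open]
  rintro y ⟨z, hz, hmin, hd⟩
  obtain ⟨W, hzW, -, -, hW⟩ := assDim_chart f F hF hflat (f.fiberι y z)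
  obtain ⟨N, hN, hyN, hN'⟩ := hW j y z hzW hz hmin hd
  exact ⟨N, hN', hN, hyN⟩

end Groth.Agent.FibDepth
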