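import Groth.Agent.FibDepth.Fibre
import Groth.Agent.LocH.AdjDepthChange
import Groth.Agent.LocH.DepthMisc
import Groth.Agent.LocalCrit.Basic

/-!
# Fibre stalks as quotients
-/

set_option autoImplicit false
set_option linter.style.haveILetI false
set_option backward.isDefEq.respectTransparency false

universe u

open IsLocalRing TensorProduct

namespace Groth.Agent.FibDepth

theorem supportDim_eq_of_surjective {T R : Type u} [CommRing T] [CommRing R] [Algebra T R]
    (h : Function.Surjective (algebraMap T R)) (N : Type u) [AddCommGroup N] [Module R N] [Module T N]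
    [IsScalarTower T R N] [Module.Finite T N] : Module.supportDim T N = Module.supportDim R N := by
  haveI : Module.Finite R N := Module.Finite.of_restrictScalars_finite T R N
  rw [Module.supportDim_eq_ringKrullDim_quotient_annihilator, Module.supportDim_eq_ringKrullDim_quotient_annihilator]
  let π : T →+* R ⧸ Module.annihilator R N := (Ideal.Quotient.mk _).comp (algebraMap T R)
  have hker : RingHom.ker π = Module.annihilator T N := by
    ext b
    rw [RingHom.mem_ker, RingHom.comp_apply, Ideal.Quotient.eq_zero_iff_mem, Module.mem_annihilator,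
      Module.mem_annihilator]
    exact forall_congr' fun x => by rw [algebraMap_smul]
  rw [← (RingHom.quotientKerEquivOfSurjective (f := π) (Ideal.Quotient.mk_surjective.comp h)).ringKrullDim, hker]

/-- Elements killed by passing to a quotient ring. -/
theorem one_tmul_eq_zero_of_surjective {O R F : Type u} [CommRing O] [CommRing R] [Algebra O R]
    (hψ : Function.Surjective (algebraMap O R)) [AddCommGroup F] [Module O F] (x : F) :
    (1 : R) ⊗ₜ[O] x = 0 ↔ x ∈ RingHom.ker (algebraMap O R) • (⊤ : Submodule O F) := by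
  let ε : (O ⧸ RingHom.ker (algebraMap O R)) ≃ₐ[O] R :=
    Ideal.quotientKerAlgEquivOfSurjective (f := Algebra.ofId O R) hψ
  rw [← LocalCrit.one_tmul_eq_zero_iff,
    ← (TensorProduct.congr ε.toLinearEquiv (LinearEquiv.refl O F)).map_eq_zero_iff]
  simp

/-- A fibre computed on a quotient of the local ring. -/
theorem transfer {S O R : Type u} [CommRing S] [CommRing O] [CommRing R] [IsLocalRing R] [Algebra O R]
    (J : Ideal S) [IsLocalRing (S ⧸ J)] [IsNoetherianRing (S ⧸ J)] (α : S →+* O) (hα : Function.Surjective α)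
    (hψ : Function.Surjective (algebraMap O R)) (hker : RingHom.ker (algebraMap O R) = J.map α)
    (F : Type u) [AddCommGroup F] [Module O F] [Module S F] (hS : ∀ (s : S) (x : F), s • x = α s • x)
    [Module.Finite S F] :
    Module.supportDim R (R ⊗[O] F) = Module.supportDim (S ⧸ J) ((S ⧸ J) ⊗[S] F) ∧
      LocCoh.depth R (R ⊗[O] F) = LocCoh.depth (S ⧸ J) ((S ⧸ J) ⊗[S] F) := by
  let τ : S ⧸ J →+* R := Ideal.Quotient.lift J ((algebraMap O R).comp α) fun s hs => by
    rw [RingHom.comp_apply, ← RingHom.mem_ker, hker]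
    exact Ideal.mem_map_of_mem α hs
  have hτ : Function.Surjective τ :=
    Ideal.Quotient.lift_surjective_of_surjective _ _ (hψ.comp hα)
  letI : Algebra (S ⧸ J) R := τ.toAlgebra
  letI : Algebra S O := α.toAlgebra
  haveI : IsScalarTower S O F := IsScalarTower.of_algebraMap_smul fun s x => (hS s x).symm
  letI : Algebra S R := ((algebraMap O R).comp α).toAlgebra
  haveI : IsScalarTower S O R := IsScalarTower.of_algebraMap_eq fun _ => rfl
  haveI : IsScalarTower S (S ⧸ J) R := IsScalarTower.of_algebraMap_eq fun _ => rfl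
  letI : Module (S ⧸ J) (R ⊗[O] F) := Module.compHom _ τ
  haveI : IsScalarTower (S ⧸ J) R (R ⊗[O] F) := IsScalarTower.of_algebraMap_smul fun _ _ => rfl
  haveI : IsScalarTower S (S ⧸ J) (R ⊗[O] F) := IsScalarTower.of_algebraMap_smul fun s z => by
    show algebraMap S R s • z = s • z
    rw [algebraMap_smul]
  let g : F →ₗ[S] R ⊗[O] F := ((TensorProduct.mk O R F) 1).restrictScalars S
  have hg : Function.Surjective g := fun z => by
    induction z using TensorProduct.induction_on with
    | zero => exact ⟨0, map_zero _⟩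
    | tmul r x =>
      obtain ⟨o, rfl⟩ := hψ r
      exact ⟨o • x, by show (1 : R) ⊗ₜ[O] (o • x) = _; rw [tmul_smul, smul_tmul', Algebra.smul_def, mul_one]⟩
    | add a b ha hb =>
      obtain ⟨x, rfl⟩ := ha
      obtain ⟨y, rfl⟩ := hb
      exact ⟨x + y, map_add _ _ _⟩
  have hgk : ∀ x, g x = 0 → x ∈ J • (⊤ : Submodule S F) := fun x hx => by
    have h1 : x ∈ J.map α • (⊤ : Submodule O F) := hker ▸ (one_tmul_eq_zero_of_surjective hψ x).1 hx
    have h2 : J • (⊤ : Submodule S F) = (J.map (algebraMap S O) • (⊤ : Submodule O F)).restrictScalars S := by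
      rw [Ideal.smul_restrictScalars, Submodule.restrictScalars_top]
    rw [h2]
    exact h1
  let Φ : (S ⧸ J) ⊗[S] F →ₗ[S ⧸ J] R ⊗[O] F := g.liftBaseChange (S ⧸ J)
  have hΦ : ∀ x, Φ ((1 : S ⧸ J) ⊗ₜ[S] x) = g x := fun x => by simp [Φ]
  have hbij : Function.Bijective Φ := by
    refine ⟨(injective_iff_map_eq_zero Φ).2 fun z hz => ?_, fun z => ?_⟩
    · obtain ⟨x, rfl⟩ := LocalCrit.exists_one_tmul J z
      rw [hΦ] at hz
      exact (LocalCrit.one_tmul_eq_zero_iff J x).2 (hgk x hz)
    · obtain ⟨x, hx⟩ := hg z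
      exact ⟨(1 : S ⧸ J) ⊗ₜ[S] x, (hΦ x).trans hx⟩
  let e := LinearEquiv.ofBijective Φ hbij
  haveI : Module.Finite (S ⧸ J) (R ⊗[O] F) := Module.Finite.equiv e
  haveI : IsNoetherianRing R := isNoetherianRing_of_surjective (S ⧸ J) R τ hτ
  constructor
  · rw [Module.supportDim_eq_of_equiv e, supportDim_eq_of_surjective (T := S ⧸ J) (R := R) hτ]
  · rw [← LocH.depth_eq_of_surjective (A := S ⧸ J) (B := R) hτ]
    exact (LocH.idealDepth_congr e _).symm

end Groth.Agent.FibDepth
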