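import Groth.Agent.FibDepth.Loci
import Groth.Agent.FibDepth.BridgeAlg
import Groth.Agent.FibDepth.SkAlg
import Groth.Agent.FibCrit.Scheme
import Groth.Agent.KFlat.Pullback
import Groth.Agent.KFlat.SchemeStalk
import Groth.Agent.LocFree.Props
import Groth.Agent.FlatModB.Basic
import Groth.Agent.Unibranch.FibreChains

/-!
# Fibre stalks on affine charts
-/

set_option autoImplicit false
set_option linter.style.haveILetI false
set_option backward.isDefEq.respectTransparency false

universe u

open IsLocalRing TensorProduct CategoryTheory AlgebraicGeometry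

namespace Groth.Agent.FibDepth

/-- Localisation of a module at a prime does not see a surjection of rings. -/
theorem isLocalizedModule_of_surjective {P B M N : Type u} [CommRing P] [CommRing B] [Algebra P B]
    (h : Function.Surjective (algebraMap P B)) [AddCommGroup M] [Module B M] [Module P M] [IsScalarTower P B M]
    [AddCommGroup N] [Module B N] [Module P N] [IsScalarTower P B N] (q : Ideal B) [q.IsPrime]
    (g : M →ₗ[B] N) [IsLocalizedModule q.primeCompl g] :
    IsLocalizedModule (q.comap (algebraMap P B)).primeCompl (g.restrictScalars P) := by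
  refine ⟨fun a => ?_, fun y => ?_, fun {x y} hxy => ?_⟩
  · rw [Module.End.isUnit_iff]
    have h1 := (Module.End.isUnit_iff _).1 (IsLocalizedModule.map_units g (⟨algebraMap P B a, a.2⟩ : q.primeCompl))
    have hc : (fun x : N => (a : P) • x) = fun x => algebraMap P B a • x := funext fun x => (algebraMap_smul B _ x).symm
    show Function.Bijective fun x : N => (a : P) • x
    rw [hc]
    exact h1
  · obtain ⟨⟨m, ⟨s, hs⟩⟩, hms⟩ := IsLocalizedModule.surj q.primeCompl g y
    obtain ⟨t, rfl⟩ := h s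
    exact ⟨(m, ⟨t, hs⟩), (algebraMap_smul B t y).symm.trans hms⟩
  · obtain ⟨⟨s, hs⟩, hst⟩ := IsLocalizedModule.exists_of_eq (S := q.primeCompl) (f := g) hxy
    obtain ⟨t, rfl⟩ := h s
    exact ⟨⟨t, hs⟩, (algebraMap_smul B t x).symm.trans (hst.trans (algebraMap_smul B t y))⟩

/-- The relative dimension does not see a surjection. -/
theorem rdim_comap_of_surjective {A P B : Type u} [CommRing A] [CommRing P] [CommRing B] [Algebra A P]
    [Algebra A B] [Algebra.FiniteType A P] [Algebra.FiniteType A B] (σ : P →ₐ[A] B) (hσ : Function.Surjective σ)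
    (q : PrimeSpectrum B) :
    Unibranch.rdim A (q.asIdeal.comap σ.toRingHom) = Unibranch.rdim A q.asIdeal := by
  let c := PrimeSpectrum.comap σ.toRingHom
  have hsm : StrictMono c := fun a b h => lt_of_le_of_ne (Ideal.comap_mono h.le)
    fun e => h.ne (PrimeSpectrum.comap_injective_of_surjective _ hσ e)
  have hu : ∀ b, PrimeSpectrum.comap (algebraMap A P) (c b) = PrimeSpectrum.comap (algebraMap A B) b := fun b => by
    rw [← PrimeSpectrum.comap_comp_apply]
    exact congrArg (PrimeSpectrum.comap · b) (RingHom.ext fun a => σ.commutes a)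
  refine le_antisymm (Unibranch.rdim_le_of_chains (c q) (c q) le_rfl (g := 1) (c q).isPrime.one_notMem fun l hl => ?_)
    (Unibranch.rdim_le_of_chains q q le_rfl (g := 1) q.isPrime.one_notMem fun l hl => ?_)
  · have hr : ∀ i, l i ∈ Set.range c := fun i => by
      rw [range_comap_of_surjective _ _ hσ]
      exact (show RingHom.ker σ.toRingHom ≤ (c q).asIdeal from Ideal.comap_mono bot_le).trans (hl i).2.1
    choose b hb using hr
    let l' : LTSeries (PrimeSpectrum B) :=
      { length := l.length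
        toFun := b
        step := fun i => by
          refine lt_of_le_of_ne ?_ fun e => (show l i.castSucc < l i.succ from l.step i).ne
            ((hb _).symm.trans ((congrArg c e).trans (hb _)))
          exact (Ideal.comap_le_comap_iff_of_surjective _ hσ _ _).1 (by
            show (c (b i.castSucc)).asIdeal ≤ (c (b i.succ)).asIdeal
            rw [hb, hb]; exact (l.step i).le) }
    refine Unibranch.length_le_rdim q l' (fun i => ?_) ((Ideal.comap_le_comap_iff_of_surjective _ hσ _ _).1 ?_)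
    · rw [← hu, ← hu]
      show PrimeSpectrum.comap _ (c (b i)) = _
      rw [hb]
      exact (hl i).1
    · show (c q).asIdeal ≤ (c (b 0)).asIdeal
      rw [hb]
      exact (hl 0).2.1
  · refine Unibranch.length_le_rdim (c q) (l.map c hsm) (fun i => ?_) (Ideal.comap_mono (hl 0).2.1)
    show PrimeSpectrum.comap _ (c (l i)) = _
    rw [hu, hu]
    exact (hl i).1

variable {X Y : Scheme.{u}}

/-- The dimension of the closure of a point in its fibre is the relative dimension. -/
theorem dim_closure_fibre (f : X ⟶ Y) [LocallyOfFiniteType f] {V : Y.Opens} {W : X.Opens} (hV : IsAffineOpen V)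
    (hW : IsAffineOpen W) (e : W ≤ f ⁻¹ᵁ V) (y : Y) (z : ↥(f.fiber y)) (hz : f.fiberι y z ∈ W) :
    topologicalKrullDim ↥(closure ({z} : Set ↥(f.fiber y))) =
      (Unibranch.rdimIn f hW e (f.fiberι y z) hz : WithBot ℕ∞) := by
  have hy : f (f.fiberι y z) = y := (f.range_fiberι y).subset ⟨z, rfl⟩
  have hc : Topology.IsClosedEmbedding (Subtype.val : ↥(closure ({z} : Set ↥(f.fiber y))) → ↥(f.fiber y)) :=
    isClosed_closure.isClosedEmbedding_subtypeVal
  haveI : QuasiSober ↥(closure ({z} : Set ↥(f.fiber y))) := hc.quasiSober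
  have hι : Topology.IsEmbedding (f.fiberι y) := (f.fiberι y).isEmbedding
  have hj : Topology.IsEmbedding ((f.fiberι y) ∘ (Subtype.val : ↥(closure ({z} : Set ↥(f.fiber y))) → _)) :=
    hι.comp Topology.IsEmbedding.subtypeVal
  have hr : Set.range ((f.fiberι y) ∘ (Subtype.val : ↥(closure ({z} : Set ↥(f.fiber y))) → _)) =
      closure {f.fiberι y z} ∩ f ⁻¹' {f (f.fiberι y z)} := by
    rw [Set.range_comp, Subtype.range_coe, hι.closure_eq_preimage_closure_image, Set.image_singleton,
      Set.image_preimage_eq_inter_range, hy, ← f.range_fiberι y]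
  refine le_antisymm ((Unibranch.topologicalKrullDim_le_iff f hj hr).2
    (Unibranch.chainsLE_of_specializes f specializes_rfl hz (Unibranch.chainsLE_rdimIn hV hW e hz))) ?_
  obtain ⟨c, hc1, hc2⟩ := Unibranch.hasChain_rdimIn hV hW e hz
  exact (Unibranch.natCast_le_topologicalKrullDim_iff f hj hr).2 ⟨c, fun i => ⟨(hc1 i).1.2, (hc1 i).2⟩, hc2⟩

section Chart

variable (f : X ⟶ Y) (F : X.Modules) (hq : Coh.IsQCoh F) {V : Y.Opens} (hV : IsAffineOpen V) {W : X.Opens}
  (hW : IsAffineOpen W) (e : W ≤ f ⁻¹ᵁ V) {n : ℕ}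
  (σ : MvPolynomial (Fin n) Γ(Y, V) →+* Γ(X, W))

/-- The prime of the polynomial ring at a point. -/
noncomputable def chartPrime (x : X) (hx : x ∈ W) : PrimeSpectrum (MvPolynomial (Fin n) Γ(Y, V)) :=
  PrimeSpectrum.comap σ (hW.primeIdealOf ⟨x, hx⟩)

/-- The sections over the chart as a module over the polynomial ring. -/
noncomputable abbrev chartModule : Module (MvPolynomial (Fin n) Γ(Y, V)) Γ(F, W) := Module.compHom Γ(F, W) σ

variable (hσ : Function.Surjective σ) (hσC : ∀ a, σ (MvPolynomial.C a) = (f.appLE V W e).hom a)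

include hV hσ hσC in
/-- The comparison for any module with given localisation at the point. -/
theorem fibre_tensor_eq (M : Type u) [AddCommGroup M] [Module Γ(X, W) M]
    (hfin : letI : Module (MvPolynomial (Fin n) Γ(Y, V)) M := Module.compHom M σ
      Module.Finite (MvPolynomial (Fin n) Γ(Y, V)) M)
    (y : Y) (z : ↥(f.fiber y)) (hz : f.fiberι y z ∈ W) (N : Type u) [AddCommGroup N]
    [Module (X.presheaf.stalk (f.fiberι y z)) N]
    (hg : letI : Module Γ(X, W) N := Module.compHom N (X.presheaf.germ W (f.fiberι y z) hz).hom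
      ∃ g : M →ₗ[Γ(X, W)] N, IsLocalizedModule (hW.primeIdealOf ⟨f.fiberι y z, hz⟩).asIdeal.primeCompl g) :
    letI : Module (MvPolynomial (Fin n) Γ(Y, V)) M := Module.compHom M σ
    letI : Algebra (X.presheaf.stalk (f.fiberι y z)) ((f.fiber y).presheaf.stalk z) :=
      ((f.fiberι y).stalkMap z).hom.toAlgebra
    Module.supportDim ((f.fiber y).presheaf.stalk z)
        ((f.fiber y).presheaf.stalk z ⊗[X.presheaf.stalk (f.fiberι y z)] N) =
      Module.supportDim (FibQ Γ(Y, V) (chartPrime hW σ _ hz).asIdeal)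
        (FibM Γ(Y, V) (chartPrime hW σ _ hz).asIdeal M) ∧
    LocCoh.depth ((f.fiber y).presheaf.stalk z)
        ((f.fiber y).presheaf.stalk z ⊗[X.presheaf.stalk (f.fiberι y z)] N) =
      LocCoh.depth (FibQ Γ(Y, V) (chartPrime hW σ _ hz).asIdeal)
        (FibM Γ(Y, V) (chartPrime hW σ _ hz).asIdeal M) ∧
    (∀ k, LocCoh.HasSk k ((f.fiber y).presheaf.stalk z)
        ((f.fiber y).presheaf.stalk z ⊗[X.presheaf.stalk (f.fiberι y z)] N) ↔
      LocCoh.HasSk k (FibQ Γ(Y, V) (chartPrime hW σ _ hz).asIdeal)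
        (FibM Γ(Y, V) (chartPrime hW σ _ hz).asIdeal M)) ∧
    (EGA4.IsEquidimModule ((f.fiber y).presheaf.stalk z)
        ((f.fiber y).presheaf.stalk z ⊗[X.presheaf.stalk (f.fiberι y z)] N) ↔
      EGA4.IsEquidimModule (FibQ Γ(Y, V) (chartPrime hW σ _ hz).asIdeal)
        (FibM Γ(Y, V) (chartPrime hW σ _ hz).asIdeal M)) := by
  letI : Module (MvPolynomial (Fin n) Γ(Y, V)) M := Module.compHom M σ
  haveI := hfin
  let x := f.fiberι y z
  let A := Γ(Y, V)
  let P := MvPolynomial (Fin n) A
  let B := Γ(X, W)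
  let q := (hW.primeIdealOf ⟨x, hz⟩).asIdeal
  let Q := (chartPrime hW σ x hz).asIdeal
  let O := X.presheaf.stalk x
  let R := (f.fiber y).presheaf.stalk z
  letI : Algebra P B := σ.toAlgebra
  haveI : IsScalarTower P B M := IsScalarTower.of_algebraMap_smul fun _ _ => rfl
  letI : Algebra B O := (X.presheaf.germ W x hz).hom.toAlgebra
  haveI : IsLocalization.AtPrime O q := hW.isLocalization_stalk ⟨x, hz⟩
  have hu : ∀ r : Q.primeCompl, IsUnit ((algebraMap B O).comp σ r) := fun r =>
    IsLocalization.map_units O (⟨σ r, r.2⟩ : q.primeCompl)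
  let α : Localization.AtPrime Q →+* O := IsLocalization.lift hu
  have hα0 : ∀ p, α (algebraMap P _ p) = algebraMap B O (σ p) := fun p => IsLocalization.lift_eq hu p
  have hα : Function.Surjective α := fun o => by
    obtain ⟨b, ⟨s, hs⟩, rfl⟩ := IsLocalization.exists_mk'_eq q.primeCompl o
    obtain ⟨b, rfl⟩ := hσ b
    obtain ⟨t, rfl⟩ := hσ s
    refine ⟨IsLocalization.mk' _ b (⟨t, hs⟩ : Q.primeCompl), ?_⟩
    rw [IsLocalization.eq_mk'_iff_mul_eq]
    show α _ * algebraMap B O (σ t) = algebraMap B O (σ b)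
    rw [← hα0, ← hα0, ← map_mul, IsLocalization.mk'_spec]
  letI : Algebra O R := ((f.fiberι y).stalkMap z).hom.toAlgebra
  obtain ⟨hψ, hkerψ⟩ := FibCrit.fiberι_stalkMap f y z
  letI := TopCat.Presheaf.algebra_section_stalk Y.presheaf (⟨f x, e hz⟩ : V)
  haveI : IsLocalization.AtPrime (Y.presheaf.stalk (f x)) (hV.primeIdealOf ⟨f x, e hz⟩).asIdeal :=
    hV.isLocalization_stalk ⟨f x, e hz⟩
  have hpQ : (hV.primeIdealOf ⟨f x, e hz⟩).asIdeal = Q.under A := by
    have h1 : PrimeSpectrum.comap (f.appLE V W e).hom (hW.primeIdealOf ⟨x, hz⟩) = hV.primeIdealOf ⟨f x, e hz⟩ :=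
      hV.fromSpec.isOpenEmbedding.injective ((Unibranch.fromSpec_comap_appLE f hV hW e _).trans
        ((congrArg f (hW.fromSpec_primeIdealOf ⟨x, hz⟩)).trans (hV.fromSpec_primeIdealOf ⟨f x, e hz⟩).symm))
    ext a
    rw [← h1]
    show (f.appLE V W e).hom a ∈ q ↔ σ (MvPolynomial.C a) ∈ q
    rw [hσC]
  have hker : RingHom.ker (algebraMap O R) = (fibIdeal A Q).map α := by
    refine hkerψ.trans ?_
    rw [← IsLocalization.AtPrime.map_eq_maximalIdeal (hV.primeIdealOf ⟨f x, e hz⟩).asIdeal
      (Y.presheaf.stalk (f x)), hpQ, Ideal.map_map, Ideal.map_map]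
    refine congrArg (Ideal.map · (Q.under A)) (RingHom.ext fun a => ?_)
    show (f.stalkMap x).hom ((Y.presheaf.germ V (f x) (e hz)).hom a) = α (algebraMap A (Localization.AtPrime Q) a)
    rw [IsScalarTower.algebraMap_apply A P (Localization.AtPrime Q), hα0]
    refine (FibCrit.germ_comm f V W e x hz a).trans ?_
    rw [show algebraMap A P a = MvPolynomial.C a from rfl, hσC]
    rfl
  -- the stalk of the module
  letI : Module B N := Module.compHom N (X.presheaf.germ W x hz).hom
  obtain ⟨g, hg⟩ := hg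
  haveI : IsLocalizedModule q.primeCompl g := hg
  letI : Module P N := Module.compHom _ ((algebraMap B O).comp σ)
  haveI : IsScalarTower P B N := IsScalarTower.of_algebraMap_smul fun _ _ => rfl
  haveI : IsLocalizedModule Q.primeCompl (g.restrictScalars P) := isLocalizedModule_of_surjective hσ q g
  letI : Module (Localization.AtPrime Q) N := Module.compHom _ α
  haveI : IsScalarTower P (Localization.AtPrime Q) N :=
    IsScalarTower.of_algebraMap_smul fun p m => by
      show α (algebraMap P _ p) • m = (algebraMap B O (σ p)) • m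
      rw [hα0]
  let eM : LocalizedModule Q.primeCompl M ≃ₗ[Localization.AtPrime Q] N :=
    LinearEquiv.extendScalarsOfIsLocalization Q.primeCompl (Localization.AtPrime Q)
      (IsLocalizedModule.iso Q.primeCompl (g.restrictScalars P))
  haveI : Module.Finite (Localization.AtPrime Q) N := Module.Finite.equiv eM
  haveI := isRegularLocalRing_fibQ (n := n) Q
  haveI : IsNoetherianRing (FibQ A Q) := inferInstance
  obtain ⟨h1, h2⟩ := transfer (fibIdeal A Q) α hα hψ hker N (fun _ _ => rfl)
  let eT : FibM A Q M ≃ₗ[FibQ A Q] FibQ A Q ⊗[Localization.AtPrime Q] N :=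
    eM.baseChange (Localization.AtPrime Q) (FibQ A Q)
  obtain ⟨h3, h4⟩ := transfer_sk (fibIdeal A Q) α hα hψ hker N (fun _ _ => rfl)
  exact ⟨h1.trans (Module.supportDim_eq_of_equiv eT).symm, h2.trans (LocH.idealDepth_congr eT _).symm,
    fun k => (h3 k).trans ⟨hasSk_congr eT.symm k, hasSk_congr eT k⟩,
    h4.trans ⟨isEquidimModule_congr eT.symm, isEquidimModule_congr eT⟩⟩

include hq hV hσ hσC in
theorem fibre_stalk_eq (hfin : letI := chartModule F σ; Module.Finite (MvPolynomial (Fin n) Γ(Y, V)) Γ(F, W))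
    (y : Y) (z : ↥(f.fiber y)) (hz : f.fiberι y z ∈ W) :
    letI := chartModule F σ
    Module.supportDim ((f.fiber y).presheaf.stalk z)
        (((Scheme.Modules.pullback (f.fiberι y)).obj F).presheaf.stalk z) =
      Module.supportDim (FibQ Γ(Y, V) (chartPrime hW σ _ hz).asIdeal)
        (FibM Γ(Y, V) (chartPrime hW σ _ hz).asIdeal Γ(F, W)) ∧
    LocCoh.depth ((f.fiber y).presheaf.stalk z)
        (((Scheme.Modules.pullback (f.fiberι y)).obj F).presheaf.stalk z) =
      LocCoh.depth (FibQ Γ(Y, V) (chartPrime hW σ _ hz).asIdeal)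
        (FibM Γ(Y, V) (chartPrime hW σ _ hz).asIdeal Γ(F, W)) ∧
    (∀ k, LocCoh.HasSk k ((f.fiber y).presheaf.stalk z)
        (((Scheme.Modules.pullback (f.fiberι y)).obj F).presheaf.stalk z) ↔
      LocCoh.HasSk k (FibQ Γ(Y, V) (chartPrime hW σ _ hz).asIdeal)
        (FibM Γ(Y, V) (chartPrime hW σ _ hz).asIdeal Γ(F, W))) ∧
    (EGA4.IsEquidimModule ((f.fiber y).presheaf.stalk z)
        (((Scheme.Modules.pullback (f.fiberι y)).obj F).presheaf.stalk z) ↔
      EGA4.IsEquidimModule (FibQ Γ(Y, V) (chartPrime hW σ _ hz).asIdeal)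
        (FibM Γ(Y, V) (chartPrime hW σ _ hz).asIdeal Γ(F, W))) := by
  letI : Algebra (X.presheaf.stalk (f.fiberι y z)) ((f.fiber y).presheaf.stalk z) :=
    ((f.fiberι y).stalkMap z).hom.toAlgebra
  obtain ⟨h1, h2, h3, h4⟩ := fibre_tensor_eq f hV hW e σ hσ hσC Γ(F, W) hfin y z hz
    (F.presheaf.stalk (f.fiberι y z)) (LocFree.exists_stalkMap hW hq hz)
  let eP : (((Scheme.Modules.pullback (f.fiberι y)).obj F).presheaf.stalk z) ≃ₗ[(f.fiber y).presheaf.stalk z]
      (f.fiber y).presheaf.stalk z ⊗[X.presheaf.stalk (f.fiberι y z)] F.presheaf.stalk (f.fiberι y z) :=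
    ((KFlat.pullStalkIso (f.fiberι y) z).app F).toLinearEquiv
  exact ⟨(Module.supportDim_eq_of_equiv eP).trans h1, (LocH.idealDepth_congr eP _).trans h2,
    fun k => (⟨hasSk_congr eP k, hasSk_congr eP.symm k⟩ : _ ↔ _).trans (h3 k),
    (⟨isEquidimModule_congr eP, isEquidimModule_congr eP.symm⟩ : _ ↔ _).trans h4⟩

include hV hσ hσC in
theorem fibre_ring_eq (hfin : letI : Module (MvPolynomial (Fin n) Γ(Y, V)) Γ(X, W) := Module.compHom Γ(X, W) σ
      Module.Finite (MvPolynomial (Fin n) Γ(Y, V)) Γ(X, W))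
    (y : Y) (z : ↥(f.fiber y)) (hz : f.fiberι y z ∈ W) :
    letI : Module (MvPolynomial (Fin n) Γ(Y, V)) Γ(X, W) := Module.compHom Γ(X, W) σ
    ringKrullDim ((f.fiber y).presheaf.stalk z) =
      Module.supportDim (FibQ Γ(Y, V) (chartPrime hW σ _ hz).asIdeal)
        (FibM Γ(Y, V) (chartPrime hW σ _ hz).asIdeal Γ(X, W)) ∧
    LocCoh.depth ((f.fiber y).presheaf.stalk z) ((f.fiber y).presheaf.stalk z) =
      LocCoh.depth (FibQ Γ(Y, V) (chartPrime hW σ _ hz).asIdeal)
        (FibM Γ(Y, V) (chartPrime hW σ _ hz).asIdeal Γ(X, W)) ∧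
    (∀ k, LocCoh.HasSk k ((f.fiber y).presheaf.stalk z) ((f.fiber y).presheaf.stalk z) ↔
      LocCoh.HasSk k (FibQ Γ(Y, V) (chartPrime hW σ _ hz).asIdeal)
        (FibM Γ(Y, V) (chartPrime hW σ _ hz).asIdeal Γ(X, W))) := by
  letI : Algebra (X.presheaf.stalk (f.fiberι y z)) ((f.fiber y).presheaf.stalk z) :=
    ((f.fiberι y).stalkMap z).hom.toAlgebra
  letI : Algebra Γ(X, W) (X.presheaf.stalk (f.fiberι y z)) := (X.presheaf.germ W (f.fiberι y z) hz).hom.toAlgebra
  haveI : IsLocalization.AtPrime (X.presheaf.stalk (f.fiberι y z)) (hW.primeIdealOf ⟨f.fiberι y z, hz⟩).asIdeal :=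
    hW.isLocalization_stalk ⟨_, hz⟩
  obtain ⟨h1, h2, h3, -⟩ := fibre_tensor_eq f hV hW e σ hσ hσC Γ(X, W) hfin y z hz
    (X.presheaf.stalk (f.fiberι y z)) ⟨Algebra.linearMap Γ(X, W) _,
      (isLocalizedModule_iff_isLocalization' _ _).2 inferInstance⟩
  let eR := TensorProduct.AlgebraTensorModule.rid (X.presheaf.stalk (f.fiberι y z))
    ((f.fiber y).presheaf.stalk z) ((f.fiber y).presheaf.stalk z)
  exact ⟨(Module.supportDim_self_eq_ringKrullDim (R := (f.fiber y).presheaf.stalk z)).symm.trans ((Module.supportDim_eq_of_equiv eR).symm.trans h1),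
    (LocH.idealDepth_congr eR _).symm.trans h2,
    fun k => (⟨hasSk_congr eR.symm k, hasSk_congr eR k⟩ : _ ↔ _).trans (h3 k)⟩

end Chart

end Groth.Agent.FibDepth
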