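import Groth.Agent.FibDepth.FibBCDim
import Groth.Agent.GenFree.Main

/-!
# Constructibility of loci in the fibres, over polynomial rings

A family of subsets of spectra of polynomial rings, attached to finitely presented modules, which commutes with
change of the base and which is open for modules flat over the base, is made up of constructible sets.
-/

set_option autoImplicit false
set_option linter.style.haveILetI false
set_option backward.isDefEq.respectTransparency false

universe u

open IsLocalRing TensorProduct Topology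

namespace Groth.Agent.FibDepth

/-- Inverse images of constructible sets under maps of spectra are constructible. -/
theorem isConstructible_preimage_comap {R S : Type u} [CommRing R] [CommRing S] (g : R →+* S)
    {E : Set (PrimeSpectrum R)} (hE : IsConstructible E) : IsConstructible (PrimeSpectrum.comap g ⁻¹' E) := by
  refine hE.preimage (PrimeSpectrum.continuous_comap g) fun U hU hUr => ?_
  obtain ⟨t, ht⟩ := (PrimeSpectrum.isCompact_isOpen_iff).1 ⟨hUr.isCompact, hU⟩
  have hc : IsCompact (PrimeSpectrum.comap g ⁻¹' U) ∧ IsOpen (PrimeSpectrum.comap g ⁻¹' U) := by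
    classical
    refine (PrimeSpectrum.isCompact_isOpen_iff).2 ⟨t.image g, ?_⟩
    rw [← ht, Set.preimage_compl, PrimeSpectrum.preimage_comap_zeroLocus, Finset.coe_image]
  exact fun V hV hVo => QuasiSeparatedSpace.inter_isCompact _ V hc.2 hc.1 hVo hV

section Algebras

attribute [local instance] MvPolynomial.algebraMvPolynomial

variable {n : ℕ}

/-- Recognising a module obtained by change of the base. -/
theorem isPolyBC_of_isBaseChange {A₀ A : Type u} [CommRing A₀] [CommRing A] [Algebra A₀ A] {M₀ M : Type u}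
    [AddCommGroup M₀] [Module (MvPolynomial (Fin n) A₀) M₀] [AddCommGroup M] [Module (MvPolynomial (Fin n) A) M]
    [inst : Module (MvPolynomial (Fin n) A₀) M]
    [IsScalarTower (MvPolynomial (Fin n) A₀) (MvPolynomial (Fin n) A) M]
    (g : M₀ →ₗ[MvPolynomial (Fin n) A₀] M) (h : IsBaseChange (MvPolynomial (Fin n) A) g) :
    IsPolyBC (A₀ := A₀) (A := A) (n := n) g := by
  obtain rfl : inst = Module.compHom M (polyBC (A₀ := A₀) (A := A) (n := n)) :=
    Module.ext' _ _ fun r x => (algebraMap_smul (MvPolynomial (Fin n) A) r x).symm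
  letI := Module.compHom M (polyBC (A₀ := A₀) (A := A) (n := n))
  exact ⟨g.map_add, g.map_smul, h⟩

/-- The tensor product is a change of the base. -/
theorem isPolyBC_mk (A₀ A : Type u) [CommRing A₀] [CommRing A] [Algebra A₀ A] (M₀ : Type u) [AddCommGroup M₀]
    [Module (MvPolynomial (Fin n) A₀) M₀] :
    IsPolyBC (A₀ := A₀) (A := A) (n := n)
      (TensorProduct.mk (MvPolynomial (Fin n) A₀) (MvPolynomial (Fin n) A) M₀ 1) :=
  isPolyBC_of_isBaseChange _ (TensorProduct.isBaseChange (MvPolynomial (Fin n) A₀) M₀ (MvPolynomial (Fin n) A))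

set_option backward.isDefEq.respectTransparency true in
theorem flat_baseChange_poly (R L : Type u) [CommRing R] [CommRing L] [Algebra R L] (M : Type u) [AddCommGroup M]
    [Module (MvPolynomial (Fin n) R) M] [Module R M] [IsScalarTower R (MvPolynomial (Fin n) R) M]
    (h : Module.Flat L (L ⊗[R] M)) : Module.Flat L (MvPolynomial (Fin n) L ⊗[MvPolynomial (Fin n) R] M) :=
  @Module.Flat.of_linearEquiv L _ _ _ _ _ _ _ h
    (Algebra.IsPushout.cancelBaseChange R L (MvPolynomial (Fin n) R) (MvPolynomial (Fin n) L) M)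

set_option backward.isDefEq.respectTransparency true in
/-- Over a domain a finite module becomes flat after inverting one element. -/
theorem exists_flat_localization (R : Type u) [CommRing R] [IsDomain R] (M : Type u) [AddCommGroup M]
    [Module (MvPolynomial (Fin n) R) M] [Module R M] [IsScalarTower R (MvPolynomial (Fin n) R) M]
    [Module.Finite (MvPolynomial (Fin n) R) M] :
    ∃ f : R, f ≠ 0 ∧ Module.Flat (Localization.Away f)
      (MvPolynomial (Fin n) (Localization.Away f) ⊗[MvPolynomial (Fin n) R] M) := by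
  obtain ⟨f, hf, hfree, -, -, -⟩ := GenFree.generic_freeness (R := R) (S := MvPolynomial (Fin n) R) (M := M)
  haveI := hfree
  exact ⟨f, hf, flat_baseChange_poly R (Localization.Away f) M inferInstance⟩

end Algebras

/-- A family of subsets of spectra of polynomial rings attached to modules. -/
abbrev Locus (n : ℕ) : Type (u + 1) :=
  ∀ (A : Type u) [CommRing A] (M : Type u) [AddCommGroup M] [Module (MvPolynomial (Fin n) A) M],
    Set (PrimeSpectrum (MvPolynomial (Fin n) A))

/-- A family of loci commuting with change of the base. -/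
def IsBCLocus {n : ℕ} (S : Locus.{u} n) : Prop :=
  ∀ (A₀ A : Type u) [CommRing A₀] [CommRing A] [Algebra A₀ A] (M₀ M : Type u) [AddCommGroup M₀]
    [Module (MvPolynomial (Fin n) A₀) M₀] [AddCommGroup M] [Module (MvPolynomial (Fin n) A) M] (f : M₀ → M),
    IsPolyBC (A₀ := A₀) (A := A) (n := n) f → Module.FinitePresentation (MvPolynomial (Fin n) A₀) M₀ →
      ∀ Q, Q ∈ S A M ↔ downPt Q ∈ S A₀ M₀

/-- A family of loci open for modules flat over the base. -/
def IsFlatOpen {n : ℕ} (S : Locus.{u} n) : Prop :=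
  ∀ (A : Type u) [CommRing A] (M : Type u) [AddCommGroup M] [Module (MvPolynomial (Fin n) A) M] [Module A M]
    [IsScalarTower A (MvPolynomial (Fin n) A) M], Module.FinitePresentation (MvPolynomial (Fin n) A) M →
      Module.Flat A M → IsOpen (S A M)

variable {n : ℕ} {S : Locus.{u} n}

set_option backward.isDefEq.respectTransparency true in
/-- The locus on one stratum of the base. -/
theorem isConstructible_stratum (hbc : IsBCLocus S) (hop : IsFlatOpen S) (A : Type u) [CommRing A]
    [IsNoetherianRing A] (M : Type u) [AddCommGroup M] [Module (MvPolynomial (Fin n) A) M]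
    [Module.Finite (MvPolynomial (Fin n) A) M] (I : Ideal A) [I.IsPrime] :
    ∃ f ∉ I, IsConstructible (S A M ∩
      (PrimeSpectrum.zeroLocus (I.map (MvPolynomial.C (σ := Fin n)) : Set (MvPolynomial (Fin n) A)) ∩
        (PrimeSpectrum.basicOpen (MvPolynomial.C (σ := Fin n) f) : Set (PrimeSpectrum (MvPolynomial (Fin n) A))))) := by
  letI : ∀ (R T : Type u) [CommRing R] [CommRing T] [Algebra R T],
      Algebra (MvPolynomial (Fin n) R) (MvPolynomial (Fin n) T) := fun R T _ _ _ => MvPolynomial.algebraMvPolynomial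
  let R := A ⧸ I
  let MR := MvPolynomial (Fin n) R ⊗[MvPolynomial (Fin n) A] M
  obtain ⟨f, hf, hflat⟩ := exists_flat_localization (n := n) R MR
  obtain ⟨f₀, rfl⟩ := Ideal.Quotient.mk_surjective f
  let L := Localization.Away (Ideal.Quotient.mk I f₀)
  let ML := MvPolynomial (Fin n) L ⊗[MvPolynomial (Fin n) R] MR
  haveI : Module.FinitePresentation (MvPolynomial (Fin n) A) M := Module.finitePresentation_of_finite _ _
  haveI : Module.FinitePresentation (MvPolynomial (Fin n) L) ML := Module.finitePresentation_of_finite (MvPolynomial (Fin n) L) ML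
  have h1 := hbc A R M MR _ (isPolyBC_mk A R M) inferInstance
  have h2 := hbc R L MR ML _ (isPolyBC_mk R L MR) (Module.finitePresentation_of_finite (MvPolynomial (Fin n) R) MR)
  have hopen : IsOpen (S L ML) := hop L ML inferInstance hflat
  refine ⟨f₀, fun h => hf (Ideal.Quotient.eq_zero_iff_mem.2 h), ?_⟩
  let p1 : PrimeSpectrum (MvPolynomial (Fin n) R) → PrimeSpectrum (MvPolynomial (Fin n) A) := downPt
  let p2 : PrimeSpectrum (MvPolynomial (Fin n) L) → PrimeSpectrum (MvPolynomial (Fin n) R) := downPt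
  have hsurj : Function.Surjective (polyBC (A₀ := A) (A := R) (n := n)) :=
    MvPolynomial.map_surjective _ Ideal.Quotient.mk_surjective
  haveI : IsLocalization.Away (MvPolynomial.C (σ := Fin n) (Ideal.Quotient.mk I f₀)) (MvPolynomial (Fin n) L) := by
    have h := MvPolynomial.isLocalization (σ := Fin n) (Submonoid.powers (Ideal.Quotient.mk I f₀)) L
    rwa [Submonoid.map_powers] at h
  have he1 : IsClosedEmbedding p1 := PrimeSpectrum.isClosedEmbedding_comap_of_surjective _ _ hsurj
  have he2 : IsOpenEmbedding p2 := PrimeSpectrum.localization_away_isOpenEmbedding (MvPolynomial (Fin n) L)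
    (MvPolynomial.C (σ := Fin n) (Ideal.Quotient.mk I f₀))
  obtain ⟨O, hO, hO'⟩ := (he1.isInducing.comp he2.isInducing).isOpen_iff.1 hopen
  have hr : Set.range (p1 ∘ p2) =
      PrimeSpectrum.zeroLocus (I.map (MvPolynomial.C (σ := Fin n)) : Set (MvPolynomial (Fin n) A)) ∩
        (PrimeSpectrum.basicOpen (MvPolynomial.C (σ := Fin n) f₀) : Set (PrimeSpectrum (MvPolynomial (Fin n) A))) := by
    have hr2 : Set.range p2 = (PrimeSpectrum.basicOpen (MvPolynomial.C (σ := Fin n) (Ideal.Quotient.mk I f₀)) :
        Set (PrimeSpectrum (MvPolynomial (Fin n) R))) :=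
      PrimeSpectrum.localization_away_comap_range (MvPolynomial (Fin n) L) _
    have hr1 : Set.range p1 = PrimeSpectrum.zeroLocus (I.map (MvPolynomial.C (σ := Fin n)) : Set (MvPolynomial (Fin n) A)) := by
      show Set.range (PrimeSpectrum.comap _) = _
      rw [range_comap_of_surjective _ _ hsurj, MvPolynomial.ker_map, Ideal.Quotient.algebraMap_eq, Ideal.mk_ker]
    have hp : p1 ⁻¹' (PrimeSpectrum.basicOpen (MvPolynomial.C (σ := Fin n) f₀) : Set (PrimeSpectrum (MvPolynomial (Fin n) A))) =
        (PrimeSpectrum.basicOpen (MvPolynomial.C (σ := Fin n) (Ideal.Quotient.mk I f₀)) :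
          Set (PrimeSpectrum (MvPolynomial (Fin n) R))) := by
      ext q
      show polyBC (A := R) (MvPolynomial.C f₀) ∉ q.asIdeal ↔ _ ∉ q.asIdeal
      rw [MvPolynomial.map_C]
      rfl
    rw [Set.range_comp, hr2, ← hp, Set.image_preimage_eq_range_inter, hr1]
  rw [← hr]
  have heq : S A M ∩ Set.range (p1 ∘ p2) = O ∩ Set.range (p1 ∘ p2) := by
    ext x
    refine and_congr_left ?_
    rintro ⟨Q, rfl⟩
    calc p1 (p2 Q) ∈ S A M ↔ p2 Q ∈ S R MR := (h1 (p2 Q)).symm
      _ ↔ Q ∈ S L ML := (h2 Q).symm
      _ ↔ _ := by rw [← hO']; rfl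
  rw [heq, hr]
  exact (IsRetrocompact.isConstructible hO (fun _ _ _ => TopologicalSpace.NoetherianSpace.isCompact _)).inter
    ((IsRetrocompact.isConstructible (PrimeSpectrum.isClosed_zeroLocus _).isOpen_compl
      (fun _ _ _ => TopologicalSpace.NoetherianSpace.isCompact _)).of_compl.inter
      (IsRetrocompact.isConstructible (PrimeSpectrum.basicOpen _).2 (fun _ _ _ => TopologicalSpace.NoetherianSpace.isCompact _)))

/-- Over a noetherian base the loci are constructible. -/
theorem isConstructible_of_noetherian (hbc : IsBCLocus S) (hop : IsFlatOpen S) (A : Type u) [CommRing A]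
    [IsNoetherianRing A] (M : Type u) [AddCommGroup M] [Module (MvPolynomial (Fin n) A) M]
    [Module.Finite (MvPolynomial (Fin n) A) M] : IsConstructible (S A M) := by
  suffices h : ∀ I : Ideal A, IsConstructible
      (S A M ∩ PrimeSpectrum.zeroLocus (I.map (MvPolynomial.C (σ := Fin n)) : Set (MvPolynomial (Fin n) A))) by
    simpa [PrimeSpectrum.zeroLocus_bot] using h ⊥
  intro I
  induction I using WellFoundedGT.induction with
  | ind I ih =>
    by_cases hI : I = ⊤
    · subst hI
      rw [Ideal.map_top, Submodule.top_coe, PrimeSpectrum.zeroLocus_univ, Set.inter_empty]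
      exact IsConstructible.empty
    by_cases hp : I.IsPrime
    · obtain ⟨f, hf, hs⟩ := isConstructible_stratum hbc hop A M I
      have hlt : I < I ⊔ Ideal.span {f} := left_lt_sup.2 fun h => hf (h (Ideal.mem_span_singleton_self f))
      convert hs.union (ih _ hlt) using 1
      rw [Ideal.map_sup, Ideal.map_span, Set.image_singleton, PrimeSpectrum.zeroLocus_sup,
        PrimeSpectrum.zeroLocus_span, PrimeSpectrum.basicOpen_eq_zeroLocus_compl]
      ext x
      simp only [Set.mem_inter_iff, Set.mem_union, Set.mem_compl_iff]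
      tauto
    · obtain ⟨a, b, hab, ha, hb⟩ : ∃ a b, a * b ∈ I ∧ a ∉ I ∧ b ∉ I := by
        by_contra h
        push Not at h
        exact hp ⟨hI, fun {a b} hab => or_iff_not_imp_left.2 (h a b hab)⟩
      have hlt : ∀ c, c ∉ I → I < I ⊔ Ideal.span {c} := fun c hc => left_lt_sup.2 fun h => hc (h (Ideal.mem_span_singleton_self c))
      convert (ih _ (hlt a ha)).union (ih _ (hlt b hb)) using 1
      simp only [Ideal.map_sup, Ideal.map_span, Set.image_singleton, PrimeSpectrum.zeroLocus_sup,
        PrimeSpectrum.zeroLocus_span]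
      ext x
      simp only [Set.mem_inter_iff, Set.mem_union]
      refine ⟨fun ⟨h1, h2⟩ => ?_, fun h => ?_⟩
      · have h3 : MvPolynomial.C (σ := Fin n) a * MvPolynomial.C b ∈ x.asIdeal := by
          rw [← map_mul]
          exact h2 (Ideal.mem_map_of_mem _ hab)
        rcases x.isPrime.mem_or_mem h3 with h4 | h4
        · exact Or.inl ⟨h1, h2, Set.singleton_subset_iff.2 h4⟩
        · exact Or.inr ⟨h1, h2, Set.singleton_subset_iff.2 h4⟩
      · rcases h with ⟨h1, h2, -⟩ | ⟨h1, h2, -⟩ <;> exact ⟨h1, h2⟩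

/-- A finitely presented module whose relations come from a subring is a change of rings. -/
theorem exists_quotient_model (P₀ P : Type u) [CommRing P₀] [CommRing P] [Algebra P₀ P] (M : Type u)
    [AddCommGroup M] [Module P M] [Module P₀ M] [IsScalarTower P₀ P M] {k : ℕ} (K : Submodule P (Fin k → P))
    (e : M ≃ₗ[P] (Fin k → P) ⧸ K) (V : Finset (Fin k → P)) (hV : Submodule.span P (V : Set (Fin k → P)) = K)
    (hlift : ∀ v ∈ V, ∀ i, v i ∈ Set.range (algebraMap P₀ P)) :
    ∃ (M₀ : Type u) (_ : AddCommGroup M₀) (_ : Module P₀ M₀) (g : M₀ →ₗ[P₀] M),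
      IsBaseChange P g ∧ Module.FinitePresentation P₀ M₀ := by
  classical
  choose w hw using fun (v : (V : Set (Fin k → P))) (i : Fin k) => hlift v.1 v.2 i
  let N₀ : Submodule P₀ (Fin k → P₀) := Submodule.span P₀ (Set.range w)
  let g₀ : (Fin k → P₀) →ₗ[P₀] M :=
    (((e.symm.toLinearMap).comp K.mkQ).restrictScalars P₀).comp
      (LinearMap.pi fun i => (Algebra.linearMap P₀ P).comp (LinearMap.proj i))
  have hg₀ : N₀ ≤ LinearMap.ker g₀ := by
    rw [Submodule.span_le]
    rintro _ ⟨v, rfl⟩
    show e.symm (K.mkQ (fun i => algebraMap P₀ P (w v i))) = 0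
    rw [funext (hw v), Submodule.mkQ_apply, (Submodule.Quotient.mk_eq_zero K).2 (hV ▸ Submodule.subset_span v.2),
      map_zero]
  let g : ((Fin k → P₀) ⧸ N₀) →ₗ[P₀] M := N₀.liftQ g₀ hg₀
  refine ⟨(Fin k → P₀) ⧸ N₀, inferInstance, inferInstance, g, ?_,
    Module.finitePresentation_of_surjective N₀.mkQ N₀.mkQ_surjective (by
      rw [N₀.ker_mkQ]; exact Submodule.fg_span (Set.finite_range w))⟩
  let φ : (Fin k → P) →ₗ[P] P ⊗[P₀] ((Fin k → P₀) ⧸ N₀) :=
    Fintype.linearCombination P fun i => 1 ⊗ₜ N₀.mkQ (Pi.single i 1)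
  have hφ : ∀ x : Fin k → P₀, φ (fun i => algebraMap P₀ P (x i)) = 1 ⊗ₜ N₀.mkQ x := by
    intro x
    rw [Fintype.linearCombination_apply]
    conv_rhs => rw [pi_eq_sum_univ' x, map_sum, TensorProduct.tmul_sum]
    refine Finset.sum_congr rfl fun i _ => ?_
    rw [algebraMap_smul, map_smul, TensorProduct.tmul_smul]
  have hφK : K ≤ LinearMap.ker φ := by
    rw [← hV, Submodule.span_le]
    intro v hv
    show φ v = 0
    rw [show v = fun i => algebraMap P₀ P (w ⟨v, hv⟩ i) from (funext (hw ⟨v, hv⟩)).symm, hφ, Submodule.mkQ_apply,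
      (Submodule.Quotient.mk_eq_zero N₀).2 (Submodule.subset_span ⟨_, rfl⟩), TensorProduct.tmul_zero]
  let ψ : M →ₗ[P] P ⊗[P₀] ((Fin k → P₀) ⧸ N₀) := (K.liftQ φ hφK).comp e.toLinearMap
  let L : P ⊗[P₀] ((Fin k → P₀) ⧸ N₀) →ₗ[P] M :=
    AlgebraTensorModule.lift (((LinearMap.lsmul P (((Fin k → P₀) ⧸ N₀) →ₗ[P₀] M)).flip g))
  have hL : ∀ p m, L (p ⊗ₜ m) = p • g m := fun _ _ => rfl
  have h1 : ∀ m, ψ (g m) = 1 ⊗ₜ m := by
    intro m
    obtain ⟨x, rfl⟩ := N₀.mkQ_surjective m
    show K.liftQ φ hφK (e (e.symm (K.mkQ (fun i => algebraMap P₀ P (x i))))) = _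
    rw [e.apply_symm_apply, Submodule.mkQ_apply, Submodule.liftQ_apply, hφ]
  have h2 : ψ.comp L = LinearMap.id := by
    refine AlgebraTensorModule.ext fun p m => ?_
    rw [LinearMap.comp_apply, hL, map_smul, h1, LinearMap.id_apply, TensorProduct.smul_tmul', smul_eq_mul, mul_one]
  have h3 : ∀ v, L (φ v) = e.symm (K.mkQ v) := by
    intro v
    rw [Fintype.linearCombination_apply, map_sum]
    conv_rhs => rw [pi_eq_sum_univ' v, map_sum, map_sum]
    refine Finset.sum_congr rfl fun i _ => ?_
    rw [map_smul, map_smul, map_smul, hL, one_smul]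
    refine congrArg (v i • ·) (congrArg e.symm (congrArg K.mkQ (funext fun j => ?_)))
    show algebraMap P₀ P _ = _
    rw [LinearMap.proj_apply, Pi.single_apply, apply_ite (algebraMap P₀ P), map_one, map_zero, Pi.single_apply]
  have h4 : L.comp ψ = LinearMap.id := by
    refine LinearMap.ext fun m => ?_
    obtain ⟨x, rfl⟩ := e.symm.surjective m
    obtain ⟨x, rfl⟩ := K.mkQ_surjective x
    show L (K.liftQ φ hφK (e (e.symm (K.mkQ x)))) = _
    rw [e.apply_symm_apply, Submodule.mkQ_apply, Submodule.liftQ_apply, h3]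
    rfl
  exact IsBaseChange.of_equiv (LinearEquiv.ofLinearMap L ψ h4 h2) fun m => by
    show L (1 ⊗ₜ m) = g m
    rw [hL, one_smul]

/-- A finitely presented module comes from a noetherian base. -/
theorem exists_model (A : Type u) [CommRing A] (M : Type u) [AddCommGroup M]
    [Module (MvPolynomial (Fin n) A) M] [Module.FinitePresentation (MvPolynomial (Fin n) A) M] :
    ∃ (A₀ : Subalgebra ℤ A) (_ : IsNoetherianRing A₀) (M₀ : Type u) (_ : AddCommGroup M₀)
      (_ : Module (MvPolynomial (Fin n) A₀) M₀) (g : M₀ → M),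
      IsPolyBC (A₀ := A₀) (A := A) (n := n) g ∧ Module.FinitePresentation (MvPolynomial (Fin n) A₀) M₀ := by
  classical
  obtain ⟨k, K, e, V, hV⟩ := Module.FinitePresentation.exists_fin (MvPolynomial (Fin n) A) M
  let G : Finset A := V.biUnion fun v => Finset.univ.biUnion fun i => (v i).coeffs
  let A₀ := Algebra.adjoin ℤ (G : Set A)
  have hN : IsNoetherianRing A₀ := by
    haveI : Algebra.FiniteType ℤ A₀ := A₀.fg_iff_finiteType.1 ⟨G, rfl⟩
    exact Algebra.FiniteType.isNoetherianRing ℤ A₀
  letI : Algebra (MvPolynomial (Fin n) A₀) (MvPolynomial (Fin n) A) := MvPolynomial.algebraMvPolynomial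
  letI : Module (MvPolynomial (Fin n) A₀) M := Module.compHom M (polyBC (A₀ := A₀) (A := A) (n := n))
  haveI : IsScalarTower (MvPolynomial (Fin n) A₀) (MvPolynomial (Fin n) A) M :=
    IsScalarTower.of_algebraMap_smul fun _ _ => rfl
  obtain ⟨M₀, _, _, g, hg, hfp⟩ := exists_quotient_model (MvPolynomial (Fin n) A₀) (MvPolynomial (Fin n) A) M K e V hV
    fun v hv i => MvPolynomial.mem_range_map_iff_coeffs_subset.2 fun c hc =>
      ⟨⟨c, Algebra.subset_adjoin (Finset.mem_biUnion.2 ⟨v, hv, Finset.mem_biUnion.2 ⟨i, Finset.mem_univ _, hc⟩⟩)⟩, rfl⟩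
  exact ⟨A₀, hN, M₀, inferInstance, inferInstance, g, isPolyBC_of_isBaseChange g hg, hfp⟩

/-- The loci are constructible. -/
theorem isConstructible_locus (hbc : IsBCLocus S) (hop : IsFlatOpen S) (A : Type u) [CommRing A] (M : Type u)
    [AddCommGroup M] [Module (MvPolynomial (Fin n) A) M] [Module.FinitePresentation (MvPolynomial (Fin n) A) M] :
    IsConstructible (S A M) := by
  obtain ⟨A₀, hN, M₀, _, _, g, hg, hfp⟩ := exists_model (n := n) A M
  have h := isConstructible_of_noetherian hbc hop A₀ M₀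
  have heq : S A M = downPt ⁻¹' S A₀ M₀ := Set.ext (hbc A₀ A M₀ M g hg hfp)
  rw [heq]
  exact isConstructible_preimage_comap _ h

end Groth.Agent.FibDepth
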