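import Groth.Agent.FibDepth.BridgeAlg

/-!
# Localisations of fibres
-/

set_option autoImplicit false
set_option linter.style.haveILetI false
set_option backward.isDefEq.respectTransparency false

universe u

open IsLocalRing TensorProduct

namespace Groth.Agent.FibDepth

/-- Base change of a localised module. -/
noncomputable def baseChangeLocalized {P : Type u} [CommRing P] (G : Submonoid P) (R M : Type u) [CommRing R]
    [Algebra P R] [Algebra (Localization G) R] [IsScalarTower P (Localization G) R] [AddCommGroup M] [Module P M] :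
    R ⊗[Localization G] LocalizedModule G M ≃ₗ[R] R ⊗[P] M :=
  (AlgebraTensorModule.congr (LinearEquiv.refl R R)
    ((isLocalizedModule_iff_isBaseChange G (Localization G) (LocalizedModule.mkLinearMap G M)).mp
      inferInstance).equiv.symm).trans
    (AlgebraTensorModule.cancelBaseChange P (Localization G) R R M)

/-- A localisation of a quotient, as a quotient of a localisation. -/
theorem surjective_and_ker {S S' L : Type u} [CommRing S] [CommRing S'] [CommRing L] (J : Ideal S)
    (p : Ideal (S ⧸ J)) [p.IsPrime] [Algebra (S ⧸ J) L] [IsLocalization.AtPrime L p] (γ : S →+* S') (φ : S' →+* L)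
    (hγ : ∀ z, φ (γ z) = algebraMap (S ⧸ J) L (Ideal.Quotient.mk J z))
    (hunit : ∀ z, Ideal.Quotient.mk J z ∉ p → IsUnit (γ z))
    (hfrac : ∀ s, ∃ z c, Ideal.Quotient.mk J c ∉ p ∧ s * γ c = γ z) :
    Function.Surjective φ ∧ RingHom.ker φ = J.map γ := by
  refine ⟨fun l => ?_, le_antisymm (fun s hs => ?_) ?_⟩
  · obtain ⟨t, ⟨c, hc⟩, rfl⟩ := IsLocalization.exists_mk'_eq p.primeCompl l
    obtain ⟨t, rfl⟩ := Ideal.Quotient.mk_surjective t
    obtain ⟨c, rfl⟩ := Ideal.Quotient.mk_surjective c
    obtain ⟨v, hv⟩ := hunit c hc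
    refine ⟨γ t * ↑v⁻¹, ?_⟩
    rw [IsLocalization.eq_mk'_iff_mul_eq]
    show φ (γ t * ↑v⁻¹) * algebraMap (S ⧸ J) L (Ideal.Quotient.mk J c) = _
    rw [← hγ, ← hγ, ← map_mul, mul_assoc, ← hv, Units.inv_mul, mul_one]
  · obtain ⟨z, c, hc, hsc⟩ := hfrac s
    have h0 : algebraMap (S ⧸ J) L (Ideal.Quotient.mk J z) = 0 := by
      rw [← hγ, ← hsc, map_mul, RingHom.mem_ker.mp hs, zero_mul]
    obtain ⟨⟨d, hd⟩, hdz⟩ := (IsLocalization.map_eq_zero_iff p.primeCompl L _).1 h0
    obtain ⟨d, rfl⟩ := Ideal.Quotient.mk_surjective d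
    rw [← map_mul, Ideal.Quotient.eq_zero_iff_mem] at hdz
    have h1 : γ d * (s * γ c) ∈ J.map γ := by
      rw [hsc, ← map_mul]
      exact Ideal.mem_map_of_mem γ hdz
    obtain ⟨v, hv⟩ := hunit c hc
    obtain ⟨w, hw⟩ := hunit d hd
    rw [← hv, ← hw] at h1
    have h2 := Ideal.mul_mem_left (J.map γ) (↑w⁻¹ * ↑v⁻¹) h1
    convert h2 using 1
    rw [show (↑w⁻¹ : S') * ↑v⁻¹ * (↑w * (s * ↑v)) = s * ((↑w⁻¹ * ↑w) * (↑v⁻¹ * ↑v)) by ring,
      Units.inv_mul, Units.inv_mul, mul_one, mul_one]
  · rw [Ideal.map_le_iff_le_comap]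
    intro z hz
    rw [Ideal.mem_comap, RingHom.mem_ker, hγ, Ideal.Quotient.eq_zero_iff_mem.mpr hz, map_zero]

theorem invariants_double {P L : Type u} [CommRing P] [CommRing L] [IsLocalRing L] [Algebra P L] (G G' : Submonoid P) (J : Ideal (Localization G))
    (p : Ideal (Localization G ⧸ J)) [p.IsPrime] (J' : Ideal (Localization G')) [IsLocalRing (Localization G' ⧸ J')]
    [IsNoetherianRing (Localization G' ⧸ J')] [Algebra (Localization G ⧸ J) L] [Algebra (Localization G) L] [IsScalarTower (Localization G) (Localization G ⧸ J) L]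
    [IsScalarTower P (Localization G) L] [IsLocalization.AtPrime L p] (φ : Localization G' →+* L)
    (hφ : ∀ b, φ (algebraMap P (Localization G') b) = algebraMap P L b)
    (hs : Function.Surjective φ) (hk : RingHom.ker φ = J') (M : Type u) [AddCommGroup M] [Module P M]
    [Module.Finite P M] :
    Module.supportDim L (L ⊗[Localization G ⧸ J] ((Localization G ⧸ J) ⊗[Localization G] LocalizedModule G M)) =
      Module.supportDim (Localization G' ⧸ J') ((Localization G' ⧸ J') ⊗[Localization G'] LocalizedModule G' M) ∧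
    LocCoh.depth L (L ⊗[Localization G ⧸ J] ((Localization G ⧸ J) ⊗[Localization G] LocalizedModule G M)) =
      LocCoh.depth (Localization G' ⧸ J') ((Localization G' ⧸ J') ⊗[Localization G'] LocalizedModule G' M) := by
  letI : Algebra (Localization G') L := φ.toAlgebra
  haveI : IsScalarTower P (Localization G') L :=
    IsScalarTower.of_algebraMap_eq fun b => (hφ b).symm
  obtain ⟨h1, h2⟩ := transfer (R := L) J' (RingHom.id _)
    Function.surjective_id hs (by rw [Ideal.map_id]; exact hk) (LocalizedModule G' M) (fun _ _ => rfl)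
  let e := (AlgebraTensorModule.cancelBaseChange (Localization G) (Localization G ⧸ J) L L (LocalizedModule G M)).trans
    ((baseChangeLocalized G L M).trans (baseChangeLocalized G' L M).symm)
  exact ⟨(Module.supportDim_eq_of_equiv e).trans h1, (LocH.idealDepth_congr e _).trans h2⟩

/-- A localised module as a base change. -/
noncomputable def eLoc {T : Type u} [CommRing T] (p : Ideal T) [p.IsPrime] (N : Type u) [AddCommGroup N] [Module T N] :
    LocalizedModule p.primeCompl N ≃ₗ[Localization.AtPrime p] Localization.AtPrime p ⊗[T] N :=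
  ((isLocalizedModule_iff_isBaseChange p.primeCompl (Localization.AtPrime p)
    (LocalizedModule.mkLinearMap p.primeCompl N)).mp inferInstance).equiv.symm

variable {A : Type u} [CommRing A] {n : ℕ} (Q : Ideal (MvPolynomial (Fin n) A)) [Q.IsPrime]
variable (M : Type u) [AddCommGroup M] [Module (MvPolynomial (Fin n) A) M] [Module.Finite (MvPolynomial (Fin n) A) M]

/-- The prime of the source under a prime of the fibre. -/
noncomputable abbrev genPrime (p : Ideal (FibQ A Q)) : Ideal (MvPolynomial (Fin n) A) :=
  p.comap (algebraMap (MvPolynomial (Fin n) A) (FibQ A Q))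

theorem genPrime_le (p : Ideal (FibQ A Q)) [p.IsPrime] : genPrime Q p ≤ Q :=
  ((range_comap_fibQ A Q ⟨genPrime Q p, inferInstance⟩).1 ⟨⟨p, inferInstance⟩, rfl⟩).1

theorem genPrime_under (p : Ideal (FibQ A Q)) [p.IsPrime] : (genPrime Q p).under A = Q.under A :=
  ((range_comap_fibQ A Q ⟨genPrime Q p, inferInstance⟩).1 ⟨⟨p, inferInstance⟩, rfl⟩).2

/-- The map of local rings from the point to the generisation. -/
noncomputable def genMap (p : Ideal (FibQ A Q)) [p.IsPrime] :
    Localization.AtPrime Q →+* Localization.AtPrime (genPrime Q p) :=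
  IsLocalization.lift (M := Q.primeCompl) (g := algebraMap (MvPolynomial (Fin n) A) _) fun r =>
    IsLocalization.map_units (Localization.AtPrime (genPrime Q p))
      (⟨r, fun h => r.2 (genPrime_le Q p h)⟩ : (genPrime Q p).primeCompl)

theorem genMap_algebraMap (p : Ideal (FibQ A Q)) [p.IsPrime] (b : MvPolynomial (Fin n) A) :
    genMap Q p (algebraMap (MvPolynomial (Fin n) A) (Localization.AtPrime Q) b) =
      algebraMap (MvPolynomial (Fin n) A) (Localization.AtPrime (genPrime Q p)) b :=
  IsLocalization.lift_eq _ b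

theorem map_fibIdeal_genMap (p : Ideal (FibQ A Q)) [p.IsPrime] :
    (fibIdeal A Q).map (genMap Q p) = fibIdeal A (genPrime Q p) := by
  show ((Q.under A).map (algebraMap A (Localization.AtPrime Q))).map (genMap Q p) =
    ((genPrime Q p).under A).map (algebraMap A (Localization.AtPrime (genPrime Q p)))
  rw [genPrime_under Q p, Ideal.map_map]
  refine congrArg (Ideal.map · (Q.under A)) (RingHom.ext fun a => ?_)
  rw [RingHom.comp_apply, IsScalarTower.algebraMap_apply A (MvPolynomial (Fin n) A) (Localization.AtPrime Q),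
    genMap_algebraMap, ← IsScalarTower.algebraMap_apply]

/-- The map onto the localisation of the fibre. -/
noncomputable def genProj (p : Ideal (FibQ A Q)) [p.IsPrime] :
    Localization.AtPrime (genPrime Q p) →+* Localization.AtPrime p :=
  IsLocalization.lift (M := (genPrime Q p).primeCompl)
    (g := algebraMap (MvPolynomial (Fin n) A) (Localization.AtPrime p)) fun r => by
    rw [IsScalarTower.algebraMap_apply (MvPolynomial (Fin n) A) (FibQ A Q) (Localization.AtPrime p)]
    exact IsLocalization.map_units (Localization.AtPrime p)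
      (⟨algebraMap (MvPolynomial (Fin n) A) (FibQ A Q) (r : MvPolynomial (Fin n) A), r.2⟩ : p.primeCompl)

theorem genProj_algebraMap (p : Ideal (FibQ A Q)) [p.IsPrime] (b : MvPolynomial (Fin n) A) :
    genProj Q p (algebraMap (MvPolynomial (Fin n) A) (Localization.AtPrime (genPrime Q p)) b) =
      algebraMap (MvPolynomial (Fin n) A) (Localization.AtPrime p) b :=
  IsLocalization.lift_eq _ b

theorem genProj_spec (p : Ideal (FibQ A Q)) [p.IsPrime] :
    Function.Surjective (genProj Q p) ∧ RingHom.ker (genProj Q p) = fibIdeal A (genPrime Q p) := by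
  rw [← map_fibIdeal_genMap]
  refine surjective_and_ker (S' := Localization.AtPrime (genPrime Q p)) (L := Localization.AtPrime p) (fibIdeal A Q) p (genMap Q p) (genProj Q p) (fun z => ?_) (fun z hz => ?_) (fun s => ?_)
  · have h : (genProj Q p).comp (genMap Q p) =
        (algebraMap (FibQ A Q) (Localization.AtPrime p)).comp (Ideal.Quotient.mk (fibIdeal A Q)) := by
      refine IsLocalization.ringHom_ext Q.primeCompl (RingHom.ext fun b => ?_)
      rw [RingHom.comp_apply, RingHom.comp_apply, genMap_algebraMap, genProj_algebraMap]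
      rfl
    exact RingHom.congr_fun h z
  · obtain ⟨b, s, rfl⟩ := IsLocalization.exists_mk'_eq Q.primeCompl z
    rw [genMap, IsLocalization.lift_mk', Units.isUnit_mul_units]
    refine IsLocalization.map_units _ (⟨b, fun hb => hz ?_⟩ : (genPrime Q p).primeCompl)
    rw [IsLocalization.mk'_eq_mul_mk'_one b s, map_mul]
    exact Ideal.mul_mem_right _ _ hb
  · obtain ⟨b, c, rfl⟩ := IsLocalization.exists_mk'_eq (genPrime Q p).primeCompl s
    refine ⟨algebraMap _ _ b, algebraMap _ _ (c : MvPolynomial (Fin n) A), c.2, ?_⟩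
    rw [genMap_algebraMap, genMap_algebraMap]
    exact IsLocalization.mk'_spec _ b c

/-- Invariants of a localisation of the fibre are those at the generisation. -/
theorem invariants_localized (p : Ideal (FibQ A Q)) [p.IsPrime] :
    Module.supportDim (Localization.AtPrime p) (LocalizedModule p.primeCompl (FibM A Q M)) =
      Module.supportDim (FibQ A (genPrime Q p)) (FibM A (genPrime Q p) M) ∧
    LocCoh.depth (Localization.AtPrime p) (LocalizedModule p.primeCompl (FibM A Q M)) =
      LocCoh.depth (FibQ A (genPrime Q p)) (FibM A (genPrime Q p) M) := by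
  haveI : IsRegularLocalRing (FibQ A (genPrime Q p)) := isRegularLocalRing_fibQ (genPrime Q p)
  haveI : IsNoetherianRing (FibQ A (genPrime Q p)) := inferInstance
  obtain ⟨hs, hk⟩ := genProj_spec Q p
  obtain ⟨h1, h2⟩ := @invariants_double _ (Localization.AtPrime p) _ _ _ _ Q.primeCompl (genPrime Q p).primeCompl
    (fibIdeal A Q) p _ (fibIdeal A (genPrime Q p)) _ this _ _ _ _ _ (genProj Q p) (genProj_algebraMap Q p) hs hk M _ _ _
  exact ⟨(Module.supportDim_eq_of_equiv (eLoc p _)).trans h1, (LocH.idealDepth_congr (eLoc p _) _).trans h2⟩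

end Groth.Agent.FibDepth
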