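import Groth.Agent.FibDepth.Loci
import Groth.Agent.FibDepth.LocAt
import Groth.Agent.FlatDepth.SkTensor
import Groth.Prelude.Def_EGA4b

/-!
# Openness of the conditions of Serre along the fibres, over polynomial rings
-/

set_option autoImplicit false
set_option linter.style.haveILetI false
set_option backward.isDefEq.respectTransparency false

universe u

open IsLocalRing

namespace Groth.Agent.FibDepth

variable {A : Type u} [CommRing A] {n : ℕ}

theorem rdim_mono {P P' : PrimeSpectrum (MvPolynomial (Fin n) A)} (h : P.asIdeal ≤ P'.asIdeal)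
    (hu : P.asIdeal.under A = P'.asIdeal.under A) : Unibranch.rdim A P'.asIdeal ≤ Unibranch.rdim A P.asIdeal :=
  Unibranch.rdim_le_of_chains P' P' le_rfl (g := 1) P'.isPrime.one_notMem fun l hl =>
    Unibranch.length_le_rdim P l (fun i => (hl i).1.trans (PrimeSpectrum.ext hu.symm)) (h.trans (hl 0).2.1)

/-- The points all whose generisations in the fibre lying in a closed set have relative dimension below `b`. -/
def fibBound (Z : Set (PrimeSpectrum (MvPolynomial (Fin n) A))) (b : ℕ) : Set (PrimeSpectrum (MvPolynomial (Fin n) A)) :=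
  {Q | ∀ P ∈ Z, P.asIdeal ≤ Q.asIdeal → P.asIdeal.under A = Q.asIdeal.under A → Unibranch.rdim A P.asIdeal < b}

theorem isOpen_fibBound {Z : Set (PrimeSpectrum (MvPolynomial (Fin n) A))} (hZ : IsClosed Z) (b : ℕ) :
    IsOpen (fibBound Z b) := by
  obtain ⟨J, rfl⟩ := (PrimeSpectrum.isClosed_iff_zeroLocus_ideal Z).1 hZ
  cases b with
  | zero =>
    convert hZ.isOpen_compl using 1
    ext Q
    exact ⟨fun h hQ => Nat.not_lt_zero _ (h Q hQ le_rfl rfl),
      fun h P hP hPQ _ => absurd (((PrimeSpectrum.le_iff_specializes P Q).1 hPQ).mem_closed hZ hP) h⟩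
  | succ e =>
    let M := MvPolynomial (Fin n) A ⧸ J
    have hM : Module.support (MvPolynomial (Fin n) A) M = PrimeSpectrum.zeroLocus (J : Set (MvPolynomial (Fin n) A)) := by
      rw [Module.support_of_algebra, Ideal.Quotient.algebraMap_eq, Ideal.mk_ker]
    haveI : Module.Finite (MvPolynomial (Fin n) A) M := Module.Finite.of_surjective (Submodule.mkQ J) (Submodule.mkQ_surjective J)
    convert @isOpen_supportDim_le A _ n M _ _ this e using 1
    ext Q
    rw [Set.mem_ofPred_eq, supportDim_fibM_add_rdim_le_iff, hM]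
    exact ⟨fun h P hP hPQ hu => Nat.lt_succ_iff.1 (h P hP hPQ hu),
      fun h P hP hPQ hu => Nat.lt_succ_iff.2 (h P hP hPQ hu)⟩

variable (M : Type u) [AddCommGroup M] [Module (MvPolynomial (Fin n) A) M]

/-- Codepth zero at a point of the source. -/
def cmSet : Set (PrimeSpectrum (MvPolynomial (Fin n) A)) :=
  {P | Module.supportDim (FibQ A P.asIdeal) (FibM A P.asIdeal M) ≤
    (LocCoh.depth (FibQ A P.asIdeal) (FibM A P.asIdeal M) : WithBot ℕ∞)}

/-- The rectified depth is at most `m`. -/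
def rectLeSet (m : ℕ) : Set (PrimeSpectrum (MvPolynomial (Fin n) A)) :=
  {P | LocCoh.depth (FibQ A P.asIdeal) (FibM A P.asIdeal M) + (Unibranch.rdim A P.asIdeal : ℕ∞) ≤ (m : ℕ∞)}

/-- Serre's condition along the generisations in the fibre. -/
def skSet (k : ℕ) : Set (PrimeSpectrum (MvPolynomial (Fin n) A)) :=
  {Q | ∀ P : PrimeSpectrum (MvPolynomial (Fin n) A), P.asIdeal ≤ Q.asIdeal → P.asIdeal.under A = Q.asIdeal.under A →
    P ∈ cmSet M ∨ (k : ℕ∞) ≤ LocCoh.depth (FibQ A P.asIdeal) (FibM A P.asIdeal M)}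

theorem mem_rectLeSet (m : ℕ) (P : PrimeSpectrum (MvPolynomial (Fin n) A)) :
    P ∈ rectLeSet (A := A) (n := n) M m ↔
      LocCoh.depth (FibQ A P.asIdeal) (FibM A P.asIdeal M) + (Unibranch.rdim A P.asIdeal : ℕ∞) ≤ (m : ℕ∞) := Iff.rfl

theorem min_le_coe_iff (k : ℕ) (s : WithBot ℕ∞) (d : ℕ∞) :
    min (k : WithBot ℕ∞) s ≤ (d : WithBot ℕ∞) ↔ s ≤ (d : WithBot ℕ∞) ∨ (k : ℕ∞) ≤ d := by
  rw [min_le_iff, ← WithBot.coe_natCast, WithBot.coe_le_coe, or_comm]

variable [Module.Finite (MvPolynomial (Fin n) A) M]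

theorem hasSk_fibM_iff (k : ℕ) (Q : PrimeSpectrum (MvPolynomial (Fin n) A)) :
    LocCoh.HasSk k (FibQ A Q.asIdeal) (FibM A Q.asIdeal M) ↔ Q ∈ skSet (A := A) (n := n) M k := by
  constructor
  · intro h P hPQ hu
    obtain ⟨z, hz⟩ := (range_comap_fibQ A Q.asIdeal P).2 ⟨hPQ, hu⟩
    obtain ⟨h1, h2⟩ := invariants_localized Q.asIdeal M z.asIdeal
    have h3 := h z.asIdeal
    rw [h1, h2, min_le_coe_iff] at h3
    rw [← hz]
    exact h3
  · intro h p _
    obtain ⟨h1, h2⟩ := invariants_localized Q.asIdeal M p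
    rw [h1, h2, min_le_coe_iff]
    exact h ⟨genPrime Q.asIdeal p, inferInstance⟩ (genPrime_le _ p) (genPrime_under _ p)

theorem exists_rect_eq {P : PrimeSpectrum (MvPolynomial (Fin n) A)} (h : P ∉ cmSet (A := A) (n := n) M) :
    ∃ d : ℕ, LocCoh.depth (FibQ A P.asIdeal) (FibM A P.asIdeal M) = (d : ℕ∞) ∧ d + Unibranch.rdim A P.asIdeal ≤ n := by
  haveI := isRegularLocalRing_fibQ P.asIdeal
  have hd := ringKrullDim_fibQ P.asIdeal
  rcases supportDim_depth_cases hd (FibM A P.asIdeal M) with ⟨h1, h2⟩ | ⟨a, b, h1, h2⟩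
  · exact absurd (show P ∈ cmSet (A := A) (n := n) M from h1.le.trans bot_le) h
  · refine ⟨b, h2, ?_⟩
    have h3 := Module.supportDim_le_ringKrullDim (FibQ A P.asIdeal) (FibM A P.asIdeal M)
    have h4 := InvFin.depth_le_supportDim (FibM A P.asIdeal M) h1
    rw [h1, hd] at h3
    rw [h2] at h4
    norm_cast at h3 h4
    have := rdim_le_card P.asIdeal
    omega

theorem skSet_eq (k : ℕ) :
    skSet (A := A) (n := n) M k = ⋂ m ∈ Finset.range (n + 1), fibBound ((cmSet (A := A) (n := n) M)ᶜ ∩ rectLeSet (A := A) (n := n) M m) (m + 1 - k) := by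
  ext Q
  simp only [Set.mem_iInter, Finset.mem_range]
  constructor
  · intro h m _ P ⟨hP, hm⟩ hPQ hu
    rcases h P hPQ hu with h1 | h1
    · exact absurd h1 hP
    obtain ⟨d, hd, -⟩ := exists_rect_eq M hP
    rw [hd] at h1
    rw [mem_rectLeSet, hd] at hm
    norm_cast at h1 hm
    omega
  · intro h P hPQ hu
    by_cases hP : P ∈ cmSet (A := A) (n := n) M
    · exact Or.inl hP
    obtain ⟨d, hd, hdn⟩ := exists_rect_eq M hP
    have h1 := h (d + Unibranch.rdim A P.asIdeal) (by omega) P ⟨hP, (mem_rectLeSet M _ P).2 (by rw [hd, Nat.cast_add])⟩ hPQ hu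
    refine Or.inr ?_
    rw [hd]
    norm_cast
    omega

/-- The support is closed. -/
theorem isClosed_support : IsClosed (Module.support (MvPolynomial (Fin n) A) M) := by
  rw [Module.support_eq_zeroLocus]
  exact PrimeSpectrum.isClosed_zeroLocus _

omit [Module.Finite (MvPolynomial (Fin n) A) M] in
/-- The dimension of a quotient of the fibre by a prime. -/
theorem ringKrullDim_fibQ_quotient (Q : PrimeSpectrum (MvPolynomial (Fin n) A))
    (z : PrimeSpectrum (FibQ A Q.asIdeal)) :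
    ringKrullDim (FibQ A Q.asIdeal ⧸ z.asIdeal) + (Unibranch.rdim A Q.asIdeal : WithBot ℕ∞) =
      (Unibranch.rdim A (genPrime Q.asIdeal z.asIdeal) : WithBot ℕ∞) := by
  let P' : PrimeSpectrum (MvPolynomial (Fin n) A) := ⟨genPrime Q.asIdeal z.asIdeal, inferInstance⟩
  let N := MvPolynomial (Fin n) A ⧸ P'.asIdeal
  haveI : Module.Finite (MvPolynomial (Fin n) A) N :=
    Module.Finite.of_surjective (Submodule.mkQ P'.asIdeal) (Submodule.mkQ_surjective P'.asIdeal)
  have hmem : ∀ P, P ∈ Module.support (MvPolynomial (Fin n) A) N ↔ P'.asIdeal ≤ P.asIdeal := fun P => by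
    rw [Module.support_of_algebra, Ideal.Quotient.algebraMap_eq, Ideal.mk_ker]
    rfl
  have hsupp : Module.support (FibQ A Q.asIdeal) (FibQ A Q.asIdeal ⧸ z.asIdeal) =
      Module.support (FibQ A Q.asIdeal) (FibM A Q.asIdeal N) := by
    ext w
    rw [Module.support_of_algebra, Ideal.Quotient.algebraMap_eq, Ideal.mk_ker, mem_support_fibM, hmem]
    refine ⟨fun h => Ideal.comap_mono h, fun h y hy => ?_⟩
    obtain ⟨y, rfl⟩ := Ideal.Quotient.mk_surjective y
    obtain ⟨b, s, rfl⟩ := IsLocalization.exists_mk'_eq Q.asIdeal.primeCompl y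
    have hb : algebraMap (MvPolynomial (Fin n) A) (FibQ A Q.asIdeal) b ∈ z.asIdeal := by
      rw [IsScalarTower.algebraMap_apply (MvPolynomial (Fin n) A) (Localization.AtPrime Q.asIdeal) (FibQ A Q.asIdeal),
        ← IsLocalization.mk'_spec (Localization.AtPrime Q.asIdeal) b s, map_mul]
      exact Ideal.mul_mem_right _ _ hy
    rw [IsLocalization.mk'_eq_mul_mk'_one, map_mul]
    exact Ideal.mul_mem_right _ _ (h hb)
  have hdim : ringKrullDim (FibQ A Q.asIdeal ⧸ z.asIdeal) =
      Module.supportDim (FibQ A Q.asIdeal) (FibM A Q.asIdeal N) := by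
    rw [ringKrullDim_quotient, Module.supportDim, ← hsupp, Module.support_of_algebra, Ideal.Quotient.algebraMap_eq,
      Ideal.mk_ker]
  haveI := isRegularLocalRing_fibQ Q.asIdeal
  have hiff : ∀ e : ℕ, Module.supportDim (FibQ A Q.asIdeal) (FibM A Q.asIdeal N) +
      (Unibranch.rdim A Q.asIdeal : WithBot ℕ∞) ≤ (e : WithBot ℕ∞) ↔ Unibranch.rdim A P'.asIdeal ≤ e := fun e => by
    rw [supportDim_fibM_add_rdim_le_iff]
    exact ⟨fun h => h P' ((hmem P').2 le_rfl) (genPrime_le _ _) (genPrime_under _ _),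
      fun h P hP hPQ hu => (rdim_mono ((hmem P).1 hP) ((genPrime_under _ _).trans hu.symm)).trans h⟩
  rw [hdim]
  rcases supportDim_depth_cases (ringKrullDim_fibQ Q.asIdeal) (FibM A Q.asIdeal N) with ⟨h1, -⟩ | ⟨a, b, h1, -⟩
  · exfalso
    rw [h1] at hdim
    haveI : Nontrivial (FibQ A Q.asIdeal ⧸ z.asIdeal) := Ideal.Quotient.nontrivial_iff.2 z.isPrime.ne_top
    exact (not_le.2 (WithBot.bot_lt_coe (0 : ℕ∞))) (hdim ▸ ringKrullDim_nonneg_of_nontrivial)
  · rw [h1]
    have h2 := hiff (a + Unibranch.rdim A Q.asIdeal)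
    have h3 := hiff (Unibranch.rdim A P'.asIdeal)
    rw [h1] at h2 h3
    norm_cast at h2 h3 ⊢
    have := h2.1 le_rfl
    have := h3.2 le_rfl
    change a + Unibranch.rdim A Q.asIdeal = Unibranch.rdim A P'.asIdeal
    omega

/-- The equidimensional points satisfying the condition of Serre. -/
def equiSkSet (k : ℕ) : Set (PrimeSpectrum (MvPolynomial (Fin n) A)) :=
  skSet (A := A) (n := n) M k ∩ ⋃ e : ℕ,
    {Q | Module.supportDim (FibQ A Q.asIdeal) (FibM A Q.asIdeal M) + (Unibranch.rdim A Q.asIdeal : WithBot ℕ∞) ≤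
        (e : WithBot ℕ∞)} ∩
      ⋂ j ∈ Finset.range e,
        fibBound (Module.support (MvPolynomial (Fin n) A) M ∩ rectLeSet (A := A) (n := n) M j) j

/-- The minimal primes of the support are the points where the support has dimension zero. -/
theorem supportDim_genPrime_eq_zero_iff (Q : PrimeSpectrum (MvPolynomial (Fin n) A))
    (z : PrimeSpectrum (FibQ A Q.asIdeal)) (hz : z ∈ Module.support (FibQ A Q.asIdeal) (FibM A Q.asIdeal M)) :
    Module.supportDim (FibQ A (genPrime Q.asIdeal z.asIdeal)) (FibM A (genPrime Q.asIdeal z.asIdeal) M) ≤ 0 ↔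
      z.asIdeal ∈ (Module.annihilator (FibQ A Q.asIdeal) (FibM A Q.asIdeal M)).minimalPrimes := by
  rw [← (invariants_localized Q.asIdeal M z.asIdeal).1, FlatDepth.supportDim_localized_eq]
  rw [Module.mem_support_iff_of_finite] at hz
  constructor
  · intro h
    refine ⟨⟨z.isPrime, hz⟩, fun J hJ hJz => ?_⟩
    by_contra hne
    let a : {x : PrimeSpectrum (FibQ A Q.asIdeal) // x ∈ Module.support (FibQ A Q.asIdeal) (FibM A Q.asIdeal M) ∧
        x.asIdeal ≤ z.asIdeal} := ⟨⟨J, hJ.1⟩, Module.mem_support_iff_of_finite.2 hJ.2, hJz⟩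
    let b : {x : PrimeSpectrum (FibQ A Q.asIdeal) // x ∈ Module.support (FibQ A Q.asIdeal) (FibM A Q.asIdeal M) ∧
        x.asIdeal ≤ z.asIdeal} := ⟨z, Module.mem_support_iff_of_finite.2 hz, le_rfl⟩
    have hab : a < b := lt_of_le_not_ge hJz hne
    have h1 := Order.LTSeries.length_le_krullDim (((RelSeries.singleton _ a).snoc b hab : LTSeries _))
    exact absurd (h1.trans h) (by simp)
  · intro h
    refine iSup_le fun l => ?_
    by_contra hl
    have hl' : 0 < l.length := Nat.pos_of_ne_zero fun h0 => hl (by simp [h0])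
    have h1 : l ⟨0, by omega⟩ < l ⟨1, by omega⟩ := l.strictMono (Fin.mk_lt_mk.2 Nat.one_pos)
    exact h1.not_ge (show (l ⟨1, by omega⟩).1.asIdeal ≤ (l ⟨0, by omega⟩).1.asIdeal from le_trans (l ⟨1, by omega⟩).2.2
      (h.2 ⟨(l ⟨0, by omega⟩).1.isPrime, Module.mem_support_iff_of_finite.1 (l ⟨0, by omega⟩).2.1⟩ (l ⟨0, by omega⟩).2.2))

theorem equidim_sk_iff (k : ℕ) (hk : 1 ≤ k) (Q : PrimeSpectrum (MvPolynomial (Fin n) A)) :
    (EGA4.IsEquidimModule (FibQ A Q.asIdeal) (FibM A Q.asIdeal M) ∧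
      LocCoh.HasSk k (FibQ A Q.asIdeal) (FibM A Q.asIdeal M)) ↔ Q ∈ equiSkSet (A := A) (n := n) M k := by
  haveI := isRegularLocalRing_fibQ Q.asIdeal
  rw [hasSk_fibM_iff]
  simp only [equiSkSet, Set.mem_inter_iff, Set.mem_iUnion, Set.mem_iInter, Finset.mem_range, Set.mem_ofPred_eq]
  have hgen : ∀ z : PrimeSpectrum (FibQ A Q.asIdeal),
      z ∈ Module.support (FibQ A Q.asIdeal) (FibM A Q.asIdeal M) ↔
        (⟨genPrime Q.asIdeal z.asIdeal, inferInstance⟩ : PrimeSpectrum (MvPolynomial (Fin n) A)) ∈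
          Module.support (MvPolynomial (Fin n) A) M := fun z => mem_support_fibM A Q.asIdeal M z
  rcases supportDim_depth_cases (ringKrullDim_fibQ Q.asIdeal) (FibM A Q.asIdeal M) with ⟨hs, -⟩ | ⟨a, b, hs, -⟩
  · haveI := (Module.supportDim_eq_bot_iff_subsingleton _ _).1 hs
    constructor
    · rintro ⟨-, h2⟩
      exact ⟨h2, 0, by rw [hs, WithBot.bot_add]; exact bot_le, fun j hj => absurd hj (Nat.not_lt_zero j)⟩
    · rintro ⟨h2, -⟩
      refine ⟨fun p hp => absurd hp.1.1.ne_top ?_, h2⟩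
      rw [not_not, eq_top_iff]
      exact (Module.annihilator_eq_top_iff.2 inferInstance).ge.trans hp.1.2
  constructor
  · rintro ⟨he, h2⟩
    refine ⟨h2, a + Unibranch.rdim A Q.asIdeal, by rw [hs]; norm_cast, fun j hj P ⟨hPs, hPj⟩ hPQ hu => ?_⟩
    by_contra hle
    rw [mem_rectLeSet] at hPj
    have hd0 : LocCoh.depth (FibQ A P.asIdeal) (FibM A P.asIdeal M) = 0 := by
      rcases eq_or_ne (LocCoh.depth (FibQ A P.asIdeal) (FibM A P.asIdeal M)) ⊤ with ht | ht
      · rw [ht, top_add, top_le_iff] at hPj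
        exact absurd hPj (ENat.natCast_ne_top j)
      · obtain ⟨d, hd⟩ := ENat.ne_top_iff_exists.1 ht
        rw [← hd] at hPj ⊢
        norm_cast at hPj ⊢
        omega
    have hrj : Unibranch.rdim A P.asIdeal = j := by
      rw [hd0, zero_add] at hPj
      norm_cast at hPj
      omega
    rcases h2 P hPQ hu with hc | hc
    swap
    · rw [hd0] at hc
      norm_cast at hc
      omega
    rw [cmSet, Set.mem_ofPred_eq, hd0] at hc
    obtain ⟨z, hz⟩ := (range_comap_fibQ A Q.asIdeal P).2 ⟨hPQ, hu⟩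
    subst hz
    have hmin := (supportDim_genPrime_eq_zero_iff M Q z ((hgen z).2 hPs)).1 hc
    have h3 := ringKrullDim_fibQ_quotient Q z
    rw [he z.asIdeal hmin, hs] at h3
    norm_cast at h3
    change Unibranch.rdim A (genPrime Q.asIdeal z.asIdeal) = j at hrj
    omega
  · rintro ⟨h2, e, he1, he2⟩
    refine ⟨fun p hp => ?_, h2⟩
    haveI := hp.1.1
    let z : PrimeSpectrum (FibQ A Q.asIdeal) := ⟨p, hp.1.1⟩
    let P : PrimeSpectrum (MvPolynomial (Fin n) A) := ⟨genPrime Q.asIdeal z.asIdeal, inferInstance⟩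
    have hzs : z ∈ Module.support (FibQ A Q.asIdeal) (FibM A Q.asIdeal M) :=
      Module.mem_support_iff_of_finite.2 hp.1.2
    have hPs : P ∈ Module.support (MvPolynomial (Fin n) A) M := (hgen z).1 hzs
    have h0 := (supportDim_genPrime_eq_zero_iff M Q z hzs).2 hp
    haveI := isRegularLocalRing_fibQ P.asIdeal
    have hd0 : LocCoh.depth (FibQ A P.asIdeal) (FibM A P.asIdeal M) ≤ 0 := by
      rcases supportDim_depth_cases (ringKrullDim_fibQ P.asIdeal) (FibM A P.asIdeal M) with ⟨h1, -⟩ | ⟨a', b', h1, h1'⟩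
      · exact absurd ((subsingleton_fibM_iff A P.asIdeal M).1 ((Module.supportDim_eq_bot_iff_subsingleton _ _).1 h1))
          (not_not.2 hPs)
      · have h4 := InvFin.depth_le_supportDim (FibM A P.asIdeal M) h1
        have h5 : (a' : WithBot ℕ∞) ≤ 0 := h1 ▸ h0
        norm_cast at h5
        rw [Nat.le_zero.1 h5] at h4
        exact_mod_cast h4
    have hre : Unibranch.rdim A P.asIdeal ≤ e :=
      (supportDim_fibM_add_rdim_le_iff Q.asIdeal M e).1 he1 P hPs (genPrime_le _ _) (genPrime_under _ _)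
    have hre' : e ≤ Unibranch.rdim A P.asIdeal := by
      by_contra hlt
      refine lt_irrefl _ (he2 _ (not_le.1 hlt) P ⟨hPs, ?_⟩ (genPrime_le _ _) (genPrime_under _ _))
      rw [mem_rectLeSet, le_antisymm hd0 zero_le, zero_add]
    have h3 := ringKrullDim_fibQ_quotient Q z
    have hq : ringKrullDim (FibQ A Q.asIdeal ⧸ p) ≤ Module.supportDim (FibQ A Q.asIdeal) (FibM A Q.asIdeal M) := by
      rw [Module.supportDim_eq_ringKrullDim_quotient_annihilator]
      exact ringKrullDim_le_of_surjective (Ideal.Quotient.factor hp.1.2) (Ideal.Quotient.factor_surjective hp.1.2)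
    obtain ⟨c, hc⟩ := WithBot.ne_bot_iff_exists.1
      (haveI : Nontrivial (FibQ A Q.asIdeal ⧸ p) := Ideal.Quotient.nontrivial_iff.2 hp.1.1.ne_top
       ne_bot_of_le_ne_bot (WithBot.coe_ne_bot (a := (0 : ℕ∞)))
         (ringKrullDim_nonneg_of_nontrivial (R := FibQ A Q.asIdeal ⧸ p)))
    rw [hs] at he1 hq ⊢
    change ringKrullDim (FibQ A Q.asIdeal ⧸ p) + _ = _ at h3
    rw [← hc] at h3 hq ⊢
    rw [← WithBot.coe_natCast, WithBot.coe_le_coe] at hq
    obtain ⟨c', rfl⟩ := ENat.ne_top_iff_exists.1 (ne_top_of_le_ne_top (ENat.natCast_ne_top a) hq)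
    norm_cast at he1 hq h3
    change c' + Unibranch.rdim A Q.asIdeal = Unibranch.rdim A P.asIdeal at h3
    exact_mod_cast (show c' = a by omega)

section Flat

omit [Module.Finite (MvPolynomial (Fin n) A) M]
variable [Module.FinitePresentation (MvPolynomial (Fin n) A) M] [Module A M]
  [IsScalarTower A (MvPolynomial (Fin n) A) M] [Module.Flat A M]

theorem isOpen_cmSet : IsOpen (cmSet (A := A) (n := n) M) := by
  have h := isOpen_coprof (A := A) (n := n) M 0
  simp only [Nat.cast_zero, add_zero] at h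
  exact h

theorem isClosed_rectLeSet (m : ℕ) : IsClosed (rectLeSet (A := A) (n := n) M m) := by
  rw [← isOpen_compl_iff]
  convert isOpen_rect (A := A) (n := n) M (m + 1) using 1
  ext P
  rw [Set.mem_compl_iff, mem_rectLeSet, not_le, Set.mem_ofPred_eq, Nat.cast_add, Nat.cast_one]
  exact (Order.add_one_le_iff_of_not_isMax (by simp)).symm

/-- Serre's condition along the fibres is open. -/
theorem isOpen_skSet (k : ℕ) : IsOpen (skSet (A := A) (n := n) M k) := by
  rw [skSet_eq]
  exact isOpen_biInter_finset fun m _ =>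
    isOpen_fibBound ((isOpen_cmSet M).isClosed_compl.inter (isClosed_rectLeSet M m)) _

/-- Equidimensionality with a condition of Serre is open along the fibres. -/
theorem isOpen_equiSkSet (k : ℕ) : IsOpen (equiSkSet (A := A) (n := n) M k) :=
  (isOpen_skSet M k).inter (isOpen_iUnion fun e => (isOpen_supportDim_le M e).inter
    (isOpen_biInter_finset fun j _ => isOpen_fibBound ((isClosed_support M).inter (isClosed_rectLeSet M j)) _))

end Flat

end Groth.Agent.FibDepth
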