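import Groth.Agent.FibDepth.ConsAbs
import Groth.Agent.FibDepth.SkOpen

/-!
# Constructibility of the loci of rectified depth, codepth and of the conditions of Serre
-/

set_option autoImplicit false
set_option linter.style.haveILetI false
set_option backward.isDefEq.respectTransparency false

universe u

open IsLocalRing Topology

namespace Groth.Agent.FibDepth

/-- Rectified depth at least `m`. -/
def rectGe (n m : ℕ) : Locus.{u} n := fun A _ M _ _ =>
  {Q | (m : ℕ∞) ≤ LocCoh.depth (FibQ A Q.asIdeal) (FibM A Q.asIdeal M) + (Unibranch.rdim A Q.asIdeal : ℕ∞)}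

/-- Support dimension plus relative dimension at most `e`. -/
def sdLE (n e : ℕ) : Locus.{u} n := fun A _ M _ _ =>
  {Q | Module.supportDim (FibQ A Q.asIdeal) (FibM A Q.asIdeal M) + (Unibranch.rdim A Q.asIdeal : WithBot ℕ∞) ≤
    (e : WithBot ℕ∞)}

/-- Codepth at most `k`. -/
def cpSet (n k : ℕ) : Locus.{u} n := fun A _ M _ _ =>
  {Q | Module.supportDim (FibQ A Q.asIdeal) (FibM A Q.asIdeal M) ≤
    (LocCoh.depth (FibQ A Q.asIdeal) (FibM A Q.asIdeal M) : WithBot ℕ∞) + (k : WithBot ℕ∞)}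

/-- Serre's condition. -/
def skLocus (n k : ℕ) : Locus.{u} n := fun A _ M _ _ => skSet (A := A) (n := n) M k

variable {n : ℕ}

section BC

variable {A₀ A : Type u} [CommRing A₀] [CommRing A] [Algebra A₀ A] {M₀ M : Type u} [AddCommGroup M₀]
  [Module (MvPolynomial (Fin n) A₀) M₀] [AddCommGroup M] [Module (MvPolynomial (Fin n) A) M]
  [Module.Finite (MvPolynomial (Fin n) A₀) M₀] {f : M₀ → M} (hf : IsPolyBC (A₀ := A₀) (A := A) (n := n) f)

include hf

theorem rectGe_preimage (m : ℕ) : rectGe n m A M = downPt ⁻¹' rectGe n m A₀ M₀ := by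
  haveI := hf.finite
  ext Q
  show (m : ℕ∞) ≤ _ ↔ (m : ℕ∞) ≤ _
  rw [rect_iff M Q m, rect_iff M₀ (downPt (A₀ := A₀) Q) m]
  split_ifs
  · exact pdLE_fibM_iff hf Q _
  · rw [support_preimage hf]
    rfl

theorem sdLE_preimage (e : ℕ) : sdLE n e A M = downPt ⁻¹' sdLE n e A₀ M₀ := by
  haveI := hf.finite
  ext Q
  have h := mem_fibBound_preimage (Module.support (MvPolynomial (Fin n) A₀) M₀) (e + 1) Q
  rw [← support_preimage hf] at h
  simp only [sdLE, Set.mem_preimage, Set.mem_ofPred_eq]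
  rw [supportDim_fibM_add_rdim_le_iff, supportDim_fibM_add_rdim_le_iff]
  simp only [fibBound, Set.mem_ofPred_eq, Nat.lt_succ_iff] at h
  exact h

theorem cpSet_preimage (k : ℕ) : cpSet n k A M = downPt ⁻¹' cpSet n k A₀ M₀ := by
  haveI := hf.finite
  ext Q
  haveI := isRegularLocalRing_fibQ Q.asIdeal
  haveI := isRegularLocalRing_fibQ (downPt (A₀ := A₀) Q).asIdeal
  simp only [cpSet, Set.mem_preimage, Set.mem_ofPred_eq]
  rw [le_add_iff_exists _ _ (Unibranch.rdim A Q.asIdeal) k (supportDim_depth_cases (ringKrullDim_fibQ Q.asIdeal) _),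
    le_add_iff_exists _ _ (Unibranch.rdim A₀ (downPt (A₀ := A₀) Q).asIdeal) k
      (supportDim_depth_cases (ringKrullDim_fibQ (downPt (A₀ := A₀) Q).asIdeal) _)]
  refine exists_congr fun e => and_congr ?_ ?_
  · exact Set.ext_iff.1 (sdLE_preimage hf e) Q
  · exact Set.ext_iff.1 (rectGe_preimage hf (e - k)) Q

theorem cmSet_preimage : cmSet (A := A) (n := n) M = downPt ⁻¹' cmSet (A := A₀) (n := n) M₀ := by
  ext Q
  have h := Set.ext_iff.1 (cpSet_preimage hf 0) Q
  simp only [cpSet, Set.mem_preimage, Set.mem_ofPred_eq, Nat.cast_zero, add_zero] at h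
  exact h

theorem rectLeSet_preimage (m : ℕ) :
    rectLeSet (A := A) (n := n) M m = downPt ⁻¹' rectLeSet (A := A₀) (n := n) M₀ m := by
  ext Q
  have h := Set.ext_iff.1 (rectGe_preimage hf (m + 1)) Q
  simp only [rectGe, Set.mem_preimage, Set.mem_ofPred_eq, Nat.cast_add, Nat.cast_one] at h
  rw [Set.mem_preimage, mem_rectLeSet, mem_rectLeSet, ← not_lt, ← not_lt]
  refine not_congr ?_
  rwa [← Order.add_one_le_iff_of_not_isMax (by simp), ← Order.add_one_le_iff_of_not_isMax (by simp)]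

theorem skLocus_preimage (k : ℕ) : skLocus n k A M = downPt ⁻¹' skLocus n k A₀ M₀ := by
  haveI := hf.finite
  ext Q
  show Q ∈ skSet (A := A) (n := n) M k ↔ downPt Q ∈ skSet (A := A₀) (n := n) M₀ k
  simp only [skSet_eq, Set.mem_iInter]
  refine forall₂_congr fun m _ => ?_
  rw [← mem_fibBound_preimage, cmSet_preimage hf, rectLeSet_preimage hf, Set.preimage_inter, Set.preimage_compl]

end BC

theorem isBCLocus_rectGe (m : ℕ) : IsBCLocus.{u} (rectGe n m) := by
  intro A₀ A _ _ _ M₀ M _ _ _ _ f hf _ Q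
  exact Set.ext_iff.1 (rectGe_preimage hf m) Q

theorem isBCLocus_cpSet (k : ℕ) : IsBCLocus.{u} (cpSet n k) := by
  intro A₀ A _ _ _ M₀ M _ _ _ _ f hf _ Q
  exact Set.ext_iff.1 (cpSet_preimage hf k) Q

theorem isBCLocus_skLocus (k : ℕ) : IsBCLocus.{u} (skLocus n k) := by
  intro A₀ A _ _ _ M₀ M _ _ _ _ f hf _ Q
  exact Set.ext_iff.1 (skLocus_preimage hf k) Q

theorem isFlatOpen_rectGe (m : ℕ) : IsFlatOpen.{u} (rectGe n m) :=
  fun _ _ M _ _ _ _ _ _ => isOpen_rect M m

theorem isFlatOpen_cpSet (k : ℕ) : IsFlatOpen.{u} (cpSet n k) :=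
  fun _ _ M _ _ _ _ _ _ => isOpen_coprof M k

theorem isFlatOpen_skLocus (k : ℕ) : IsFlatOpen.{u} (skLocus n k) :=
  fun _ _ M _ _ _ _ _ _ => isOpen_skSet M k

section Cons

variable {A : Type u} [CommRing A] (M : Type u) [AddCommGroup M] [Module (MvPolynomial (Fin n) A) M]
  [Module.FinitePresentation (MvPolynomial (Fin n) A) M]

/-- The level sets of the rectified depth are constructible. -/
theorem isConstructible_rect_eq (r : ℕ∞) :
    IsConstructible {Q : PrimeSpectrum (MvPolynomial (Fin n) A) |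
      LocCoh.depth (FibQ A Q.asIdeal) (FibM A Q.asIdeal M) + (Unibranch.rdim A Q.asIdeal : ℕ∞) = r} := by
  have hc : ∀ m, IsConstructible (rectGe n m A M) :=
    fun m => isConstructible_locus (isBCLocus_rectGe m) (isFlatOpen_rectGe m) A M
  have hcases : ∀ Q : PrimeSpectrum (MvPolynomial (Fin n) A),
      LocCoh.depth (FibQ A Q.asIdeal) (FibM A Q.asIdeal M) + (Unibranch.rdim A Q.asIdeal : ℕ∞) = ⊤ ∨
        ∃ t ≤ n, LocCoh.depth (FibQ A Q.asIdeal) (FibM A Q.asIdeal M) + (Unibranch.rdim A Q.asIdeal : ℕ∞) = (t : ℕ∞) := by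
    intro Q
    haveI := isRegularLocalRing_fibQ Q.asIdeal
    rcases supportDim_depth_cases (ringKrullDim_fibQ Q.asIdeal) (FibM A Q.asIdeal M) with ⟨-, h2⟩ | ⟨a, b, h1, h2⟩
    · exact Or.inl (by rw [h2, top_add])
    · refine Or.inr ⟨b + Unibranch.rdim A Q.asIdeal, ?_, by rw [h2, Nat.cast_add]⟩
      have h3 := Module.supportDim_le_ringKrullDim (FibQ A Q.asIdeal) (FibM A Q.asIdeal M)
      have h4 := InvFin.depth_le_supportDim (FibM A Q.asIdeal M) h1
      rw [h1, ringKrullDim_fibQ] at h3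
      rw [h2] at h4
      norm_cast at h3 h4
      have := rdim_le_card Q.asIdeal
      omega
  cases r with
  | top =>
    convert hc (n + 1) using 1
    ext Q
    rcases hcases Q with h | ⟨t, ht, h⟩ <;> simp only [rectGe, Set.mem_ofPred_eq, h]
    · simp
    · refine iff_of_false (ENat.natCast_ne_top t) ?_
      norm_cast
      omega
  | coe m =>
    convert (hc m).sdiff (hc (m + 1)) using 1
    ext Q
    rcases hcases Q with h | ⟨t, ht, h⟩ <;> simp only [rectGe, Set.mem_sdiff, Set.mem_ofPred_eq, h]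
    · simp
    · norm_cast
      omega

/-- The loci of bounded codepth are constructible. -/
theorem isConstructible_cpSet (k : ℕ) :
    IsConstructible {Q : PrimeSpectrum (MvPolynomial (Fin n) A) |
      Module.supportDim (FibQ A Q.asIdeal) (FibM A Q.asIdeal M) ≤
        (LocCoh.depth (FibQ A Q.asIdeal) (FibM A Q.asIdeal M) : WithBot ℕ∞) + (k : WithBot ℕ∞)} :=
  isConstructible_locus (isBCLocus_cpSet k) (isFlatOpen_cpSet k) A M

/-- The loci of the conditions of Serre are constructible. -/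
theorem isConstructible_skSet (k : ℕ) : IsConstructible (skSet (A := A) (n := n) M k) :=
  isConstructible_locus (isBCLocus_skLocus k) (isFlatOpen_skLocus k) A M

end Cons

end Groth.Agent.FibDepth
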