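import Groth.Agent.FibDepth.Fibre
import Groth.Agent.Unibranch.UpperSemicont
import Groth.Agent.Unibranch.Noether
import Groth.Agent.Unibranch.Equidim

/-!
# Semicontinuity of the dimension of the support along the fibres
-/

set_option autoImplicit false
set_option linter.style.haveILetI false
set_option backward.isDefEq.respectTransparency false

universe u

open IsLocalRing AlgebraicGeometry CategoryTheory

namespace Groth.Agent.FibDepth

/-- The points where an algebra is quasi-finite over the affine space given by `t` form an open set. -/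
theorem isOpen_quasiFiniteAt {A B : Type u} [CommRing A] [CommRing B] [Algebra A B] [Algebra.FiniteType A B]
    {e : ℕ} (t : ULift.{u} (Fin e) → B) :
    IsOpen {b : PrimeSpectrum B | letI := (MvPolynomial.aeval (R := A) t).toRingHom.toAlgebra
      Algebra.QuasiFiniteAt (MvPolynomial (ULift.{u} (Fin e)) A) b.asIdeal} := by
  let ψ : MvPolynomial (ULift.{u} (Fin e)) A →+* B := (MvPolynomial.aeval (R := A) t).toRingHom
  let φ : Spec (CommRingCat.of B) ⟶ Spec (CommRingCat.of (MvPolynomial (ULift.{u} (Fin e)) A)) :=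
    Spec.map (CommRingCat.ofHom ψ)
  have : LocallyOfFiniteType φ := by
    refine (HasRingHomProperty.Spec_iff (P := @LocallyOfFiniteType)).mpr ?_
    let := ψ.toAlgebra
    have : IsScalarTower A (MvPolynomial (ULift.{u} (Fin e)) A) B :=
      IsScalarTower.of_algebraMap_eq fun a ↦ ((MvPolynomial.aeval (R := A) t).commutes a).symm
    exact RingHom.finiteType_algebraMap.mpr (Algebra.FiniteType.of_restrictScalars_finiteType A _ B)
  have hO : IsOpen {b : PrimeSpectrum B | Scheme.Hom.QuasiFiniteAt φ b} := φ.quasiFiniteLocus.2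
  convert hO using 1
  refine Set.ext fun b => ?_
  exact ⟨fun h => Unibranch.quasiFiniteAt_SpecMap (CommRingCat.ofHom ψ) b h,
    fun h => Unibranch.quasiFiniteAt_of_SpecMap (CommRingCat.ofHom ψ) b h⟩

variable {A : Type u} [CommRing A] {n : ℕ}
variable (M : Type u) [AddCommGroup M] [Module (MvPolynomial (Fin n) A) M] [Module.Finite (MvPolynomial (Fin n) A) M]

/-- A function avoiding the prime which cuts off the far components of the fibre. -/
theorem exists_bound_chains (Q : PrimeSpectrum (MvPolynomial (Fin n) A)) (e : ℕ)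
    (h : ∀ P : PrimeSpectrum (MvPolynomial (Fin n) A), P ∈ Module.support (MvPolynomial (Fin n) A) M →
      P.asIdeal ≤ Q.asIdeal → P.asIdeal.under A = Q.asIdeal.under A → Unibranch.rdim A P.asIdeal ≤ e) :
    ∃ g ∉ Q.asIdeal, ∀ l : LTSeries (PrimeSpectrum (MvPolynomial (Fin n) A)),
      (∀ i, (l i).asIdeal.under A = Q.asIdeal.under A) → l.head ∈ Module.support (MvPolynomial (Fin n) A) M →
        g ∉ l.head.asIdeal → l.length ≤ e := by
  let q := fibPrime Q.asIdeal
  let J : Ideal (MvPolynomial (Fin n) (baseField Q.asIdeal)) :=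
    (Module.annihilator (MvPolynomial (Fin n) A) M).map (toFib Q.asIdeal)
  have hfin : J.minimalPrimes.Finite := J.finite_minimalPrimes_of_isNoetherianRing
  classical
  have hsel : ∀ p ∈ J.minimalPrimes, ∃ z, z ∉ q ∧ (¬ p ≤ q → z ∈ p) := fun p _ => by
    by_cases hp : p ≤ q
    · exact ⟨1, Ideal.IsPrime.one_notMem inferInstance, fun h' => absurd hp h'⟩
    · obtain ⟨z, hz, hzq⟩ := SetLike.not_le_iff_exists.mp hp
      exact ⟨z, hzq, fun _ => hz⟩
  choose! z hzq hzp using hsel
  let x := ∏ p ∈ hfin.toFinset, z p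
  have hxq : x ∉ q := fun hx => by
    obtain ⟨p, hp, hpx⟩ := (Ideal.IsPrime.prod_mem_iff (hp := fibPrime_isPrime Q.asIdeal)).mp hx
    exact hzq p (hfin.mem_toFinset.mp hp) hpx
  obtain ⟨a, g, ha, hg⟩ := exists_toFib_eq Q.asIdeal x
  have hgQ : g ∉ Q.asIdeal := fun hgQ => by
    rw [← comap_toFib_fibPrime Q.asIdeal, Ideal.mem_comap, ← hg] at hgQ
    have hqp : q.IsPrime := fibPrime_isPrime Q.asIdeal
    refine (hqp.mem_or_mem hgQ).elim (fun h1 => ?_) hxq
    exact hqp.ne_top (Ideal.eq_top_of_isUnit_mem _ h1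
      (IsUnit.map _ (Ne.isUnit fun h' => ha (Ideal.algebraMap_residueField_eq_zero.mp h'))))
  refine ⟨g, hgQ, fun l hl hsupp hgl => ?_⟩
  obtain ⟨r, hr⟩ := exists_comap_toFib_eq Q.asIdeal l.head (hl 0)
  have hJr : J ≤ r.asIdeal := by
    rw [Ideal.map_le_iff_le_comap]
    rw [← hr, Module.mem_support_iff_of_finite] at hsupp
    exact hsupp
  obtain ⟨p, hp, hpr⟩ := Ideal.exists_minimalPrimes_le hJr
  haveI : p.IsPrime := hp.1.1
  have hpq : p ≤ q := by
    by_contra hpq
    refine hgl ?_
    rw [← hr]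
    show toFib Q.asIdeal g ∈ r.asIdeal
    rw [← hg]
    exact Ideal.mul_mem_left _ _ (hpr (Ideal.mem_of_dvd p (Finset.dvd_prod_of_mem z (hfin.mem_toFinset.mpr hp))
      (hzp p hp hpq)))
  let P := PrimeSpectrum.comap (toFib Q.asIdeal) ⟨p, inferInstance⟩
  have hPu : P.asIdeal.under A = Q.asIdeal.under A := under_comap_toFib Q.asIdeal _
  have hPM : P ∈ Module.support (MvPolynomial (Fin n) A) M := by
    rw [Module.mem_support_iff_of_finite]
    exact Ideal.map_le_iff_le_comap.mp hp.1.2
  have hPQ : P.asIdeal ≤ Q.asIdeal := by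
    refine le_trans (Ideal.comap_mono hpq) ?_
    rw [comap_toFib_fibPrime]
  have hPl : P.asIdeal ≤ l.head.asIdeal := by
    rw [← hr]
    exact Ideal.comap_mono hpr
  exact (Unibranch.length_le_rdim P l (fun i => by ext1; exact (hl i).trans hPu.symm) hPl).trans
    (h P hPM hPQ hPu)

/-- Upper semicontinuity of the relative dimension on the support. -/
theorem exists_open_rdim_le (Q : PrimeSpectrum (MvPolynomial (Fin n) A)) (e : ℕ)
    (h : ∀ P : PrimeSpectrum (MvPolynomial (Fin n) A), P ∈ Module.support (MvPolynomial (Fin n) A) M →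
      P.asIdeal ≤ Q.asIdeal → P.asIdeal.under A = Q.asIdeal.under A → Unibranch.rdim A P.asIdeal ≤ e) :
    ∃ U : Set (PrimeSpectrum (MvPolynomial (Fin n) A)), IsOpen U ∧ Q ∈ U ∧
      ∀ P ∈ U, P ∈ Module.support (MvPolynomial (Fin n) A) M → Unibranch.rdim A P.asIdeal ≤ e := by
  let P := MvPolynomial (Fin n) A
  by_cases hQ : Q ∈ Module.support P M
  swap
  · exact ⟨(Module.support P M)ᶜ, (by rw [Module.support_eq_zeroLocus]; exact (PrimeSpectrum.isClosed_zeroLocus _).isOpen_compl),
      hQ, fun q hq hq' => absurd hq' hq⟩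
  obtain ⟨g, hgQ, hg⟩ := exists_bound_chains M Q e h
  let I : Ideal P := Module.annihilator P M
  let B := Localization.Away (Ideal.Quotient.mk I g)
  haveI : Algebra.FiniteType A (P ⧸ I) := .trans (R := A) (S := P) inferInstance inferInstance
  haveI : Algebra.FiniteType (P ⧸ I) B := IsLocalization.finiteType_of_monoid_fg (Submonoid.powers (Ideal.Quotient.mk I g)) B
  haveI : Algebra.FiniteType A B := .trans (R := A) (S := P ⧸ I) inferInstance inferInstance
  let π : P →+* B := (algebraMap (P ⧸ I) B).comp (Ideal.Quotient.mk I)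
  have hπA : ∀ a : A, π (algebraMap A P a) = algebraMap A B a := fun a =>
    (IsScalarTower.algebraMap_apply A (P ⧸ I) B a).symm
  have hemb : Topology.IsEmbedding (PrimeSpectrum.comap π) := by
    rw [show π = (algebraMap (P ⧸ I) B).comp (Ideal.Quotient.mk I) from rfl, PrimeSpectrum.comap_comp]
    exact (PrimeSpectrum.isClosedEmbedding_comap_of_surjective _ _ Ideal.Quotient.mk_surjective).isEmbedding.comp
      (PrimeSpectrum.localization_away_isOpenEmbedding B (Ideal.Quotient.mk I g)).isEmbedding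
  have hlt : ∀ {x y : PrimeSpectrum B}, x < y → PrimeSpectrum.comap π x < PrimeSpectrum.comap π y := fun {x y} hxy =>
    lt_of_le_of_ne (Ideal.comap_mono hxy.le) fun e => hxy.ne (hemb.injective e)
  have hmem : ∀ q : PrimeSpectrum P, I ≤ q.asIdeal → g ∉ q.asIdeal → ∃ b, PrimeSpectrum.comap π b = q := by
    intro q hI hgq
    have h1 : q ∈ Set.range (PrimeSpectrum.comap (Ideal.Quotient.mk I)) := by
      rw [range_comap_of_surjective _ _ Ideal.Quotient.mk_surjective, Ideal.mk_ker]
      exact hI
    obtain ⟨c, rfl⟩ := h1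
    have h2 : c ∈ Set.range (PrimeSpectrum.comap (algebraMap (P ⧸ I) B)) := by
      rw [PrimeSpectrum.localization_away_comap_range B (Ideal.Quotient.mk I g)]
      exact hgq
    obtain ⟨b, rfl⟩ := h2
    exact ⟨b, PrimeSpectrum.comap_comp_apply _ _ _⟩
  have hrange : ∀ b, I ≤ (PrimeSpectrum.comap π b).asIdeal ∧ g ∉ (PrimeSpectrum.comap π b).asIdeal := fun b => by
    refine ⟨fun a ha => ?_, fun ha => ?_⟩
    · show π a ∈ b.asIdeal
      rw [show π a = 0 from by simp [π, Ideal.Quotient.eq_zero_iff_mem.mpr ha]]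
      exact zero_mem _
    · exact b.isPrime.ne_top (Ideal.eq_top_of_isUnit_mem _ ha
        (IsLocalization.Away.algebraMap_isUnit (Ideal.Quotient.mk I g)))
  obtain ⟨n₀, hn₀⟩ := hmem Q (Module.mem_support_iff_of_finite.mp hQ) hgQ
  have hu : ∀ b : PrimeSpectrum B, (PrimeSpectrum.comap π b).asIdeal.under A =
      (PrimeSpectrum.comap (algebraMap A B) b).asIdeal := fun b => by
    ext a
    show π (algebraMap A P a) ∈ b.asIdeal ↔ algebraMap A B a ∈ b.asIdeal
    rw [hπA]
  obtain ⟨t, ht⟩ := Unibranch.exists_quasiFiniteAt_aeval (A := A) n₀ (e := e) fun l hl => by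
    refine hg (l.map (PrimeSpectrum.comap π) fun x y hxy => hlt hxy) (fun i => ?_)
      (Module.mem_support_iff_of_finite.mpr (hrange l.head).1) (hrange l.head).2
    show (PrimeSpectrum.comap π (l i)).asIdeal.under A = _
    rw [hu, hl i, ← hu, hn₀]
  obtain ⟨O, hO, hOeq⟩ := hemb.isInducing.isOpen_iff.mp (isOpen_quasiFiniteAt (A := A) t)
  refine ⟨(PrimeSpectrum.basicOpen g : Set (PrimeSpectrum P)) ∩ O,
    (PrimeSpectrum.basicOpen g).2.inter hO, ⟨hgQ, ?_⟩, fun q hq hqM => ?_⟩
  · have : n₀ ∈ PrimeSpectrum.comap π ⁻¹' O := hOeq.symm ▸ ht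
    rw [← hn₀]
    exact this
  · obtain ⟨b, hb⟩ := hmem q (Module.mem_support_iff_of_finite.mp hqM) hq.1
    have hbqf : b ∈ PrimeSpectrum.comap π ⁻¹' O := show PrimeSpectrum.comap π b ∈ O from hb.symm ▸ hq.2
    rw [hOeq] at hbqf
    have hbd : Unibranch.rdim A b.asIdeal ≤ e := (Unibranch.rdim_le_of_quasiFiniteAt t b.asIdeal hbqf).trans_eq
      (by rw [Nat.card_eq_fintype_card, Fintype.card_ulift, Fintype.card_fin])
    refine Unibranch.rdim_le_of_chains q q le_rfl hq.1 fun l hl => ?_
    choose c hc using fun i => hmem (l i) ((Module.mem_support_iff_of_finite.mp hqM).trans (hl i).2.1) (hl i).2.2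
    let l' : LTSeries (PrimeSpectrum B) :=
      { length := l.length
        toFun := c
        step := fun i => by
          refine lt_of_le_of_ne ?_ fun e => (show l i.castSucc < l i.succ from l.step i).ne ((hc _).symm.trans ((congrArg (PrimeSpectrum.comap π) e).trans (hc _)))
          rw [PrimeSpectrum.le_iff_specializes, ← hemb.isInducing.specializes_iff, hc, hc,
            ← PrimeSpectrum.le_iff_specializes]
          exact (l.step i).le }
    refine (Unibranch.length_le_rdim b l' (fun i => ?_) ?_).trans hbd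
    · ext1
      rw [← hu, ← hu, hb]
      show (PrimeSpectrum.comap π (c i)).asIdeal.under A = _
      rw [hc]
      exact congrArg PrimeSpectrum.asIdeal (hl i).1
    · show b ≤ c 0
      rw [PrimeSpectrum.le_iff_specializes, ← hemb.isInducing.specializes_iff, hb, hc,
        ← PrimeSpectrum.le_iff_specializes]
      exact (hl 0).2.1

/-- The locus where the support dimension plus relative dimension is bounded is open. -/
theorem isOpen_supportDim_le (e : ℕ) :
    IsOpen {Q : PrimeSpectrum (MvPolynomial (Fin n) A) |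
      Module.supportDim (FibQ A Q.asIdeal) (FibM A Q.asIdeal M) + (Unibranch.rdim A Q.asIdeal : WithBot ℕ∞) ≤
        (e : WithBot ℕ∞)} := by
  rw [isOpen_iff_forall_mem_open]
  intro Q hQ
  obtain ⟨U, hU, hQU, hUe⟩ := exists_open_rdim_le M Q e ((supportDim_fibM_add_rdim_le_iff Q.asIdeal M e).1 hQ)
  refine ⟨U, fun R hR => (supportDim_fibM_add_rdim_le_iff R.asIdeal M e).2 fun P hP hPR _ => hUe P ?_ hP, hU, hQU⟩
  exact ((PrimeSpectrum.le_iff_specializes P R).mp hPR).mem_open hU hR

end Groth.Agent.FibDepth
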