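import Groth.Agent.FibDepth.SkOpen

/-!
# Fibres under change of the base
-/

set_option autoImplicit false
set_option linter.style.haveILetI false
set_option backward.isDefEq.respectTransparency false

universe u

open IsLocalRing TensorProduct

namespace Groth.Agent.FibDepth

variable {A₀ A : Type u} [CommRing A₀] [CommRing A] [Algebra A₀ A] {n : ℕ}

/-- The map of polynomial rings. -/
noncomputable abbrev polyBC : MvPolynomial (Fin n) A₀ →+* MvPolynomial (Fin n) A :=
  MvPolynomial.map (algebraMap A₀ A)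

theorem polyBC_algebraMap (a : A₀) :
    polyBC (A := A) (n := n) (algebraMap A₀ (MvPolynomial (Fin n) A₀) a) =
      algebraMap A (MvPolynomial (Fin n) A) (algebraMap A₀ A a) :=
  MvPolynomial.map_C _ a

attribute [local instance] MvPolynomial.algebraMvPolynomial in
/-- Extension of the coefficients of polynomials along fields is flat. -/
theorem flat_map_aux (k K : Type u) [Field k] [Field K] [Algebra k K] (σ : Type) :
    Module.Flat (MvPolynomial σ k) (MvPolynomial σ K) :=
  Module.Flat.isBaseChange (R := k) (S := MvPolynomial σ k) (M := K) (N := MvPolynomial σ K)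
    (h := (inferInstance : Algebra.IsPushout k (MvPolynomial σ k) K (MvPolynomial σ K)).out)

attribute [local instance] MvPolynomial.algebraMvPolynomial in
/-- Extension of the coefficients of polynomials along fields is flat. -/
theorem flat_map_of_field {k K : Type u} [Field k] [Field K] (φ : k →+* K) (σ : Type) :
    (MvPolynomial.map φ : MvPolynomial σ k →+* MvPolynomial σ K).Flat := by
  letI : Algebra k K := φ.toAlgebra
  exact RingHom.flat_algebraMap_iff.mpr (flat_map_aux k K σ)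

section Prime

variable (Q : Ideal (MvPolynomial (Fin n) A)) [Q.IsPrime]

/-- The image prime. -/
noncomputable abbrev downPrime : Ideal (MvPolynomial (Fin n) A₀) := Q.comap (polyBC (A₀ := A₀))

omit [Q.IsPrime] in
theorem downPrime_under : (downPrime (A₀ := A₀) Q).under A₀ = (Q.under A).under A₀ := by
  ext a
  show polyBC (algebraMap A₀ _ a) ∈ Q ↔ algebraMap A (MvPolynomial (Fin n) A) (algebraMap A₀ A a) ∈ Q
  rw [polyBC_algebraMap]

/-- The map of residue fields of the base points. -/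
noncomputable def fieldBC : baseField (downPrime (A₀ := A₀) Q) →+* baseField Q :=
  Ideal.ResidueField.map _ _ (algebraMap A₀ A) (downPrime_under Q)

/-- The map of the fibre rings over the residue fields. -/
noncomputable abbrev fibPolyBC :
    MvPolynomial (Fin n) (baseField (downPrime (A₀ := A₀) Q)) →+* MvPolynomial (Fin n) (baseField Q) :=
  MvPolynomial.map (fieldBC Q)

theorem toFib_polyBC : (toFib Q).comp (polyBC (A₀ := A₀)) = (fibPolyBC Q).comp (toFib (downPrime (A₀ := A₀) Q)) := by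
  refine MvPolynomial.ringHom_ext (fun a => ?_) (fun i => by simp)
  simp only [RingHom.comp_apply, MvPolynomial.map_C]
  exact congrArg _ (Ideal.ResidueField.map_algebraMap _ _ _ _ a).symm

theorem comap_fibPolyBC : (fibPrime Q).comap (fibPolyBC Q) = fibPrime (downPrime (A₀ := A₀) Q) := by
  have h : ((fibPrime Q).comap (fibPolyBC Q)).comap (toFib (downPrime (A₀ := A₀) Q)) = downPrime (A₀ := A₀) Q := by
    rw [Ideal.comap_comap, ← toFib_polyBC, ← Ideal.comap_comap, comap_toFib_fibPrime]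
  have h' := comap_toFib_fibPrime (downPrime (A₀ := A₀) Q)
  let r₁ : PrimeSpectrum (MvPolynomial (Fin n) (baseField (downPrime (A₀ := A₀) Q))) :=
    PrimeSpectrum.comap (fibPolyBC Q) ⟨fibPrime Q, fibPrime_isPrime Q⟩
  let r₂ : PrimeSpectrum (MvPolynomial (Fin n) (baseField (downPrime (A₀ := A₀) Q))) :=
    ⟨fibPrime _, fibPrime_isPrime (downPrime (A₀ := A₀) Q)⟩
  exact le_antisymm
    (le_of_comap_toFib_le (downPrime (A₀ := A₀) Q) (r := r₁) (r' := r₂) (h.trans h'.symm).le)
    (le_of_comap_toFib_le (downPrime (A₀ := A₀) Q) (r := r₂) (r' := r₁) (h'.trans h.symm).le)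

theorem flat_fibPolyBC : (fibPolyBC (A₀ := A₀) Q).Flat :=
  flat_map_of_field (fieldBC Q) (Fin n)

/-- The map of the local rings of the fibres. -/
noncomputable def fibMap : FibQ A₀ (downPrime (A₀ := A₀) Q) →+* FibQ A Q :=
  Ideal.Quotient.lift (fibIdeal A₀ (downPrime (A₀ := A₀) Q))
    (IsLocalization.lift (M := (downPrime (A₀ := A₀) Q).primeCompl)
      (g := (algebraMap (MvPolynomial (Fin n) A) (FibQ A Q)).comp (polyBC (A₀ := A₀)))
      fun r => (isUnit_algebraMap_fibQ A Q _).2 r.2)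
    (fun a ha => by
      rw [← RingHom.mem_ker]
      refine (Ideal.map_le_iff_le_comap.2 fun b hb => ?_ : fibIdeal A₀ (downPrime (A₀ := A₀) Q) ≤ _) ha
      rw [Ideal.mem_comap, RingHom.mem_ker,
        IsScalarTower.algebraMap_apply A₀ (MvPolynomial (Fin n) A₀) (Localization.AtPrime (downPrime (A₀ := A₀) Q)),
        IsLocalization.lift_eq, RingHom.comp_apply, polyBC_algebraMap,
        ← IsScalarTower.algebraMap_apply A (MvPolynomial (Fin n) A) (FibQ A Q)]
      exact algebraMap_fibQ_eq_zero A Q (by rw [downPrime_under] at hb; exact hb))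

theorem fibMap_algebraMap (x : MvPolynomial (Fin n) A₀) :
    fibMap Q (algebraMap _ (FibQ A₀ (downPrime (A₀ := A₀) Q)) x) =
      algebraMap _ (FibQ A Q) (polyBC (A := A) x) :=
  IsLocalization.lift_eq _ x

instance fibMap_isLocalHom : IsLocalHom (fibMap (A₀ := A₀) Q) := by
  refine ⟨fun t ht => ?_⟩
  obtain ⟨t, rfl⟩ := Ideal.Quotient.mk_surjective t
  obtain ⟨b, s, rfl⟩ := IsLocalization.exists_mk'_eq (downPrime (A₀ := A₀) Q).primeCompl t
  rw [IsLocalization.mk'_eq_mul_mk'_one b s, map_mul] at ht ⊢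
  rw [map_mul, IsUnit.mul_iff] at ht
  have h1 : algebraMap (MvPolynomial (Fin n) A₀) (FibQ A₀ (downPrime (A₀ := A₀) Q)) b =
      Ideal.Quotient.mk _ (algebraMap _ _ b) := rfl
  have hb : b ∉ downPrime (A₀ := A₀) Q := by
    have := ht.1
    rw [← h1, fibMap_algebraMap, isUnit_algebraMap_fibQ] at this
    exact this
  exact IsUnit.mul ((isUnit_algebraMap_fibQ A₀ _ b).2 hb)
    (IsUnit.map _ (IsUnit.of_mul_eq_one _ (IsLocalization.mk'_spec (Localization.AtPrime (downPrime (A₀ := A₀) Q)) 1 s |>.trans (map_one _))))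

theorem flat_fibMap : (fibMap (A₀ := A₀) Q).Flat := by
  obtain ⟨ε₀, hε₀⟩ := exists_ringEquiv (downPrime (A₀ := A₀) Q)
  obtain ⟨ε, hε⟩ := exists_ringEquiv Q
  let γ := Localization.localRingHom (fibPrime (downPrime (A₀ := A₀) Q)) (fibPrime Q) (fibPolyBC Q) (comap_fibPolyBC Q).symm
  have hγ : γ.Flat := RingHom.Flat.localRingHom (flat_fibPolyBC Q) _ _ _
  have e : fibMap (A₀ := A₀) Q = (ε.toRingHom.comp γ).comp ε₀.symm.toRingHom := by
    refine Ideal.Quotient.ringHom_ext (IsLocalization.ringHom_ext (downPrime (A₀ := A₀) Q).primeCompl (RingHom.ext fun x => ?_))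
    show fibMap Q (algebraMap _ (FibQ A₀ (downPrime (A₀ := A₀) Q)) x) =
      ε (γ (ε₀.symm (algebraMap _ (FibQ A₀ (downPrime (A₀ := A₀) Q)) x)))
    rw [fibMap_algebraMap, ← hε₀, ← hε]
    show ε (algebraMap _ _ (toFib Q (polyBC (A₀ := A₀) x))) =
      ε (γ (ε₀.symm (ε₀ (algebraMap _ _ (toFib (downPrime (A₀ := A₀) Q) x)))))
    rw [ε₀.symm_apply_apply, Localization.localRingHom_to_map]
    exact congrArg (fun y => ε (algebraMap _ _ y)) (RingHom.congr_fun (toFib_polyBC Q) x)
  rw [e]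
  exact (RingHom.Flat.of_bijective ε₀.symm.bijective).comp (hγ.comp (RingHom.Flat.of_bijective ε.bijective))

end Prime

/-- Projective dimension descends along faithfully flat ring maps. -/
theorem pdLE_baseChange_iff (T₀ T : Type u) [CommRing T₀] [CommRing T] [IsLocalRing T₀] [IsNoetherianRing T₀]
    [IsLocalRing T] [Algebra T₀ T] [Module.FaithfullyFlat T₀ T] : ∀ (j : ℕ) (N : Type u) [AddCommGroup N]
    [Module T₀ N] [Module.Finite T₀ N], SerreReg.PdLE T (T ⊗[T₀] N) j ↔ SerreReg.PdLE T₀ N j := by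
  intro j
  induction j with
  | zero =>
    intro N _ _ _
    rw [SerreReg.pdLE_zero_iff, SerreReg.pdLE_zero_iff]
    refine ⟨fun h => ?_, fun h => inferInstance⟩
    haveI := h
    haveI : Module.Flat T₀ N := Module.Flat.of_flat_tensorProduct T₀ N T
    haveI : Module.Free T₀ N := Module.free_of_flat_of_isLocalRing
    infer_instance
  | succ j ih =>
    intro N _ _ _
    obtain ⟨m, g, hg⟩ := Module.Finite.exists_fin' T₀ N
    let ι := (LinearMap.ker g).subtype.baseChange T
    let π := g.baseChange T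
    have hπ : Function.Surjective π := LinearMap.lTensor_surjective T hg
    have hι : Function.Injective ι :=
      Module.Flat.lTensor_preserves_injective_linearMap _ (Submodule.injective_subtype _)
    have hex : Function.Exact ι π := lTensor_exact T (LinearMap.exact_subtype_ker_map g) hg
    let e : T ⊗[T₀] LinearMap.ker g ≃ₗ[T] LinearMap.ker π :=
      (LinearEquiv.ofInjective ι hι).trans (LinearEquiv.ofEq _ _ (hex.linearMap_ker_eq).symm)
    rw [SerreReg.pdLE_succ_iff π hπ, SerreReg.pdLE_succ_iff g hg, ← ih (LinearMap.ker g)]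
    exact ⟨SerreReg.pdLE_of_equiv e.symm, SerreReg.pdLE_of_equiv e⟩

/-- Base change of a module along two ways round a square of rings. -/
noncomputable def baseChangeEquivAux (P₀ P T₀ T : Type u) [CommRing P₀] [CommRing P] [CommRing T₀] [CommRing T]
    [Algebra P₀ P] [Algebra P₀ T₀] [Algebra T₀ T] [Algebra P T] [Algebra P₀ T] [IsScalarTower P₀ T₀ T]
    [IsScalarTower P₀ P T] {N₀ N F₀ F : Type u} [AddCommGroup N₀] [Module P₀ N₀] [AddCommGroup N] [Module P₀ N]
    [Module P N] [IsScalarTower P₀ P N] [AddCommGroup F₀] [Module T₀ F₀] [AddCommGroup F] [Module T F]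
    {g : N₀ →ₗ[P₀] N} (hg : IsBaseChange P g) (e₀ : F₀ ≃ₗ[T₀] T₀ ⊗[P₀] N₀) (e : F ≃ₗ[T] T ⊗[P] N) :
    T ⊗[T₀] F₀ ≃ₗ[T] F :=
  (AlgebraTensorModule.congr (LinearEquiv.refl T T) e₀).trans
    ((AlgebraTensorModule.cancelBaseChange P₀ T₀ T T N₀).trans
    ((AlgebraTensorModule.cancelBaseChange P₀ P T T N₀).symm.trans
    ((AlgebraTensorModule.congr (LinearEquiv.refl T T) hg.equiv).trans e.symm)))

/-- Projective dimension along a square of rings. -/
theorem pdLE_square_iff (P₀ P : Type u) [CommRing P₀] [CommRing P] [Algebra P₀ P] {T₀ T : Type u} [CommRing T₀]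
    [CommRing T] [IsLocalRing T₀] [IsLocalRing T] [IsNoetherianRing T₀] [Algebra P₀ T₀] [Algebra P T] (φ : T₀ →+* T)
    (hφ : ∀ x, φ (algebraMap P₀ T₀ x) = algebraMap P T (algebraMap P₀ P x)) (hflat : φ.Flat) (hloc : IsLocalHom φ)
    {N₀ N F₀ F : Type u} [AddCommGroup N₀] [Module P₀ N₀] [Module.Finite P₀ N₀] [AddCommGroup N] [Module P₀ N]
    [Module P N] [IsScalarTower P₀ P N] [AddCommGroup F₀] [Module T₀ F₀] [AddCommGroup F] [Module T F]
    {g : N₀ →ₗ[P₀] N} (hg : IsBaseChange P g) (e₀ : F₀ ≃ₗ[T₀] T₀ ⊗[P₀] N₀) (e : F ≃ₗ[T] T ⊗[P] N) (j : ℕ) :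
    SerreReg.PdLE T F j ↔ SerreReg.PdLE T₀ F₀ j := by
  algebraize [φ]
  letI : Algebra P₀ T := ((algebraMap P T).comp (algebraMap P₀ P)).toAlgebra
  haveI : IsScalarTower P₀ P T := IsScalarTower.of_algebraMap_eq fun _ => rfl
  haveI : IsScalarTower P₀ T₀ T := IsScalarTower.of_algebraMap_eq fun x => (hφ x).symm
  haveI : IsLocalHom (algebraMap T₀ T) := hloc
  haveI : Module.FaithfullyFlat T₀ T := Module.FaithfullyFlat.of_flat_of_isLocalHom
  haveI : Module.Finite T₀ F₀ := Module.Finite.equiv e₀.symm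
  let ε := baseChangeEquivAux P₀ P T₀ T hg e₀ e
  rw [← pdLE_baseChange_iff T₀ T j F₀]
  exact ⟨SerreReg.pdLE_of_equiv ε.symm, SerreReg.pdLE_of_equiv ε⟩

/-- Vanishing along a square of rings. -/
theorem subsingleton_square_iff (P₀ P : Type u) [CommRing P₀] [CommRing P] [Algebra P₀ P] {T₀ T : Type u} [CommRing T₀]
    [CommRing T] [IsLocalRing T₀] [IsLocalRing T] [IsNoetherianRing T₀] [Algebra P₀ T₀] [Algebra P T] (φ : T₀ →+* T)
    (hφ : ∀ x, φ (algebraMap P₀ T₀ x) = algebraMap P T (algebraMap P₀ P x)) (hflat : φ.Flat) (hloc : IsLocalHom φ)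
    {N₀ N F₀ F : Type u} [AddCommGroup N₀] [Module P₀ N₀] [Module.Finite P₀ N₀] [AddCommGroup N] [Module P₀ N]
    [Module P N] [IsScalarTower P₀ P N] [AddCommGroup F₀] [Module T₀ F₀] [AddCommGroup F] [Module T F]
    {g : N₀ →ₗ[P₀] N} (hg : IsBaseChange P g) (e₀ : F₀ ≃ₗ[T₀] T₀ ⊗[P₀] N₀) (e : F ≃ₗ[T] T ⊗[P] N) :
    Subsingleton F ↔ Subsingleton F₀ := by
  algebraize [φ]
  letI : Algebra P₀ T := ((algebraMap P T).comp (algebraMap P₀ P)).toAlgebra
  haveI : IsScalarTower P₀ P T := IsScalarTower.of_algebraMap_eq fun _ => rfl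
  haveI : IsScalarTower P₀ T₀ T := IsScalarTower.of_algebraMap_eq fun x => (hφ x).symm
  haveI : IsLocalHom (algebraMap T₀ T) := hloc
  haveI : Module.FaithfullyFlat T₀ T := Module.FaithfullyFlat.of_flat_of_isLocalHom
  haveI : Module.Finite T₀ F₀ := Module.Finite.equiv e₀.symm
  let ε := baseChangeEquivAux P₀ P T₀ T hg e₀ e
  rw [← ε.toEquiv.subsingleton_congr]
  exact Module.FaithfullyFlat.subsingleton_tensorProduct_iff_right T₀ T

variable {M₀ M : Type u} [AddCommGroup M₀] [Module (MvPolynomial (Fin n) A₀) M₀] [AddCommGroup M]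
  [Module (MvPolynomial (Fin n) A) M]

/-- A module obtained by change of the base. -/
structure IsPolyBC (f : M₀ → M) : Prop where
  map_add' : ∀ x y, f (x + y) = f x + f y
  map_smul' : ∀ (p : MvPolynomial (Fin n) A₀) x, f (p • x) = polyBC (A := A) p • f x
  bij : letI : Algebra (MvPolynomial (Fin n) A₀) (MvPolynomial (Fin n) A) := polyBC.toAlgebra
    letI : Module (MvPolynomial (Fin n) A₀) M := Module.compHom M (polyBC (A := A))
    haveI : IsScalarTower (MvPolynomial (Fin n) A₀) (MvPolynomial (Fin n) A) M :=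
      IsScalarTower.of_algebraMap_smul fun _ _ => rfl
    IsBaseChange (MvPolynomial (Fin n) A)
      ({ toFun := f, map_add' := map_add', map_smul' := map_smul' } : M₀ →ₗ[MvPolynomial (Fin n) A₀] M)

variable {f : M₀ → M} (hf : IsPolyBC (A₀ := A₀) (A := A) (n := n) f)

include hf

/-- Projective dimension of the fibres does not change. -/
theorem pdLE_fibM_iff [Module.Finite (MvPolynomial (Fin n) A₀) M₀] (Q : PrimeSpectrum (MvPolynomial (Fin n) A)) (j : ℕ) :
    SerreReg.PdLE (FibQ A Q.asIdeal) (FibM A Q.asIdeal M) j ↔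
      SerreReg.PdLE (FibQ A₀ (downPrime (A₀ := A₀) Q.asIdeal)) (FibM A₀ (downPrime (A₀ := A₀) Q.asIdeal) M₀) j := by
  let P₀ := MvPolynomial (Fin n) A₀
  let P := MvPolynomial (Fin n) A
  let Q₀ := downPrime (A₀ := A₀) Q.asIdeal
  letI : Algebra P₀ P := polyBC.toAlgebra
  letI : Module P₀ M := Module.compHom M (polyBC (A := A))
  haveI : IsScalarTower P₀ P M := IsScalarTower.of_algebraMap_smul fun _ _ => rfl
  haveI : IsRegularLocalRing (FibQ A₀ Q₀) := isRegularLocalRing_fibQ Q₀
  exact pdLE_square_iff P₀ P (fibMap (A₀ := A₀) Q.asIdeal) (fibMap_algebraMap Q.asIdeal) (flat_fibMap Q.asIdeal)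
    (fibMap_isLocalHom Q.asIdeal) hf.bij
    (baseChangeLocalized Q₀.primeCompl (FibQ A₀ Q₀) M₀)
    (baseChangeLocalized Q.asIdeal.primeCompl (FibQ A Q.asIdeal) M) j

/-- Vanishing of the fibres does not change. -/
theorem subsingleton_fibM_iff' [Module.Finite (MvPolynomial (Fin n) A₀) M₀] (Q : PrimeSpectrum (MvPolynomial (Fin n) A)) :
    Subsingleton (FibM A Q.asIdeal M) ↔ Subsingleton (FibM A₀ (downPrime (A₀ := A₀) Q.asIdeal) M₀) := by
  let P₀ := MvPolynomial (Fin n) A₀
  let P := MvPolynomial (Fin n) A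
  let Q₀ := downPrime (A₀ := A₀) Q.asIdeal
  letI : Algebra P₀ P := polyBC.toAlgebra
  letI : Module P₀ M := Module.compHom M (polyBC (A := A))
  haveI : IsScalarTower P₀ P M := IsScalarTower.of_algebraMap_smul fun _ _ => rfl
  haveI : IsRegularLocalRing (FibQ A₀ Q₀) := isRegularLocalRing_fibQ Q₀
  exact subsingleton_square_iff P₀ P (fibMap (A₀ := A₀) Q.asIdeal) (fibMap_algebraMap Q.asIdeal) (flat_fibMap Q.asIdeal)
    (fibMap_isLocalHom Q.asIdeal) hf.bij
    (baseChangeLocalized Q₀.primeCompl (FibQ A₀ Q₀) M₀)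
    (baseChangeLocalized Q.asIdeal.primeCompl (FibQ A Q.asIdeal) M)

end Groth.Agent.FibDepth
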