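import Groth.Agent.FibDepth.FibBC

/-!
# Supports and relative dimensions of fibres under change of the base
-/

set_option autoImplicit false
set_option linter.style.haveILetI false
set_option backward.isDefEq.respectTransparency false

universe u

open IsLocalRing TensorProduct

namespace Groth.Agent.FibDepth

/-- Heights along a ring map with going down. -/
theorem height_comap_le {R S : Type u} [CommRing R] [CommRing S] [IsNoetherianRing R] [IsNoetherianRing S] [Algebra R S]
    [Algebra.HasGoingDown R S] (P : Ideal S) [P.IsPrime] : (P.comap (algebraMap R S)).height ≤ P.height := by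
  haveI : P.LiesOver (P.comap (algebraMap R S)) := ⟨rfl⟩
  rw [Ideal.height_eq_height_add_of_liesOver_of_hasGoingDown (P.comap (algebraMap R S)) P]
  exact le_self_add

/-- Going down preserving heights. -/
theorem exists_le_height_eq {R S : Type u} [CommRing R] [CommRing S] [IsNoetherianRing R] [IsNoetherianRing S] [Algebra R S]
    [Algebra.HasGoingDown R S] (P : Ideal S) [P.IsPrime] (q₀ : Ideal R) [q₀.IsPrime]
    (h : q₀ ≤ P.comap (algebraMap R S)) :
    ∃ q : Ideal S, q.IsPrime ∧ q ≤ P ∧ q.comap (algebraMap R S) = q₀ ∧ q.height = q₀.height := by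
  haveI : P.LiesOver (P.comap (algebraMap R S)) := ⟨rfl⟩
  obtain ⟨q', hq'P, hq', hq'o⟩ := Ideal.exists_ideal_le_liesOver_of_le P (p := q₀) (q := P.comap (algebraMap R S)) h
  have hle : q₀.map (algebraMap R S) ≤ q' := Ideal.map_le_iff_le_comap.2 hq'o.over.le
  obtain ⟨q, hq, hqq'⟩ := Ideal.exists_minimalPrimes_le hle
  haveI := hq.1.1
  have hc : q.comap (algebraMap R S) = q₀ := le_antisymm ((Ideal.comap_mono hqq').trans hq'o.over.ge)
    (Ideal.map_le_iff_le_comap.1 hq.1.2)
  haveI : q.LiesOver q₀ := ⟨hc.symm⟩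
  refine ⟨q, inferInstance, hqq'.trans hq'P, hc, ?_⟩
  rw [Ideal.height_eq_height_add_of_liesOver_of_hasGoingDown q₀ q]
  haveI : (q.map (Ideal.Quotient.mk (q₀.map (algebraMap R S)))).IsPrime :=
    Ideal.map_isPrime_of_surjective Ideal.Quotient.mk_surjective (by rw [Ideal.mk_ker]; exact hq.1.2)
  have h0 : (q.map (Ideal.Quotient.mk (q₀.map (algebraMap R S)))).height = 0 := by
    rw [Ideal.height_eq_zero_iff]
    refine ⟨⟨inferInstance, bot_le⟩, fun r hr hrle => ?_⟩
    haveI := hr.1
    have h1 : r.comap (Ideal.Quotient.mk (q₀.map (algebraMap R S))) ≤ q := by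
      refine (Ideal.comap_mono hrle).trans ?_
      rw [Ideal.comap_map_of_surjective' _ Ideal.Quotient.mk_surjective, Ideal.mk_ker, sup_eq_left.2 hq.1.2]
    have h2 : q ≤ r.comap (Ideal.Quotient.mk (q₀.map (algebraMap R S))) :=
      hq.2 ⟨inferInstance, fun x hx => by
        rw [Ideal.mem_comap, Ideal.Quotient.eq_zero_iff_mem.2 hx]
        exact zero_mem _⟩ h1
    exact Ideal.map_le_iff_le_comap.2 h2
  rw [h0, add_zero]

variable {A₀ A : Type u} [CommRing A₀] [CommRing A] [Algebra A₀ A] {n : ℕ}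

/-- The image point. -/
noncomputable abbrev downPt (Q : PrimeSpectrum (MvPolynomial (Fin n) A)) : PrimeSpectrum (MvPolynomial (Fin n) A₀) :=
  PrimeSpectrum.comap (polyBC (A₀ := A₀)) Q

section

variable (Q : Ideal (MvPolynomial (Fin n) A)) [Q.IsPrime]

theorem hasGoingDown_fibPolyBC :
    letI := (fibPolyBC (A₀ := A₀) Q).toAlgebra
    Algebra.HasGoingDown (MvPolynomial (Fin n) (baseField (downPrime (A₀ := A₀) Q)))
      (MvPolynomial (Fin n) (baseField Q)) := by
  letI := (fibPolyBC (A₀ := A₀) Q).toAlgebra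
  haveI : Module.Flat (MvPolynomial (Fin n) (baseField (downPrime (A₀ := A₀) Q)))
      (MvPolynomial (Fin n) (baseField Q)) := flat_fibPolyBC Q
  exact Algebra.HasGoingDown.of_flat

/-- The relative dimension can only drop. -/
theorem rdim_fibPolyBC_le (r : Ideal (MvPolynomial (Fin n) (baseField Q))) [r.IsPrime] :
    Unibranch.rdim (baseField Q) r ≤ Unibranch.rdim (baseField (downPrime (A₀ := A₀) Q)) (r.comap (fibPolyBC (A₀ := A₀) Q)) := by
  letI := (fibPolyBC (A₀ := A₀) Q).toAlgebra
  haveI := hasGoingDown_fibPolyBC (A₀ := A₀) Q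
  have h1 : (r.comap (fibPolyBC (A₀ := A₀) Q)).height ≤ r.height := height_comap_le r
  have h2 := height_add_rdim r
  have h3 := height_add_rdim (r.comap (fibPolyBC (A₀ := A₀) Q))
  obtain ⟨a, ha⟩ := ENat.ne_top_iff_exists.mp (r.height_ne_top_of_isPrime)
  obtain ⟨b, hb⟩ := ENat.ne_top_iff_exists.mp ((r.comap (fibPolyBC (A₀ := A₀) Q)).height_ne_top_of_isPrime)
  rw [← ha] at h1 h2
  rw [← hb] at h1 h3
  norm_cast at h1 h2 h3
  omega

/-- Every generisation in the fibre downstairs lifts with the same relative dimension. -/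
theorem exists_lift_rdim_eq (P₀ : PrimeSpectrum (MvPolynomial (Fin n) A₀))
    (hle : P₀.asIdeal ≤ downPrime (A₀ := A₀) Q) (hu : P₀.asIdeal.under A₀ = (downPrime (A₀ := A₀) Q).under A₀) :
    ∃ P : PrimeSpectrum (MvPolynomial (Fin n) A), P.asIdeal ≤ Q ∧ P.asIdeal.under A = Q.under A ∧
      downPt P = P₀ ∧ Unibranch.rdim A P.asIdeal = Unibranch.rdim A₀ P₀.asIdeal := by
  letI := (fibPolyBC (A₀ := A₀) Q).toAlgebra
  haveI := hasGoingDown_fibPolyBC (A₀ := A₀) Q
  obtain ⟨r₀, rfl⟩ := exists_comap_toFib_eq (downPrime (A₀ := A₀) Q) P₀ hu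
  have h1 : r₀.asIdeal ≤ (fibPrime Q).comap (fibPolyBC (A₀ := A₀) Q) := by
    rw [comap_fibPolyBC]
    exact le_of_comap_toFib_le (downPrime (A₀ := A₀) Q) (r' := ⟨_, fibPrime_isPrime _⟩)
      (hle.trans (comap_toFib_fibPrime (downPrime (A₀ := A₀) Q)).ge)
  obtain ⟨r, hr, hrle, hrc, hrh⟩ := exists_le_height_eq (fibPrime Q) r₀.asIdeal h1
  refine ⟨PrimeSpectrum.comap (toFib Q) ⟨r, hr⟩, (Ideal.comap_mono hrle).trans (comap_toFib_fibPrime Q).le,
    under_comap_toFib Q _, PrimeSpectrum.ext ?_, ?_⟩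
  · show (r.comap (toFib Q)).comap (polyBC (A₀ := A₀)) = r₀.asIdeal.comap (toFib (downPrime (A₀ := A₀) Q))
    rw [Ideal.comap_comap, toFib_polyBC, ← Ideal.comap_comap, ← hrc]
    rfl
  · show Unibranch.rdim A (r.comap (toFib Q)) =
      Unibranch.rdim A₀ (r₀.asIdeal.comap (toFib (downPrime (A₀ := A₀) Q)))
    rw [← rdim_comap_toFib Q ⟨r, hr⟩, ← rdim_comap_toFib (downPrime (A₀ := A₀) Q) r₀]
    show Unibranch.rdim (baseField Q) r = _
    have h2 := height_add_rdim r
    have h3 := height_add_rdim r₀.asIdeal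
    rw [hrh] at h2
    obtain ⟨b, hb⟩ := ENat.ne_top_iff_exists.mp (r₀.asIdeal.height_ne_top_of_isPrime)
    rw [← hb] at h2 h3
    norm_cast at h2 h3
    omega

end

/-- The relative dimension of a point is at most that of its image. -/
theorem rdim_le_rdim_downPt (P : PrimeSpectrum (MvPolynomial (Fin n) A)) :
    Unibranch.rdim A P.asIdeal ≤ Unibranch.rdim A₀ (downPt (A₀ := A₀) P).asIdeal := by
  rw [← rdim_fibPrime P.asIdeal]
  refine (rdim_fibPolyBC_le (A₀ := A₀) P.asIdeal (fibPrime P.asIdeal)).trans_eq ?_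
  rw [← rdim_fibPrime (downPt (A₀ := A₀) P).asIdeal]
  exact congrArg (Unibranch.rdim _) (comap_fibPolyBC P.asIdeal)

/-- The bound on relative dimensions is insensitive to change of the base. -/
theorem mem_fibBound_preimage (Z₀ : Set (PrimeSpectrum (MvPolynomial (Fin n) A₀))) (b : ℕ)
    (Q : PrimeSpectrum (MvPolynomial (Fin n) A)) :
    Q ∈ fibBound (downPt ⁻¹' Z₀) b ↔ downPt Q ∈ fibBound Z₀ b := by
  constructor
  · intro h P₀ hP₀ hle hu
    obtain ⟨P, hPQ, hPu, hP, hr⟩ := exists_lift_rdim_eq Q.asIdeal P₀ hle hu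
    rw [← hr]
    exact h P (show downPt P ∈ Z₀ from hP ▸ hP₀) hPQ hPu
  · intro h P hP hle hu
    refine (rdim_le_rdim_downPt P).trans_lt (h (downPt P) hP (Ideal.comap_mono hle) ?_)
    show (downPrime (A₀ := A₀) P.asIdeal).under A₀ = (downPrime (A₀ := A₀) Q.asIdeal).under A₀
    rw [downPrime_under, downPrime_under, hu]

variable {M₀ M : Type u} [AddCommGroup M₀] [Module (MvPolynomial (Fin n) A₀) M₀] [AddCommGroup M]
  [Module (MvPolynomial (Fin n) A) M] {f : M₀ → M} (hf : IsPolyBC (A₀ := A₀) (A := A) (n := n) f)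

include hf

/-- The base change of a finite module is finite. -/
theorem IsPolyBC.finite [Module.Finite (MvPolynomial (Fin n) A₀) M₀] :
    Module.Finite (MvPolynomial (Fin n) A) M := by
  letI : Algebra (MvPolynomial (Fin n) A₀) (MvPolynomial (Fin n) A) := polyBC.toAlgebra
  letI : Module (MvPolynomial (Fin n) A₀) M := Module.compHom M (polyBC (A := A))
  haveI : IsScalarTower (MvPolynomial (Fin n) A₀) (MvPolynomial (Fin n) A) M :=
    IsScalarTower.of_algebraMap_smul fun _ _ => rfl
  exact Module.Finite.equiv hf.bij.equiv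

/-- The base change of a finitely presented module is finitely presented. -/
theorem IsPolyBC.finitePresentation [Module.FinitePresentation (MvPolynomial (Fin n) A₀) M₀] :
    Module.FinitePresentation (MvPolynomial (Fin n) A) M := by
  letI : Algebra (MvPolynomial (Fin n) A₀) (MvPolynomial (Fin n) A) := polyBC.toAlgebra
  letI : Module (MvPolynomial (Fin n) A₀) M := Module.compHom M (polyBC (A := A))
  haveI : IsScalarTower (MvPolynomial (Fin n) A₀) (MvPolynomial (Fin n) A) M :=
    IsScalarTower.of_algebraMap_smul fun _ _ => rfl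
  exact FinitePresentation.of_isBaseChange _ hf.bij

/-- The support is the preimage of the support. -/
theorem support_preimage [Module.Finite (MvPolynomial (Fin n) A₀) M₀] :
    Module.support (MvPolynomial (Fin n) A) M = downPt ⁻¹' Module.support (MvPolynomial (Fin n) A₀) M₀ := by
  haveI := hf.finite
  ext Q
  rw [Set.mem_preimage, ← not_iff_not, ← subsingleton_fibM_iff A Q.asIdeal M,
    ← subsingleton_fibM_iff A₀ (downPt (A₀ := A₀) Q).asIdeal M₀]
  exact subsingleton_fibM_iff' hf Q

end Groth.Agent.FibDepth
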