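import Groth.Agent.FibDepth.Field
import Groth.Agent.LocalCrit.Basic

/-!
# Local rings of fibres of polynomial algebras
-/

set_option autoImplicit false
set_option linter.style.haveILetI false

universe u

open IsLocalRing TensorProduct

namespace Groth.Agent.FibDepth

section General

variable (A : Type u) {B : Type u} [CommRing A] [CommRing B] [Algebra A B] (Q : Ideal B) [Q.IsPrime]

/-- The ideal cutting out the fibre in the local ring. -/
abbrev fibIdeal : Ideal (Localization.AtPrime Q) :=
  (Q.under A).map (algebraMap A (Localization.AtPrime Q))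

/-- The local ring of the fibre. -/
abbrev FibQ : Type u := Localization.AtPrime Q ⧸ fibIdeal A Q

/-- The fibre of a module at a prime. -/
abbrev FibM (M : Type u) [AddCommGroup M] [Module B M] : Type u :=
  FibQ A Q ⊗[Localization.AtPrime Q] LocalizedModule Q.primeCompl M

theorem fibIdeal_le : fibIdeal A Q ≤ maximalIdeal (Localization.AtPrime Q) := by
  rw [Ideal.map_le_iff_le_comap, IsScalarTower.algebraMap_eq A B (Localization.AtPrime Q), ← Ideal.comap_comap]
  exact Ideal.comap_mono (le_of_eq (IsLocalization.AtPrime.under_maximalIdeal (Localization.AtPrime Q) Q).symm)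

instance fibQ_nontrivial : Nontrivial (FibQ A Q) :=
  Ideal.Quotient.nontrivial_iff.2 fun e =>
    (IsLocalRing.maximalIdeal.isMaximal _).ne_top (top_le_iff.1 (e ▸ fibIdeal_le A Q))

instance fibQ_local : IsLocalRing (FibQ A Q) :=
  IsLocalRing.of_surjective' (Ideal.Quotient.mk _) Ideal.Quotient.mk_surjective

/-- A scalar of the source is a unit in the local ring of the fibre exactly outside the prime. -/
theorem isUnit_algebraMap_fibQ (x : B) : IsUnit (algebraMap B (FibQ A Q) x) ↔ x ∉ Q := by
  haveI : IsLocalHom (Ideal.Quotient.mk (fibIdeal A Q)) :=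
    IsLocalHom.of_surjective _ Ideal.Quotient.mk_surjective
  rw [IsScalarTower.algebraMap_apply B (Localization.AtPrime Q) (FibQ A Q), Ideal.Quotient.algebraMap_eq,
    isUnit_map_iff, IsLocalization.AtPrime.isUnit_to_map_iff (Localization.AtPrime Q) Q]
  rfl

/-- The image of the base ideal dies in the fibre. -/
theorem algebraMap_fibQ_eq_zero {a : A} (ha : a ∈ Q.under A) : algebraMap A (FibQ A Q) a = 0 := by
  rw [IsScalarTower.algebraMap_apply A (Localization.AtPrime Q) (FibQ A Q), Ideal.Quotient.algebraMap_eq,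
    Ideal.Quotient.eq_zero_iff_mem]
  exact Ideal.mem_map_of_mem _ ha

/-- The primes of the local ring of the fibre, seen in the source. -/
theorem range_comap_fibQ (P : PrimeSpectrum B) :
    P ∈ Set.range (PrimeSpectrum.comap (algebraMap B (FibQ A Q))) ↔ P.asIdeal ≤ Q ∧ P.asIdeal.under A = Q.under A := by
  have hc : algebraMap B (FibQ A Q) = (Ideal.Quotient.mk (fibIdeal A Q)).comp
      (algebraMap B (Localization.AtPrime Q)) := rfl
  rw [hc, PrimeSpectrum.comap_comp, Set.range_comp, range_comap_of_surjective _ _ Ideal.Quotient.mk_surjective,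
    Ideal.mk_ker]
  constructor
  · rintro ⟨z, hz, rfl⟩
    have h1 : (PrimeSpectrum.comap (algebraMap B (Localization.AtPrime Q)) z).asIdeal ≤ Q := fun r hr => by
      by_contra h
      exact z.isPrime.ne_top (Ideal.eq_top_of_isUnit_mem _ hr (IsLocalization.map_units _ (⟨r, h⟩ : Q.primeCompl)))
    refine ⟨h1, le_antisymm (Ideal.comap_mono h1) fun a ha => ?_⟩
    have h2 : algebraMap A (Localization.AtPrime Q) a ∈ z.asIdeal := hz (Ideal.mem_map_of_mem _ ha)
    rwa [IsScalarTower.algebraMap_apply A B] at h2
  · rintro ⟨h1, h2⟩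
    have : P ∈ Set.range (PrimeSpectrum.comap (algebraMap B (Localization.AtPrime Q))) := by
      rw [PrimeSpectrum.localization_comap_range (Localization.AtPrime Q) Q.primeCompl]
      exact Set.disjoint_left.mpr fun r hr h' => hr (h1 h')
    obtain ⟨z, hz⟩ := this
    refine ⟨z, ?_, hz⟩
    show fibIdeal A Q ≤ z.asIdeal
    rw [Ideal.map_le_iff_le_comap]
    intro a ha
    rw [Ideal.mem_comap, IsScalarTower.algebraMap_apply A B]
    show algebraMap A B a ∈ (PrimeSpectrum.comap _ z).asIdeal
    rw [hz]
    rwa [← h2] at ha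

/-- The support of the fibre of a finite module. -/
theorem mem_support_fibM (M : Type u) [AddCommGroup M] [Module B M] [Module.Finite B M]
    (z : PrimeSpectrum (FibQ A Q)) :
    z ∈ Module.support (FibQ A Q) (FibM A Q M) ↔
      PrimeSpectrum.comap (algebraMap B (FibQ A Q)) z ∈ Module.support B M := by
  let S := Localization.AtPrime Q
  let π : S →+* FibQ A Q := Ideal.Quotient.mk _
  have h0 : z ∈ Module.support (FibQ A Q) (FibM A Q M) ↔
      PrimeSpectrum.comap π z ∈ Module.support S (FibM A Q M) := by
    rw [Module.mem_support_iff', Module.mem_support_iff']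
    refine exists_congr fun m => ⟨fun h r hr hr0 => ?_, fun h r hr hr0 => ?_⟩
    · exact h (π r) hr (by rw [← hr0]; exact algebraMap_smul (FibQ A Q) r m)
    · obtain ⟨r, rfl⟩ := Ideal.Quotient.mk_surjective r
      exact h r hr (by rw [← algebraMap_smul (FibQ A Q) r m]; exact hr0)
  rw [h0, (quotTensorEquivQuotSMul (LocalizedModule Q.primeCompl M) (fibIdeal A Q)).support_eq,
    Module.support_quotient, Set.mem_inter_iff, mem_support_localized]
  refine ⟨fun h => h.1, fun h => ⟨h, fun a ha => ?_⟩⟩
  show π a ∈ z.asIdeal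
  rw [show π a = 0 from Ideal.Quotient.eq_zero_iff_mem.mpr ha]
  exact zero_mem _

/-- The fibre vanishes exactly outside the support. -/
theorem subsingleton_fibM_iff (M : Type u) [AddCommGroup M] [Module B M] [Module.Finite B M] :
    Subsingleton (FibM A Q M) ↔ (⟨Q, ‹_›⟩ : PrimeSpectrum B) ∉ Module.support B M := by
  rw [← Module.support_eq_empty_iff (R := FibQ A Q), Set.eq_empty_iff_forall_notMem]
  obtain ⟨z, hz⟩ := (range_comap_fibQ A Q ⟨Q, ‹_›⟩).2 ⟨le_rfl, rfl⟩
  refine ⟨fun h hQ => h z ((mem_support_fibM A Q M z).2 (hz ▸ hQ)), fun h w hw => h ?_⟩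
  exact Module.mem_support_mono ((range_comap_fibQ A Q _).1 ⟨w, rfl⟩).1 ((mem_support_fibM A Q M w).1 hw)

end General

section Poly

variable {A : Type u} [CommRing A] {n : ℕ} (Q : Ideal (MvPolynomial (Fin n) A)) [Q.IsPrime]

/-- The residue field of the base point. -/
abbrev baseField : Type u := (Q.under A).ResidueField

/-- The map to polynomials over the residue field of the base point. -/
noncomputable abbrev toFib : MvPolynomial (Fin n) A →+* MvPolynomial (Fin n) (baseField Q) :=
  MvPolynomial.map (algebraMap A (baseField Q))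

/-- The map from polynomials over the residue field to the local ring of the fibre. -/
noncomputable def fromFib : MvPolynomial (Fin n) (baseField Q) →+* FibQ A Q :=
  MvPolynomial.eval₂Hom
    (Ideal.ResidueField.liftₐ (Q.under A) (Algebra.ofId A (FibQ A Q))
      (fun a ha => algebraMap_fibQ_eq_zero A Q ha) (fun a ha => by
        show IsUnit (algebraMap A (FibQ A Q) a)
        rw [IsScalarTower.algebraMap_apply A (MvPolynomial (Fin n) A) (FibQ A Q), isUnit_algebraMap_fibQ]
        exact ha)).toRingHom
    fun i => algebraMap (MvPolynomial (Fin n) A) (FibQ A Q) (MvPolynomial.X i)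

theorem fromFib_toFib : (fromFib Q).comp (toFib Q) = algebraMap (MvPolynomial (Fin n) A) (FibQ A Q) := by
  refine MvPolynomial.ringHom_ext (fun a => ?_) (fun i => ?_)
  · rw [RingHom.comp_apply, MvPolynomial.map_C, fromFib, MvPolynomial.eval₂Hom_C]
    show Ideal.ResidueField.liftₐ _ _ _ _ (algebraMap A _ a) = _
    rw [AlgHom.commutes, IsScalarTower.algebraMap_apply A (MvPolynomial (Fin n) A) (FibQ A Q)]
    rfl
  · rw [RingHom.comp_apply, MvPolynomial.map_X, fromFib, MvPolynomial.eval₂Hom_X']

/-- Up to scalars, every polynomial over the residue field comes from the base. -/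
theorem exists_toFib_eq (x : MvPolynomial (Fin n) (baseField Q)) :
    ∃ (a : A) (y : MvPolynomial (Fin n) A), a ∉ Q.under A ∧
      MvPolynomial.C (algebraMap A (baseField Q) a) * x = toFib Q y := by
  induction x using MvPolynomial.induction_on with
  | C c =>
    obtain ⟨⟨r, ⟨s, hs⟩⟩, h⟩ := IsLocalization.surj (nonZeroDivisors (A ⧸ Q.under A)) c
    obtain ⟨r, rfl⟩ := Ideal.Quotient.mk_surjective r
    obtain ⟨s, rfl⟩ := Ideal.Quotient.mk_surjective s
    refine ⟨s, MvPolynomial.C r, fun hs' => nonZeroDivisors.ne_zero hs (Ideal.Quotient.eq_zero_iff_mem.mpr hs'), ?_⟩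
    rw [MvPolynomial.map_C, ← map_mul, mul_comm]
    exact congrArg _ h
  | add p q hp hq =>
    obtain ⟨a, y, ha, hy⟩ := hp
    obtain ⟨b, z, hb, hz⟩ := hq
    refine ⟨a * b, MvPolynomial.C b * y + MvPolynomial.C a * z, Ideal.IsPrime.mul_notMem inferInstance ha hb, ?_⟩
    simp only [map_add, map_mul, MvPolynomial.map_C, ← hy, ← hz]
    ring
  | mul_X p i hp =>
    obtain ⟨a, y, ha, hy⟩ := hp
    refine ⟨a, y * MvPolynomial.X i, ha, ?_⟩
    rw [map_mul, MvPolynomial.map_X, ← hy, mul_assoc]

/-- The prime of the fibre over `Q`. -/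
noncomputable def fibPrime : Ideal (MvPolynomial (Fin n) (baseField Q)) :=
  (maximalIdeal (FibQ A Q)).comap (fromFib Q)

instance fibPrime_isPrime : (fibPrime Q).IsPrime := Ideal.IsPrime.comap _

theorem comap_toFib_fibPrime : (fibPrime Q).comap (toFib Q) = Q := by
  rw [fibPrime, Ideal.comap_comap, fromFib_toFib]
  ext x
  rw [Ideal.mem_comap, IsLocalRing.mem_maximalIdeal, mem_nonunits_iff, isUnit_algebraMap_fibQ, not_not]

/-- The local ring of the fibre is the local ring of the polynomial ring over the residue field. -/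
theorem exists_ringEquiv : ∃ e : Localization.AtPrime (fibPrime Q) ≃+* FibQ A Q,
    e.toRingHom.comp ((algebraMap _ (Localization.AtPrime (fibPrime Q))).comp (toFib Q)) =
      algebraMap (MvPolynomial (Fin n) A) (FibQ A Q) := by
  let R := MvPolynomial (Fin n) (baseField Q)
  let L := Localization.AtPrime (fibPrime Q)
  let S := Localization.AtPrime Q
  have hu : ∀ r : (fibPrime Q).primeCompl, IsUnit (fromFib Q r) := fun r =>
    not_not.mp fun h => r.2 h
  let β : L →+* FibQ A Q := IsLocalization.lift hu
  let γ : S →+* L := Localization.localRingHom Q (fibPrime Q) (toFib Q) (comap_toFib_fibPrime Q).symm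
  have hγ : ∀ a ∈ fibIdeal A Q, γ a = 0 := by
    intro a ha
    refine (show fibIdeal A Q ≤ RingHom.ker γ from ?_) ha
    rw [Ideal.map_le_iff_le_comap]
    intro b hb
    rw [Ideal.mem_comap, RingHom.mem_ker, IsScalarTower.algebraMap_apply A (MvPolynomial (Fin n) A) S]
    show Localization.localRingHom Q (fibPrime Q) (toFib Q) (comap_toFib_fibPrime Q).symm _ = 0
    rw [Localization.localRingHom_to_map]
    rw [MvPolynomial.algebraMap_eq, MvPolynomial.map_C, Ideal.algebraMap_residueField_eq_zero.mpr hb, map_zero,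
      map_zero]
  let α : FibQ A Q →+* L := Ideal.Quotient.lift _ γ hγ
  have hα : ∀ x, α (algebraMap (MvPolynomial (Fin n) A) (FibQ A Q) x) = algebraMap R L (toFib Q x) := fun x =>
    Localization.localRingHom_to_map Q (fibPrime Q) (toFib Q) (comap_toFib_fibPrime Q).symm x
  have hβ : ∀ x, β (algebraMap R L x) = fromFib Q x := fun x => IsLocalization.lift_eq hu x
  have h1 : β.comp α = RingHom.id _ := by
    refine Ideal.Quotient.ringHom_ext (IsLocalization.ringHom_ext Q.primeCompl (RingHom.ext fun x => ?_))
    show β (α (algebraMap (MvPolynomial (Fin n) A) (FibQ A Q) x)) = _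
    rw [hα, hβ]
    exact RingHom.congr_fun (fromFib_toFib Q) x
  have h2 : α.comp β = RingHom.id _ := by
    refine IsLocalization.ringHom_ext (fibPrime Q).primeCompl (RingHom.ext fun x => ?_)
    show α (β (algebraMap R L x)) = algebraMap R L x
    rw [hβ]
    obtain ⟨a, y, ha, hy⟩ := exists_toFib_eq Q x
    have h3 : α (fromFib Q (toFib Q y)) = algebraMap R L (toFib Q y) := by
      rw [← hα]; exact congrArg α (RingHom.congr_fun (fromFib_toFib Q) y)
    rw [← hy, map_mul, map_mul, map_mul] at h3
    have h4 : α (fromFib Q (MvPolynomial.C (algebraMap A (baseField Q) a))) =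
        algebraMap R L (MvPolynomial.C (algebraMap A (baseField Q) a)) := by
      have := hα (MvPolynomial.C a)
      rw [← MvPolynomial.map_C (algebraMap A (baseField Q)) a, ← this]
      exact congrArg α (RingHom.congr_fun (fromFib_toFib Q) (MvPolynomial.C a))
    rw [h4] at h3
    refine (IsUnit.mul_right_inj ?_).mp h3
    refine IsUnit.map _ (IsUnit.map _ (Ne.isUnit fun h => ha ?_))
    exact Ideal.algebraMap_residueField_eq_zero.mp h
  refine ⟨RingEquiv.ofRingHom β α h1 h2, RingHom.ext fun x => ?_⟩
  show β (algebraMap R L (toFib Q x)) = _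
  rw [hβ]
  exact RingHom.congr_fun (fromFib_toFib Q) x

/-- The comparison of primes of the fibre reflects inclusions. -/
theorem le_of_comap_toFib_le {r r' : PrimeSpectrum (MvPolynomial (Fin n) (baseField Q))}
    (h : r.asIdeal.comap (toFib Q) ≤ r'.asIdeal.comap (toFib Q)) : r ≤ r' := fun x hx => by
  obtain ⟨a, y, ha, hy⟩ := exists_toFib_eq Q x
  have hu : IsUnit (MvPolynomial.C (σ := Fin n) (algebraMap A (baseField Q) a)) :=
    IsUnit.map _ (Ne.isUnit fun h => ha (Ideal.algebraMap_residueField_eq_zero.mp h))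
  have h1 : toFib Q y ∈ r'.asIdeal := h (show toFib Q y ∈ r.asIdeal from hy ▸ Ideal.mul_mem_left _ _ hx)
  rw [← hy] at h1
  exact (r'.isPrime.mem_or_mem h1).resolve_left fun h2 => r'.isPrime.ne_top (Ideal.eq_top_of_isUnit_mem _ h2 hu)

/-- Primes in the range of the comparison lie over the base point. -/
theorem under_comap_toFib (r : PrimeSpectrum (MvPolynomial (Fin n) (baseField Q))) :
    (r.asIdeal.comap (toFib Q)).under A = Q.under A := by
  ext a
  rw [Ideal.mem_comap, Ideal.mem_comap, MvPolynomial.algebraMap_eq, MvPolynomial.map_C]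
  refine ⟨fun h => ?_, fun h => ?_⟩
  · by_contra h'
    exact r.isPrime.ne_top (Ideal.eq_top_of_isUnit_mem _ h
      (IsUnit.map _ (Ne.isUnit fun e => h' (Ideal.algebraMap_residueField_eq_zero.mp e))))
  · rw [Ideal.algebraMap_residueField_eq_zero.mpr h, map_zero]
    exact zero_mem _

/-- Every prime over the base point comes from the fibre. -/
theorem exists_comap_toFib_eq (P : PrimeSpectrum (MvPolynomial (Fin n) A)) (h : P.asIdeal.under A = Q.under A) :
    ∃ r : PrimeSpectrum (MvPolynomial (Fin n) (baseField Q)), PrimeSpectrum.comap (toFib Q) r = P := by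
  suffices P ∈ Set.range (PrimeSpectrum.comap (toFib Q)) from this
  rw [PrimeSpectrum.mem_range_comap_iff]
  refine le_antisymm (fun x hx => ?_) Ideal.le_comap_map
  obtain ⟨q, hq⟩ : ∃ q : FibQ A P.asIdeal, q = 0 := ⟨0, rfl⟩
  let η : MvPolynomial (Fin n) (baseField Q) →+* FibQ A P.asIdeal :=
    MvPolynomial.eval₂Hom
      (Ideal.ResidueField.liftₐ (Q.under A) (Algebra.ofId A (FibQ A P.asIdeal))
        (fun a ha => algebraMap_fibQ_eq_zero A P.asIdeal (h.symm ▸ ha)) (fun a ha => by
          show IsUnit (algebraMap A (FibQ A P.asIdeal) a)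
          rw [IsScalarTower.algebraMap_apply A (MvPolynomial (Fin n) A) (FibQ A P.asIdeal), isUnit_algebraMap_fibQ]
          exact fun h' => ha (h ▸ h'))).toRingHom
      fun i => algebraMap (MvPolynomial (Fin n) A) (FibQ A P.asIdeal) (MvPolynomial.X i)
  have hη : η.comp (toFib Q) = algebraMap (MvPolynomial (Fin n) A) (FibQ A P.asIdeal) := by
    refine MvPolynomial.ringHom_ext (fun a => ?_) (fun i => ?_)
    · simp only [η, RingHom.comp_apply, MvPolynomial.map_C, MvPolynomial.eval₂Hom_C]
      show Ideal.ResidueField.liftₐ _ _ _ _ (algebraMap A _ a) = _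
      rw [AlgHom.commutes, IsScalarTower.algebraMap_apply A (MvPolynomial (Fin n) A) (FibQ A P.asIdeal)]
      rfl
    · simp only [η, RingHom.comp_apply, MvPolynomial.map_X, MvPolynomial.eval₂Hom_X']
  have h1 : P.asIdeal.map (toFib Q) ≤ (maximalIdeal (FibQ A P.asIdeal)).comap η := by
    rw [Ideal.map_le_iff_le_comap, Ideal.comap_comap, hη]
    intro y hy
    rw [Ideal.mem_comap, IsLocalRing.mem_maximalIdeal, mem_nonunits_iff, isUnit_algebraMap_fibQ, not_not]
    exact hy
  have h2 : algebraMap (MvPolynomial (Fin n) A) (FibQ A P.asIdeal) x ∈ maximalIdeal _ := by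
    rw [← hη]
    exact h1 hx
  rw [IsLocalRing.mem_maximalIdeal, mem_nonunits_iff, isUnit_algebraMap_fibQ, not_not] at h2
  exact h2

/-- The relative dimension is the dimension in the fibre. -/
theorem rdim_comap_toFib (r : PrimeSpectrum (MvPolynomial (Fin n) (baseField Q))) :
    Unibranch.rdim (baseField Q) r.asIdeal = Unibranch.rdim A (r.asIdeal.comap (toFib Q)) := by
  have hK : ∀ z : PrimeSpectrum (MvPolynomial (Fin n) (baseField Q)),
      PrimeSpectrum.comap (algebraMap (baseField Q) _) z = PrimeSpectrum.comap (algebraMap (baseField Q) _) r :=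
    fun _ => Subsingleton.elim _ _
  refine le_antisymm (Unibranch.rdim_le_of_chains r r le_rfl (g := 1) r.isPrime.one_notMem fun l hl => ?_)
    (Unibranch.rdim_le_of_chains ⟨_, Ideal.IsPrime.comap _⟩ ⟨_, Ideal.IsPrime.comap _⟩ le_rfl (g := 1)
      (Ideal.IsPrime.one_notMem (Ideal.IsPrime.comap _)) fun l hl => ?_)
  · refine Unibranch.length_le_rdim (A := A) (PrimeSpectrum.comap (toFib Q) r)
      (l.map (PrimeSpectrum.comap (toFib Q)) fun a b hab => lt_of_le_not_ge (Ideal.comap_mono hab.le)
        fun h => hab.not_ge (le_of_comap_toFib_le Q h)) (fun i => ?_) (Ideal.comap_mono (hl 0).2.1)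
    ext1
    exact (under_comap_toFib Q _).trans (under_comap_toFib Q r).symm
  · choose g hg using fun i => exists_comap_toFib_eq Q (l i)
      ((congrArg PrimeSpectrum.asIdeal (hl i).1).trans (under_comap_toFib Q r))
    let l' : LTSeries (PrimeSpectrum (MvPolynomial (Fin n) (baseField Q))) :=
      { length := l.length
        toFun := g
        step := fun i => by
          refine lt_of_le_not_ge (le_of_comap_toFib_le Q ?_) fun h => ?_
          · show (PrimeSpectrum.comap _ (g i.castSucc)).asIdeal ≤ (PrimeSpectrum.comap _ (g i.succ)).asIdeal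
            rw [hg, hg]; exact (l.step i).le
          · have := Ideal.comap_mono (f := toFib Q) h
            change (PrimeSpectrum.comap _ (g i.succ)).asIdeal ≤ (PrimeSpectrum.comap _ (g i.castSucc)).asIdeal at this
            rw [hg, hg] at this
            exact (show l i.castSucc < l i.succ from l.step i).not_ge this }
    refine Unibranch.length_le_rdim r l' (fun i => hK _) (le_of_comap_toFib_le Q ?_)
    show _ ≤ (PrimeSpectrum.comap _ (g 0)).asIdeal
    rw [hg]
    exact (hl 0).2.1

theorem rdim_fibPrime : Unibranch.rdim (baseField Q) (fibPrime Q) = Unibranch.rdim A Q := by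
  have h := rdim_comap_toFib Q ⟨fibPrime Q, inferInstance⟩
  simp only [comap_toFib_fibPrime] at h
  exact h

theorem isRegularLocalRing_fibQ : IsRegularLocalRing (FibQ A Q) := by
  obtain ⟨e, -⟩ := exists_ringEquiv Q
  haveI : IsRegularLocalRing (Localization.AtPrime (fibPrime Q)) :=
    IsRegularRing.isRegularLocalRing_localization _
  exact IsRegularLocalRing.of_ringEquiv e

theorem rdim_le_card : Unibranch.rdim A Q ≤ n := rdim_fibPrime Q ▸ rdim_le (fibPrime Q)

theorem ringKrullDim_fibQ : ringKrullDim (FibQ A Q) = ((n - Unibranch.rdim A Q : ℕ) : WithBot ℕ∞) := by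
  obtain ⟨e, -⟩ := exists_ringEquiv Q
  rw [← ringKrullDim_eq_of_ringEquiv e, ringKrullDim_localization, rdim_fibPrime]

variable (M : Type u) [AddCommGroup M] [Module (MvPolynomial (Fin n) A) M] [Module.Finite (MvPolynomial (Fin n) A) M]

/-- A module over the fibre polynomial ring with the same support. -/
abbrev suppMod : Type u :=
  MvPolynomial (Fin n) (baseField Q) ⧸ (Module.annihilator (MvPolynomial (Fin n) A) M).map (toFib Q)

theorem mem_support_suppMod (r : PrimeSpectrum (MvPolynomial (Fin n) (baseField Q))) :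
    r ∈ Module.support (MvPolynomial (Fin n) (baseField Q)) (suppMod Q M) ↔
      PrimeSpectrum.comap (toFib Q) r ∈ Module.support (MvPolynomial (Fin n) A) M := by
  rw [Module.support_of_algebra, Ideal.Quotient.algebraMap_eq, Ideal.mk_ker, Module.mem_support_iff_of_finite]
  exact Ideal.map_le_iff_le_comap

theorem supportDim_fibM : Module.supportDim (FibQ A Q) (FibM A Q M) =
    Module.supportDim (Localization.AtPrime (fibPrime Q))
      (LocalizedModule (fibPrime Q).primeCompl (suppMod Q M)) := by
  obtain ⟨ε, hε⟩ := exists_ringEquiv Q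
  have key : ∀ z : PrimeSpectrum (Localization.AtPrime (fibPrime Q)),
      z ∈ Module.support (Localization.AtPrime (fibPrime Q)) (LocalizedModule (fibPrime Q).primeCompl (suppMod Q M)) ↔
      PrimeSpectrum.comapEquiv ε z ∈ Module.support (FibQ A Q) (FibM A Q M) := fun z => by
    rw [mem_support_localized, mem_support_suppMod, mem_support_fibM, ← hε]
    simp only [PrimeSpectrum.comap_comp_apply]
    rw [show PrimeSpectrum.comap ε.toRingHom (PrimeSpectrum.comapEquiv ε z) = z from
      (PrimeSpectrum.comapEquiv ε).symm_apply_apply z]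
  let φ : Module.support (Localization.AtPrime (fibPrime Q)) (LocalizedModule (fibPrime Q).primeCompl (suppMod Q M)) ≃o
      Module.support (FibQ A Q) (FibM A Q M) :=
    { toEquiv := (PrimeSpectrum.comapEquiv ε).toEquiv.subtypeEquiv key
      map_rel_iff' := (PrimeSpectrum.comapEquiv ε).map_rel_iff }
  exact (Order.krullDim_eq_of_orderIso φ).symm

/-- Support dimension plus relative dimension. -/
theorem supportDim_fibM_add_rdim_le_iff (e : ℕ) :
    Module.supportDim (FibQ A Q) (FibM A Q M) + (Unibranch.rdim A Q : WithBot ℕ∞) ≤ (e : WithBot ℕ∞) ↔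
      ∀ P : PrimeSpectrum (MvPolynomial (Fin n) A), P ∈ Module.support (MvPolynomial (Fin n) A) M →
        P.asIdeal ≤ Q → P.asIdeal.under A = Q.under A → Unibranch.rdim A P.asIdeal ≤ e := by
  rw [supportDim_fibM, ← rdim_fibPrime Q, supportDim_add_rdim_le_iff]
  constructor
  · intro h P hP hPQ hPu
    obtain ⟨r, rfl⟩ := exists_comap_toFib_eq Q P hPu
    have h1 : r.asIdeal ≤ fibPrime Q := le_of_comap_toFib_le Q (r' := ⟨fibPrime Q, inferInstance⟩)
      (show r.asIdeal.comap (toFib Q) ≤ (fibPrime Q).comap (toFib Q) by rw [comap_toFib_fibPrime]; exact hPQ)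
    exact (rdim_comap_toFib Q r).symm.trans_le (h r ((mem_support_suppMod Q M r).2 hP) h1)
  · intro h r hr hrq
    rw [rdim_comap_toFib Q r]
    have h1 : r.asIdeal.comap (toFib Q) ≤ Q := by
      refine le_trans (Ideal.comap_mono hrq) ?_
      rw [comap_toFib_fibPrime]
    have h2 := h (PrimeSpectrum.comap (toFib Q) r) ((mem_support_suppMod Q M r).1 hr) h1 (under_comap_toFib Q r)
    exact h2

end Poly

end Groth.Agent.FibDepth
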