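import Groth.Agent.CMFlat.Constructible
import Groth.Agent.SmDesc.Scheme

/-!
# Loci defined fibre by fibre which commute with base change and are open for flat morphisms
-/

set_option autoImplicit false
set_option linter.style.haveILetI false
set_option linter.unusedVariables false
universe u

open CategoryTheory AlgebraicGeometry Limits Set.Notation

namespace Groth.Agent.FibDepth

variable {X Y S : Scheme.{u}}

/-- A family of subsets of the sources of morphisms, compatible with base change and with open immersions into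
the source, and open for flat morphisms. -/
structure IsFibreLocus (F : ∀ {X S : Scheme.{u}}, (X ⟶ S) → Set X) : Prop where
  preimage : ∀ {X S X' S' : Scheme.{u}} {f : X ⟶ S} [LocallyOfFiniteType f] {f' : X' ⟶ S'} {g' : X' ⟶ X}
    {g : S' ⟶ S}, IsPullback g' f' f g → F f' = g' ⁻¹' F f
  comp_openImmersion : ∀ {W X S : Scheme.{u}} (j : W ⟶ X) [IsOpenImmersion j] (f : X ⟶ S) [LocallyOfFiniteType f],
    F (j ≫ f) = j ⁻¹' F f
  isOpen_of_flat : ∀ {X S : Scheme.{u}} (f : X ⟶ S) [Flat f] [LocallyOfFinitePresentation f], IsOpen (F f)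

variable {F : ∀ {X S : Scheme.{u}}, (X ⟶ S) → Set X} (hF : IsFibreLocus @F)

include hF

/-- The key dichotomy on an integral closed subscheme. -/
theorem IsFibreLocus.dichotomy (f : X ⟶ S) [IsNoetherian S] [LocallyOfFiniteType f] [QuasiCompact f]
    {Z : Scheme.{u}} (i : Z ⟶ X) [IsClosedImmersion i] [IsIntegral Z] :
    (i (genericPoint Z) ∈ F f → (interior (i ⁻¹' F f : Set Z)).Nonempty) ∧
      (i (genericPoint Z) ∈ (F f)ᶜ → (interior (i ⁻¹' (F f)ᶜ : Set Z)).Nonempty) := by
  let η := i (genericPoint Z)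
  let C : TopologicalSpace.Closeds S := ⟨closure {f η}, isClosed_closure⟩
  let I : S.IdealSheafData := Scheme.IdealSheafData.vanishingIdeal C
  let T := I.subscheme
  let j := I.subschemeι
  have hr : Set.range j = closure {f η} := by
    rw [Scheme.IdealSheafData.range_subschemeι]
    exact Scheme.IdealSheafData.coe_support_vanishingIdeal C
  obtain ⟨t, ht⟩ : f η ∈ Set.range j := hr ▸ subset_closure rfl
  have hgen : IsGenericPoint t (Set.univ : Set T) := by
    rw [isGenericPoint_iff_specializes]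
    intro y
    refine ⟨fun _ => trivial, fun _ => ?_⟩
    rw [← j.isClosedEmbedding.isInducing.specializes_iff, ht, specializes_iff_mem_closure, ← hr]
    exact ⟨y, rfl⟩
  haveI : IrreducibleSpace T := { toNonempty := ⟨t⟩, isPreirreducible_univ := hgen.isIrreducible.2 }
  haveI : AlgebraicGeometry.IsReduced T := DvrDom.isReduced_vanishingIdeal_subscheme C
  haveI : IsIntegral T := isIntegral_of_irreducibleSpace_of_isReduced _
  haveI : IsNoetherian T :=
    { toIsLocallyNoetherian := LocallyOfFiniteType.isLocallyNoetherian j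
      toCompactSpace := QuasiCompact.compactSpace_of_compactSpace j }
  let fT := pullback.snd f j
  let q := pullback.fst f j
  haveI : LocallyOfFiniteType fT := MorphismProperty.pullback_snd (P := @LocallyOfFiniteType) _ _ inferInstance
  haveI : QuasiCompact fT := MorphismProperty.pullback_snd (P := @QuasiCompact) _ _ inferInstance
  haveI : IsClosedImmersion q := MorphismProperty.pullback_fst (P := @IsClosedImmersion) _ _ inferInstance
  have hsq : IsPullback q fT f j := IsPullback.of_hasPullback f j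
  obtain ⟨U, hU, hflat, -⟩ := S0414.result fT
  haveI := ConsEngine.lfp_of_lft fT
  haveI : Flat (fT ∣_ U) := hflat
  haveI : LocallyOfFinitePresentation (fT ∣_ U) :=
    MorphismProperty.of_isPullback (P := @LocallyOfFinitePresentation) (isPullback_morphismRestrict fT U).flip ‹_›
  let A : Set ↥(pullback f j) := (fT ⁻¹ᵁ U).ι '' F (fT ∣_ U)
  have hA : IsOpen A := (fT ⁻¹ᵁ U).ι.isOpenEmbedding.isOpenMap _ (hF.isOpen_of_flat _)
  have hAE : ∀ v, v ∈ A ↔ (fT v ∈ U ∧ q v ∈ F f) := by
    intro v
    show v ∈ (fT ⁻¹ᵁ U).ι '' F (fT ∣_ U) ↔ _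
    rw [hF.preimage (isPullback_morphismRestrict fT U).flip, hF.preimage hsq]
    exact ⟨fun ⟨w, hw, e⟩ => e ▸ ⟨w.2, hw⟩, fun ⟨h1, h2⟩ => ⟨⟨v, h1⟩, h2, rfl⟩⟩
  obtain ⟨O, hO, hOA⟩ := q.isEmbedding.isInducing.isOpen_iff.mp hA
  obtain ⟨W, hW, hWU⟩ := q.isEmbedding.isInducing.isOpen_iff.mp (fT ⁻¹ᵁ U).2
  have hrq : Set.range q = f ⁻¹' Set.range j := Scheme.Pullback.range_fst f j
  have hspec : ∀ z : Z, η ⤳ i z := fun z =>
    ((genericPoint_spec Z).specializes (Set.mem_univ z)).map i.continuous
  have hlift : ∀ z : Z, ∃ v, q v = i z := fun z => by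
    show i z ∈ Set.range q
    rw [hrq, Set.mem_preimage, hr]
    exact ((hspec z).map f.continuous).mem_closure
  obtain ⟨v, hv⟩ : η ∈ Set.range q := by rw [hrq]; exact ⟨t, ht⟩
  have hvt : fT v = t := j.isEmbedding.injective (by
    rw [ht, ← hv, ← Scheme.Hom.comp_apply, ← hsq.w, Scheme.Hom.comp_apply])
  have hvU : fT v ∈ U := hvt ▸ (hgen.mem_open_set_iff U.2).mpr (by simpa using hU.nonempty)
  refine ⟨fun hη => ⟨genericPoint Z, mem_interior.mpr ⟨i ⁻¹' O, fun z hz => ?_, hO.preimage i.continuous, ?_⟩⟩,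
    fun hη => ⟨genericPoint Z, mem_interior.mpr ⟨i ⁻¹' W, fun z hz hzE => ?_, hW.preimage i.continuous, ?_⟩⟩⟩
  · obtain ⟨w, hw⟩ := hlift z
    show i z ∈ F f
    rw [← hw]
    exact ((hAE w).mp (by rw [← hOA]; exact show q w ∈ O by rw [hw]; exact hz)).2
  · show η ∈ O
    rw [← hv]
    exact (hOA.ge ((hAE v).mpr ⟨hvU, (congrArg (· ∈ F f) hv).mpr hη⟩) : _)
  · obtain ⟨w, hw⟩ := hlift z
    have hwA : w ∈ A := (hAE w).mpr ⟨hWU.le (show q w ∈ W by rw [hw]; exact hz), hw ▸ hzE⟩
    rw [← hOA] at hwA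
    have hηO : η ∈ O := (hspec z).mem_open hO (hw ▸ hwA)
    exact hη ((congrArg (· ∈ F f) hv).mp ((hAE v).mp (hOA.le (show q v ∈ O by rw [hv]; exact hηO))).2)
  · show η ∈ W
    rw [← hv]
    exact hWU.ge hvU

theorem IsFibreLocus.isLocallyConstructible_noetherian (f : X ⟶ S) [IsNoetherian S] [LocallyOfFiniteType f]
    [QuasiCompact f] : Topology.IsLocallyConstructible (F f) := by
  haveI := LocallyOfFiniteType.isLocallyNoetherian f
  exact ConsEngine.isLocallyConstructible_of_indCons
    (ConsEngine.indCons_of_closed_integral _ fun Z i _ _ => (hF.dichotomy f i).1)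
    (ConsEngine.indCons_of_closed_integral _ fun Z i _ _ => (hF.dichotomy f i).2)

theorem IsFibreLocus.isLocallyConstructible_spec {A : Type u} [CommRing A] (f : X ⟶ Spec (CommRingCat.of A))
    [LocallyOfFinitePresentation f] [QuasiCompact f] [QuasiSeparated f] :
    Topology.IsLocallyConstructible (F f) := by
  have : LocallyOfFinitePresentation (𝟙 X ≫ f) := by simpa
  have : QuasiCompact (𝟙 X ≫ f) := by simpa
  have : QuasiSeparated (𝟙 X ≫ f) := by simpa
  obtain ⟨S₀, σ, X₀, Y₀, f₀, g₀, qY, qX, _, _, _, _, _, _, _, hY, hX⟩ := ConsEngine.exists_model_mor (𝟙 X) f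
  rw [hF.preimage hY]
  exact ConsEngine.isLocallyConstructible_preimage qY (hF.isLocallyConstructible_noetherian g₀)

/-- Such loci are locally constructible for morphisms locally of finite presentation. -/
theorem IsFibreLocus.isLocallyConstructible (f : X ⟶ S) [LocallyOfFinitePresentation f] :
    Topology.IsLocallyConstructible (F f) := by
  have hcov : ∀ x : X, ∃ (V : S.Opens) (W : X.Opens), IsAffineOpen V ∧ IsAffineOpen W ∧ W ≤ f ⁻¹ᵁ V ∧ x ∈ W := by
    intro x
    obtain ⟨V, hV, hxV, -⟩ := exists_isAffineOpen_mem_and_subset (U := (⊤ : S.Opens)) (x := f x) trivial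
    obtain ⟨W, hW, hxW, hWV⟩ := exists_isAffineOpen_mem_and_subset (U := f ⁻¹ᵁ V) (x := x) hxV
    exact ⟨V, W, hV, hW, hWV, hxW⟩
  choose V W hV hW hle hxW using hcov
  refine Topology.IsLocallyConstructible.of_isOpenCover (U := W)
    (TopologicalSpace.IsOpenCover.mk (by ext x; simp; exact ⟨x, hxW x⟩)) fun x => ?_
  let fV := f ∣_ V x
  haveI : LocallyOfFinitePresentation fV :=
    MorphismProperty.of_isPullback (P := @LocallyOfFinitePresentation) (isPullback_morphismRestrict f (V x)).flip ‹_›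
  let j := X.homOfLE (hle x)
  let φ := j ≫ fV ≫ (hV x).isoSpec.hom
  haveI : IsAffine (W x).toScheme := hW x
  have e : ((W x : Set X) ↓∩ F f) = F φ := by
    have h1 : IsPullback (𝟙 _) (fV ≫ (hV x).isoSpec.hom) fV (hV x).isoSpec.inv :=
      IsPullback.of_horiz_isIso ⟨by simp⟩
    rw [hF.comp_openImmersion, hF.preimage h1, hF.preimage (isPullback_morphismRestrict f (V x)).flip]
    ext w
    show (W x).ι w ∈ F f ↔ (j ≫ 𝟙 _ ≫ (f ⁻¹ᵁ V x).ι) w ∈ F f
    rw [Category.id_comp, Scheme.homOfLE_ι]
  rw [e]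
  exact hF.isLocallyConstructible_spec φ

omit hF

/-- The points at which the fibre is smooth over the residue field. -/
def smoothFib (f : X ⟶ S) : Set X :=
  {x | ((f.fiberToSpecResidueField (f x)).stalkMap (f.asFiber x)).hom.FormallySmooth}

theorem mem_smoothFib_iff (f : X ⟶ S) (s : S)
    [LocallyOfFinitePresentation (f.fiberToSpecResidueField s)] (z : ↥(f.fiber s)) :
    z ∈ (f.fiberToSpecResidueField s).smoothLocus ↔ f.fiberι s z ∈ smoothFib f := by
  have hy : f (f.fiberι s z) = s := (f.range_fiberι s).subset ⟨z, rfl⟩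
  generalize hx : f.fiberι s z = x at hy ⊢
  subst hy
  obtain rfl : z = f.asFiber x := (f.fiberι (f x)).isEmbedding.injective (hx.trans (f.fiberι_asFiber x).symm)
  rfl

theorem lfp_fiberToSpec (f : X ⟶ S) [LocallyOfFiniteType f] (s : S) :
    LocallyOfFinitePresentation (f.fiberToSpecResidueField s) := by
  haveI : LocallyOfFiniteType (f.fiberToSpecResidueField s) := MorphismProperty.pullback_snd _ _ ‹_›
  exact ConsEngine.lfp_of_lft _

/-- Fibrewise smoothness for a flat morphism is smoothness. -/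
theorem smoothFib_eq_of_flat (f : X ⟶ S) [Flat f] [LocallyOfFinitePresentation f] :
    smoothFib f = (f.smoothLocus : Set X) := by
  ext x
  haveI := lfp_fiberToSpec f (f x)
  constructor
  · intro h
    exact SmDesc.mem_smoothLocus_of_flat_fibre (f.asFiber x) (f.fiberι_asFiber x) h
  · intro h
    exact SmDesc.preimage_smoothLocus_le (IsPullback.of_hasPullback f (S.fromSpecResidueField (f x)))
      (show f.fiberι (f x) (f.asFiber x) ∈ f.smoothLocus by rw [Scheme.Hom.fiberι_asFiber]; exact h)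

theorem isFibreLocus_smoothFib : IsFibreLocus.{u} @smoothFib := by
  refine ⟨fun {X S X' S' f} _ {f' g' g} hc => ?_, fun {W X S} j _ f _ => ?_, fun {X S} f _ _ => ?_⟩
  · ext x'
    haveI : LocallyOfFiniteType f' := MorphismProperty.of_isPullback (P := @LocallyOfFiniteType) hc ‹_›
    haveI := lfp_fiberToSpec f (g (f' x'))
    haveI := lfp_fiberToSpec f' (f' x')
    haveI : Flat (Spec.map (g.residueFieldMap (f' x'))) :=
      Flat.SpecMap_iff.2 (RingHom.Flat.of_isField (Field.toIsField _) _)
    let z := ConsEngine.fiberBC hc (f' x') (f'.asFiber x')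
    have hz : f.fiberι (g (f' x')) z = g' x' := by
      rw [← Scheme.Hom.comp_apply, ConsEngine.fiberBC_fiberι, Scheme.Hom.comp_apply, Scheme.Hom.fiberι_asFiber]
    have hy : f (g' x') = g (f' x') := by
      rw [← hz]
      exact (f.range_fiberι _).subset ⟨z, rfl⟩
    have key : z ∈ (f.fiberToSpecResidueField (g (f' x'))).smoothLocus ↔ g' x' ∈ smoothFib f := by
      rw [← hz]; exact mem_smoothFib_iff f _ z
    show x' ∈ smoothFib f' ↔ g' x' ∈ smoothFib f
    rw [← key]
    exact (iff_of_eq (congrArg (fun U : TopologicalSpace.Opens _ => f'.asFiber x' ∈ U)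
      (SmDesc.smoothLocus_eq_preimage (ConsEngine.isPullback_fiberBC hc (f' x')) (Or.inr inferInstance))) :)
  · ext w
    haveI := lfp_fiberToSpec f ((j ≫ f) w)
    haveI := lfp_fiberToSpec (j ≫ f) ((j ≫ f) w)
    haveI : IsOpenImmersion (MoreMor.fiberMap j f ((j ≫ f) w)) :=
      MorphismProperty.of_isPullback (P := @IsOpenImmersion) (ConsEngine.isPullback_fiberMap j f _) ‹_›
    let z := MoreMor.fiberMap j f ((j ≫ f) w) ((j ≫ f).asFiber w)
    have hz : f.fiberι ((j ≫ f) w) z = j w := by
      rw [← Scheme.Hom.comp_apply, ConsEngine.fiberMap_fiberι, Scheme.Hom.comp_apply, Scheme.Hom.fiberι_asFiber]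
    have key : z ∈ (f.fiberToSpecResidueField ((j ≫ f) w)).smoothLocus ↔ j w ∈ smoothFib f := by
      rw [← hz]; exact mem_smoothFib_iff f _ z
    show ((((j ≫ f).fiberToSpecResidueField _).stalkMap _).hom.FormallySmooth) ↔ _
    rw [Set.mem_preimage, ← key]
    have h1 := Scheme.Hom.preimage_smoothLocus_eq (MoreMor.fiberMap j f ((j ≫ f) w))
      (f.fiberToSpecResidueField ((j ≫ f) w))
    have h2 : MoreMor.fiberMap j f ((j ≫ f) w) ≫ f.fiberToSpecResidueField ((j ≫ f) w) =
        (j ≫ f).fiberToSpecResidueField ((j ≫ f) w) := ConsEngine.fiberMap_toSpec j f _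
    simp only [h2] at h1
    exact (iff_of_eq (congrArg (fun U : TopologicalSpace.Opens _ => (j ≫ f).asFiber w ∈ U) h1.symm) :)
  · rw [smoothFib_eq_of_flat f]
    exact f.smoothLocus.2

end Groth.Agent.FibDepth
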