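import Groth.Agent.GeomProp.SmoothPoint
import Groth.Agent.GeomProp.SchemeGeom
import Groth.Agent.CDivNormal.Primes
import Groth.Agent.SmLocalST.EtReg
import Groth.Prelude.Def_FDesc
import Groth.Prelude.Def_CAlg

/-!
# The geometric condition `(R_j)` and the smooth locus
-/

set_option autoImplicit false
set_option linter.style.haveILetI false
set_option backward.isDefEq.respectTransparency false

universe u

open CategoryTheory AlgebraicGeometry Limits
open scoped TensorProduct

attribute [local instance] Curv2.stalkAlgebra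

namespace Groth.Agent.FibDepth

/-- The local ring at a generisation is a localisation of the local ring. -/
theorem nonempty_localization_genPrime {X : Scheme.{u}} {x y : X} (h : x ⤳ y) :
    Nonempty (Localization.AtPrime (CDivNormal.genPrime h) ≃+* X.presheaf.stalk x) := by
  obtain ⟨U, hU, hyU, -⟩ := exists_isAffineOpen_mem_and_subset (x := y) (U := (⊤ : X.Opens)) trivial
  have hxU : x ∈ U := h.mem_open U.2 hyU
  letI : Algebra Γ(X, U) (X.presheaf.stalk y) := (X.presheaf.germ U y hyU).hom.toAlgebra
  letI : Algebra Γ(X, U) (X.presheaf.stalk x) := (X.presheaf.germ U x hxU).hom.toAlgebra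
  haveI : IsLocalization.AtPrime (X.presheaf.stalk y) (hU.primeIdealOf ⟨y, hyU⟩).asIdeal :=
    hU.isLocalization_stalk ⟨y, hyU⟩
  haveI : IsLocalization.AtPrime (X.presheaf.stalk x) (hU.primeIdealOf ⟨x, hxU⟩).asIdeal :=
    hU.isLocalization_stalk ⟨x, hxU⟩
  let L := Localization.AtPrime (CDivNormal.genPrime h)
  haveI : IsLocalization.AtPrime L ((CDivNormal.genPrime h).comap (algebraMap Γ(X, U) (X.presheaf.stalk y))) :=
    IsLocalization.isLocalization_isLocalization_atPrime_isLocalization
      (hU.primeIdealOf ⟨y, hyU⟩).asIdeal.primeCompl L (CDivNormal.genPrime h)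
  have he : (CDivNormal.genPrime h).comap (algebraMap Γ(X, U) (X.presheaf.stalk y)) =
      (hU.primeIdealOf ⟨x, hxU⟩).asIdeal := Ideal.ext fun a => CDivNormal.germ_mem_genPrime h hU hyU a
  haveI : IsLocalization.AtPrime L (hU.primeIdealOf ⟨x, hxU⟩).asIdeal := by
    convert ‹IsLocalization.AtPrime L ((CDivNormal.genPrime h).comap _)› using 2
    exact he.symm
  exact ⟨(IsLocalization.algEquiv (hU.primeIdealOf ⟨x, hxU⟩).asIdeal.primeCompl L
    (X.presheaf.stalk x)).toRingEquiv⟩

/-- The condition `(R_j)` of a stalk, through generisations. -/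
theorem hasRk_stalk_iff {X : Scheme.{u}} (j : ℕ) (y : X) :
    LocCoh.HasRk j (X.presheaf.stalk y) ↔ ∀ x : X, x ⤳ y →
      ringKrullDim (X.presheaf.stalk x) ≤ (j : WithBot ℕ∞) → IsRegularLocalRing (X.presheaf.stalk x) := by
  constructor
  · intro H x h hd
    obtain ⟨e⟩ := nonempty_localization_genPrime h
    haveI : IsRegularLocalRing (Localization.AtPrime (CDivNormal.genPrime h)) := H _ (by
      have h1 := IsLocalization.AtPrime.ringKrullDim_eq_height (CDivNormal.genPrime h)
        (Localization.AtPrime (CDivNormal.genPrime h))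
      rw [ringKrullDim_eq_of_ringEquiv e] at h1
      rw [h1] at hd
      exact_mod_cast hd)
    exact IsRegularLocalRing.of_ringEquiv e
  · intro H p _ hp
    obtain ⟨x, h, rfl⟩ := CDivNormal.exists_genPrime_eq y p
    obtain ⟨e⟩ := nonempty_localization_genPrime h
    haveI : IsRegularLocalRing (X.presheaf.stalk x) := H x h (by
      rw [← ringKrullDim_eq_of_ringEquiv e,
        IsLocalization.AtPrime.ringKrullDim_eq_height (CDivNormal.genPrime h)
          (Localization.AtPrime (CDivNormal.genPrime h))]
      exact_mod_cast hp)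
    exact IsRegularLocalRing.of_ringEquiv e.symm

/-- A finite extension of the field does not raise the dimension of local rings. -/
theorem ringKrullDim_bc_stalk_le (k : Type u) [Field k] (X : Scheme.{u}) [X.Over (Spec (CommRingCat.of k))]
    (K : Type u) [Field K] [Algebra k K] [Module.Finite k K] (x' : Curv2.bc k X K) :
    ringKrullDim ((Curv2.bc k X K).presheaf.stalk x') ≤
      ringKrullDim (X.presheaf.stalk (Curv2.bcFst k X K x')) := by
  obtain ⟨Q, hQ, -, ⟨g⟩⟩ := (GeomProp.bc_stalks k X K (Curv2.bcFst k X K x')).1 x' rfl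
  let A : Type u := X.presheaf.stalk (Curv2.bcFst k X K x')
  haveI : Algebra.IsIntegral A (A ⊗[k] K) := inferInstance
  rw [← ringKrullDim_eq_of_ringEquiv g, IsLocalization.AtPrime.ringKrullDim_eq_height Q (Localization.AtPrime Q)]
  refine le_trans ?_ (Order.krullDim_le_of_strictMono (PrimeSpectrum.comap (algebraMap A (A ⊗[k] K)))
    fun a b h => ?_)
  · exact Ideal.height_le_ringKrullDim_of_ne_top hQ.ne_top
  · exact Ideal.IsIntegral.comap_lt_comap (show a.asIdeal < b.asIdeal from h)

variable {k : Type u} [Field k] {X : Scheme.{u}} (p : X ⟶ Spec (CommRingCat.of k)) [LocallyOfFinitePresentation p]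

/-- All generisations of small codimension are smooth points. -/
def GoodAt (j : ℕ) (x : X) : Prop :=
  ∀ z : X, z ⤳ x → ringKrullDim (X.presheaf.stalk z) ≤ (j : WithBot ℕ∞) → z ∈ p.smoothLocus

omit [LocallyOfFinitePresentation p] in
theorem flat_bcπ (K : Type u) [Field K] [Algebra k K] : Flat (FBase.bcπ p K) := by
  haveI := GeomProp.flat_specMap_field k K
  exact MorphismProperty.pullback_fst (P := @Flat) _ _ inferInstance

/-- Smoothness in small codimension gives the geometric condition `(R_j)`. -/
theorem hasRk_bc_of_goodAt {j : ℕ} {x : X} (h : GoodAt p j x) (K : Type u) [Field K] [Algebra k K]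
    (x' : ↥(FBase.bc p K)) (hx' : FBase.bcπ p K x' = x) :
    LocCoh.HasRk j ((FBase.bc p K).presheaf.stalk x') := by
  rw [hasRk_stalk_iff]
  intro z' hz' hd
  haveI := flat_bcπ p K
  haveI : LocallyOfFinitePresentation (FBase.bcStr p K) :=
    MorphismProperty.pullback_snd (P := @LocallyOfFinitePresentation) _ _ inferInstance
  letI : Algebra (X.presheaf.stalk (FBase.bcπ p K z')) ((FBase.bc p K).presheaf.stalk z') :=
    ((FBase.bcπ p K).stalkMap z').hom.toAlgebra
  haveI : IsLocalHom (algebraMap (X.presheaf.stalk (FBase.bcπ p K z')) ((FBase.bc p K).presheaf.stalk z')) :=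
    inferInstanceAs (IsLocalHom ((FBase.bcπ p K).stalkMap z').hom)
  haveI : Module.Flat (X.presheaf.stalk (FBase.bcπ p K z')) ((FBase.bc p K).presheaf.stalk z') :=
    Flat.stalkMap (FBase.bcπ p K) z'
  have hz := h _ (hx' ▸ hz'.map (FBase.bcπ p K).continuous)
    ((SmLocalST.ringKrullDim_le_of_flat_local _ _).trans hd)
  exact GeomProp.regular_stalk_of_mem_smoothLocus (FBase.bcStr p K)
    (SmDesc.preimage_smoothLocus_le (IsPullback.of_hasPullback p (Spec.map (CommRingCat.ofHom (algebraMap k K)))) hz)

/-- The geometric condition `(R_j)` on finite extensions gives smoothness in small codimension. -/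
theorem goodAt_of_hasRk_bc {j : ℕ} {x : X}
    (h : ∀ (K : Type u) [Field K] [Algebra k K], Module.Finite k K → ∀ x' : ↥(FBase.bc p K),
      FBase.bcπ p K x' = x → LocCoh.HasRk j ((FBase.bc p K).presheaf.stalk x')) :
    GoodAt p j x := by
  intro z hz hd
  letI : X.Over (Spec (CommRingCat.of k)) := ⟨p⟩
  haveI : LocallyOfFinitePresentation (X ↘ Spec (CommRingCat.of k)) := ‹LocallyOfFinitePresentation p›
  haveI : IsLocallyNoetherian X := LocallyOfFiniteType.isLocallyNoetherian p
  refine (GeomProp.isGeomRegularAt_iff_mem_smoothLocus k X z).1 ?_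
  rw [GeomProp.isGeomRegularAt_iff_pi]
  intro K _ _ _ _ z' hz'
  haveI : IsFinite (Curv2.bcFst k X K) := by
    haveI : IsFinite (Spec.map (CommRingCat.ofHom (algebraMap k K))) :=
      (IsFinite.SpecMap_iff _).2 (RingHom.finite_algebraMap.2 inferInstance)
    exact MorphismProperty.pullback_fst (P := @IsFinite) _ _ inferInstance
  obtain ⟨x', hx'c, hx'⟩ : ∃ x', z' ⤳ x' ∧ Curv2.bcFst k X K x' = x := by
    have hcl : IsClosed (Curv2.bcFst k X K '' closure {z'}) := (Curv2.bcFst k X K).isClosedMap _ isClosed_closure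
    obtain ⟨x', hx', hx'x⟩ := hz.mem_closed hcl ⟨z', subset_closure rfl, hz'⟩
    exact ⟨x', specializes_iff_mem_closure.2 hx', hx'x⟩
  refine (hasRk_stalk_iff j x').1 (h K inferInstance x' hx') z' hx'c (le_trans ?_ hd)
  subst hz'
  exact ringKrullDim_bc_stalk_le k X K z'

/-- The geometric condition `(R_j)`, tested on finite extensions or on all extensions. -/
theorem goodAt_iff_finite (j : ℕ) (x : X) :
    (∀ (K : Type u) [Field K] [Algebra k K], Module.Finite k K → ∀ x' : ↥(FBase.bc p K),
      FBase.bcπ p K x' = x → LocCoh.HasRk j ((FBase.bc p K).presheaf.stalk x')) ↔ GoodAt p j x :=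
  ⟨goodAt_of_hasRk_bc p, fun h K _ _ _ x' hx' => hasRk_bc_of_goodAt p h K x' hx'⟩

/-- The geometric condition `(R_j)` on all extensions. -/
theorem goodAt_iff (j : ℕ) (x : X) :
    (∀ (K : Type u) [Field K] [Algebra k K] (x' : ↥(FBase.bc p K)),
      FBase.bcπ p K x' = x → LocCoh.HasRk j ((FBase.bc p K).presheaf.stalk x')) ↔ GoodAt p j x :=
  ⟨fun h => goodAt_of_hasRk_bc p fun K _ _ _ => h K, fun h K _ _ x' hx' => hasRk_bc_of_goodAt p h K x' hx'⟩

end Groth.Agent.FibDepth
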