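import Groth.Agent.FibDepth.Global
import Groth.Agent.FibDepth.SkOpen

/-!
# Openness of conditions of Serre along the fibres of a morphism
-/

set_option autoImplicit false
set_option linter.style.haveILetI false
set_option backward.isDefEq.respectTransparency false

universe u

open IsLocalRing TensorProduct CategoryTheory AlgebraicGeometry

namespace Groth.Agent.FibDepth

variable {X Y : Scheme.{u}}

/-- Glueing conditions on points of fibres. -/
theorem exists_open_of_charts (f : X ⟶ Y) (C : ∀ y, ↥(f.fiber y) → Prop)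
    (h : ∀ x : X, ∃ W : X.Opens, x ∈ W ∧ ∃ O : Set X, IsOpen O ∧ ∀ (y : Y) (z : ↥(f.fiber y)), f.fiberι y z ∈ W →
      (f.fiberι y z ∈ O ↔ C y z)) :
    ∃ O : Set X, IsOpen O ∧ ∀ (y : Y) (z : ↥(f.fiber y)), f.fiberι y z ∈ O ↔ C y z := by
  choose W hxW O hO hO' using h
  refine ⟨⋃ x, (W x : Set X) ∩ O x, isOpen_iUnion fun x => (W x).2.inter (hO x), fun y z => ⟨fun h => ?_, fun h => ?_⟩⟩
  · obtain ⟨x, h1, h2⟩ := Set.mem_iUnion.1 h
    exact (hO' x y z h1).1 h2
  · exact Set.mem_iUnion.2 ⟨_, hxW _, (hO' _ y z (hxW _)).2 h⟩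

theorem isOpen_setOf_of_fibres (f : X ⟶ Y) {C : ∀ y, ↥(f.fiber y) → Prop} {O : Set X} (hO : IsOpen O)
    (h : ∀ (y : Y) (z : ↥(f.fiber y)), f.fiberι y z ∈ O ↔ C y z) : IsOpen {x : X | C (f x) (f.asFiber x)} := by
  convert hO using 1
  ext x
  exact (h _ _).symm.trans (iff_of_eq (congrArg (· ∈ O) (f.fiberι_asFiber x)))

theorem isOpen_forall_of_fibres (f : X ⟶ Y) [UniversallyClosed f] {C : ∀ y, ↥(f.fiber y) → Prop} {O : Set X}
    (hO : IsOpen O) (h : ∀ (y : Y) (z : ↥(f.fiber y)), f.fiberι y z ∈ O ↔ C y z) :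
    IsOpen {y : Y | ∀ z, C y z} := by
  have heq : {y : Y | ∀ z, C y z} = (f '' Oᶜ)ᶜ := by
    ext y
    constructor
    · rintro hy ⟨x, hx, rfl⟩
      exact hx (by rw [← f.fiberι_asFiber x]; exact (h _ _).2 (hy _))
    · intro hy z
      refine (h y z).1 (by_contra fun hz => hy ⟨_, hz, ?_⟩)
      exact (f.range_fiberι y).subset ⟨z, rfl⟩
  rw [heq]
  exact (f.isClosedMap _ hO.isClosed_compl).isOpen_compl

theorem continuous_chartPrime {V : Y.Opens} {W : X.Opens} (hW : IsAffineOpen W) {n : ℕ}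
    (σ : MvPolynomial (Fin n) Γ(Y, V) →+* Γ(X, W)) :
    Continuous fun w : ↥W => chartPrime hW σ w.1 w.2 := by
  have h1 : Continuous fun w : ↥W => hW.primeIdealOf ⟨w.1, w.2⟩ := by
    rw [hW.fromSpec.isOpenEmbedding.isInducing.continuous_iff]
    exact continuous_subtype_val.congr fun w => (hW.fromSpec_primeIdealOf ⟨w.1, w.2⟩).symm
  exact (PrimeSpectrum.continuous_comap σ).comp h1

/-- An open set of a chart. -/
theorem exists_open_chart {V : Y.Opens} {W : X.Opens} (hW : IsAffineOpen W) {n : ℕ}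
    (σ : MvPolynomial (Fin n) Γ(Y, V) →+* Γ(X, W)) {O : Set (PrimeSpectrum (MvPolynomial (Fin n) Γ(Y, V)))}
    (hO : IsOpen O) :
    ∃ O' : Set X, IsOpen O' ∧ ∀ (x : X) (hx : x ∈ W), x ∈ O' ↔ chartPrime hW σ x hx ∈ O :=
  ⟨Subtype.val '' ((fun w : ↥W => chartPrime hW σ w.1 w.2) ⁻¹' O),
    W.2.isOpenMap_subtype_val _ (hO.preimage (continuous_chartPrime hW σ)), fun x hx =>
      ⟨fun ⟨w, hw, hwx⟩ => by obtain rfl : w = ⟨x, hx⟩ := Subtype.ext hwx; exact hw, fun h => ⟨⟨x, hx⟩, h, rfl⟩⟩⟩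

/-- Serre's condition of the fibre module at a point. -/
def SkAtPt (f : X ⟶ Y) (F : X.Modules) (k : ℕ) (y : Y) (z : ↥(f.fiber y)) : Prop :=
  EGA4.IsEquidimModule ((f.fiber y).presheaf.stalk z)
      (((Scheme.Modules.pullback (f.fiberι y)).obj F).presheaf.stalk z) ∧
    LocCoh.HasSk k ((f.fiber y).presheaf.stalk z)
      (((Scheme.Modules.pullback (f.fiberι y)).obj F).presheaf.stalk z)

theorem exists_open_equiSk (f : X ⟶ Y) [LocallyOfFinitePresentation f] (F : X.Modules) (hF : CohB1.IsFP F)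
    (hflat : FlatMod.IsFlatOver f F) (k : ℕ) (hk : 1 ≤ k) :
    ∃ O : Set X, IsOpen O ∧ ∀ (y : Y) (z : ↥(f.fiber y)), f.fiberι y z ∈ O ↔ SkAtPt f F k y z := by
  refine exists_open_of_charts f _ fun x => ?_
  have hq := isQCoh_of_isFP hF
  obtain ⟨V, W, hV, hW, hxW, e, -⟩ := Unibranch.exists_chart_le f (U := ⊤) (x := x) trivial
  letI : Algebra Γ(Y, V) Γ(X, W) := (f.appLE V W e).hom.toAlgebra
  haveI : Algebra.FinitePresentation Γ(Y, V) Γ(X, W) := f.finitePresentation_appLE hV hW e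
  obtain ⟨n, π, hπ, hker⟩ := Algebra.FinitePresentation.out (R := Γ(Y, V)) (A := Γ(X, W))
  let P := MvPolynomial (Fin n) Γ(Y, V)
  let σ : P →+* Γ(X, W) := π.toRingHom
  have hσC : ∀ a, σ (MvPolynomial.C a) = (f.appLE V W e).hom a := fun a => π.commutes a
  letI : Algebra P Γ(X, W) := σ.toAlgebra
  letI := chartModule F σ
  haveI : IsScalarTower P Γ(X, W) Γ(F, W) := IsScalarTower.of_algebraMap_smul fun _ _ => rfl
  haveI : Module.Finite P Γ(X, W) := Module.Finite.of_surjective (Algebra.linearMap P Γ(X, W)) hπ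
  haveI : Module.FinitePresentation P Γ(X, W) :=
    Module.finitePresentation_of_surjective (Algebra.linearMap P Γ(X, W)) hπ hker
  haveI := LocFree.finitePresentation_sections_of_isFP hq hF hW
  haveI : Module.FinitePresentation P Γ(F, W) := Module.FinitePresentation.trans P Γ(F, W) Γ(X, W)
  letI := FlatModB.secModule f F W V e
  haveI : Module.Flat Γ(Y, V) Γ(F, W) := (FlatModB.flat_sections_iff f F hq hW hV e).2 fun x _ => hflat x
  haveI : IsScalarTower Γ(Y, V) P Γ(F, W) := IsScalarTower.of_algebraMap_smul fun a m => by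
    show σ (MvPolynomial.C a) • m = (f.appLE V W e).hom a • m
    rw [hσC]
  obtain ⟨O, hO, hO'⟩ := exists_open_chart hW σ (isOpen_equiSkSet (A := Γ(Y, V)) (n := n) Γ(F, W) k)
  refine ⟨W, hxW, O, hO, fun y z hz => ?_⟩
  obtain ⟨-, -, h3, h4⟩ := fibre_stalk_eq f F hq hV hW e σ hπ hσC inferInstance y z hz
  rw [hO' _ hz, SkAtPt, h3 k, h4, equidim_sk_iff Γ(F, W) k hk]

/-- Points in the flat locus with Serre's condition in the fibre. -/
theorem exists_open_flat_sk (f : X ⟶ Y) [LocallyOfFinitePresentation f] (k : ℕ) :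
    ∃ O : Set X, IsOpen O ∧ ∀ (y : Y) (z : ↥(f.fiber y)), f.fiberι y z ∈ O ↔
      (f.stalkMap (f.fiberι y z)).hom.Flat ∧
        LocCoh.HasSk k ((f.fiber y).presheaf.stalk z) ((f.fiber y).presheaf.stalk z) := by
  have hloc : ∀ x ∈ FibreFlat.flatOpen f, ∃ W : X.Opens, x ∈ W ∧ W ≤ FibreFlat.flatOpen f ∧ ∃ O : Set X, IsOpen O ∧
      ∀ (y : Y) (z : ↥(f.fiber y)), f.fiberι y z ∈ W →
        (f.fiberι y z ∈ O ↔ LocCoh.HasSk k ((f.fiber y).presheaf.stalk z) ((f.fiber y).presheaf.stalk z)) := by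
    intro x hx
    obtain ⟨V, W, hV, hW, hxW, e, hWU⟩ := Unibranch.exists_chart_le f (U := FibreFlat.flatOpen f) (x := x) hx
    letI : Algebra Γ(Y, V) Γ(X, W) := (f.appLE V W e).hom.toAlgebra
    haveI : Module.Flat Γ(Y, V) Γ(X, W) := flat_of_le_flatOpen f hV hW e fun x hx => hWU hx
    haveI : Algebra.FinitePresentation Γ(Y, V) Γ(X, W) := f.finitePresentation_appLE hV hW e
    obtain ⟨n, π, hπ, hker⟩ := Algebra.FinitePresentation.out (R := Γ(Y, V)) (A := Γ(X, W))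
    let P := MvPolynomial (Fin n) Γ(Y, V)
    let σ : P →+* Γ(X, W) := π.toRingHom
    letI : Algebra P Γ(X, W) := σ.toAlgebra
    haveI : IsScalarTower Γ(Y, V) P Γ(X, W) := IsScalarTower.of_algebraMap_eq fun a => (π.commutes a).symm
    haveI : Module.Finite P Γ(X, W) := Module.Finite.of_surjective (Algebra.linearMap P Γ(X, W)) hπ
    haveI : Module.FinitePresentation P Γ(X, W) :=
      Module.finitePresentation_of_surjective (Algebra.linearMap P Γ(X, W)) hπ hker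
    obtain ⟨O, hO, hO'⟩ := exists_open_chart hW σ (isOpen_skSet (A := Γ(Y, V)) (n := n) Γ(X, W) k)
    refine ⟨W, hxW, hWU, O, hO, fun y z hz => ?_⟩
    obtain ⟨-, -, h3⟩ := fibre_ring_eq f hV hW e σ hπ (fun a => π.commutes a) inferInstance y z hz
    rw [hO' _ hz, h3 k, hasSk_fibM_iff Γ(X, W) k]
  choose W hxW hWU O hO hO' using hloc
  refine ⟨⋃ x, ⋃ hx, (W x hx : Set X) ∩ O x hx,
    isOpen_iUnion fun x => isOpen_iUnion fun hx => (W x hx).2.inter (hO x hx), fun y z => ⟨fun h => ?_, fun h => ?_⟩⟩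
  · simp only [Set.mem_iUnion] at h
    obtain ⟨x, hx, h1, h2⟩ := h
    exact ⟨hWU x hx h1, (hO' x hx y z h1).1 h2⟩
  · simp only [Set.mem_iUnion]
    exact ⟨_, h.1, hxW _ h.1, (hO' _ h.1 y z (hxW _ h.1)).2 h.2⟩

end Groth.Agent.FibDepth
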