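import Groth.Agent.FibDepth.ConsLoci
import Groth.Agent.FibDepth.GlobalSk

/-!
# Constructibility along the fibres of a morphism locally of finite presentation
-/

set_option autoImplicit false
set_option linter.style.haveILetI false
set_option backward.isDefEq.respectTransparency false

universe u

open IsLocalRing CategoryTheory AlgebraicGeometry Topology

namespace Groth.Agent.FibDepth

variable {X Y : Scheme.{u}}

/-- A condition read off constructible sets of spectra of polynomial rings on charts is locally constructible. -/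
theorem isLocallyConstructible_of_charts {S : Set X}
    (h : ∀ x : X, ∃ (V : Y.Opens) (W : X.Opens) (hW : IsAffineOpen W) (n : ℕ)
      (σ : MvPolynomial (Fin n) Γ(Y, V) →+* Γ(X, W)) (T : Set (PrimeSpectrum (MvPolynomial (Fin n) Γ(Y, V)))),
      x ∈ W ∧ IsConstructible T ∧ ∀ (x' : X) (hx' : x' ∈ W), x' ∈ S ↔ chartPrime hW σ x' hx' ∈ T) :
    IsLocallyConstructible S := by
  intro x
  obtain ⟨V, W, hW, n, σ, T, hxW, hT, hiff⟩ := h x
  refine ⟨(W : Set X), W.2.mem_nhds hxW, W.2, ?_⟩
  have h1 := (isConstructible_preimage_comap σ hT).preimage_of_isOpenEmbedding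
    (f := fun w : ↥W => hW.primeIdealOf w) hW.isoSpec.hom.isOpenEmbedding
  have h2 : (Subtype.val ⁻¹' S : Set ↥W) =
      (fun w : ↥W => hW.primeIdealOf w) ⁻¹' (PrimeSpectrum.comap σ ⁻¹' T) := Set.ext fun w => hiff w.1 w.2
  rw [← h2] at h1
  exact h1

/-- The level sets of the codepth of the fibres are locally constructible. -/
theorem isLocallyConstructible_codepth_eq (f : X ⟶ Y) [LocallyOfFinitePresentation f] (k : ℕ) :
    IsLocallyConstructible {x : X |
      ringKrullDim ((f.fiber (f x)).presheaf.stalk (f.asFiber x)) =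
        ((LocCoh.depth ((f.fiber (f x)).presheaf.stalk (f.asFiber x))
          ((f.fiber (f x)).presheaf.stalk (f.asFiber x)) : ℕ∞) : WithBot ℕ∞) + k} := by
  refine isLocallyConstructible_of_charts (Y := Y) fun x => ?_
  obtain ⟨V, W, hV, hW, hxW, e, -⟩ := Unibranch.exists_chart_le f (U := ⊤) (x := x) trivial
  letI : Algebra Γ(Y, V) Γ(X, W) := (f.appLE V W e).hom.toAlgebra
  haveI : Algebra.FinitePresentation Γ(Y, V) Γ(X, W) := f.finitePresentation_appLE hV hW e
  obtain ⟨n, π, hπ, hker⟩ := Algebra.FinitePresentation.out (R := Γ(Y, V)) (A := Γ(X, W))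
  let A := Γ(Y, V)
  let P := MvPolynomial (Fin n) A
  let σ : P →+* Γ(X, W) := π.toRingHom
  letI : Algebra P Γ(X, W) := σ.toAlgebra
  haveI : Module.Finite P Γ(X, W) := Module.Finite.of_surjective (Algebra.linearMap P Γ(X, W)) hπ
  haveI : Module.FinitePresentation P Γ(X, W) :=
    Module.finitePresentation_of_surjective (Algebra.linearMap P Γ(X, W)) hπ hker
  let C : ℕ → Set (PrimeSpectrum P) := fun j => {Q | Module.supportDim (FibQ A Q.asIdeal) (FibM A Q.asIdeal Γ(X, W)) ≤
      (LocCoh.depth (FibQ A Q.asIdeal) (FibM A Q.asIdeal Γ(X, W)) : WithBot ℕ∞) + (j : WithBot ℕ∞)}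
  let D : Set (PrimeSpectrum P) := Module.support P Γ(X, W)
  refine ⟨V, W, hW, n, σ, {Q | Module.supportDim (FibQ A Q.asIdeal) (FibM A Q.asIdeal Γ(X, W)) =
      (LocCoh.depth (FibQ A Q.asIdeal) (FibM A Q.asIdeal Γ(X, W)) : WithBot ℕ∞) + (k : WithBot ℕ∞) ∧ Q ∈ D},
    hxW, ?_, fun x' hx' => ?_⟩
  · have hD : IsConstructible D := by
      have h := (isConstructible_rect_eq (A := A) (n := n) Γ(X, W) ⊤).compl
      convert h using 1
      ext Q
      haveI := isRegularLocalRing_fibQ Q.asIdeal
      have h0 := subsingleton_fibM_iff A Q.asIdeal Γ(X, W)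
      rcases supportDim_depth_cases (ringKrullDim_fibQ Q.asIdeal) (FibM A Q.asIdeal Γ(X, W)) with ⟨h1, h2⟩ | ⟨a, b, h1, h2⟩
      · show Q ∈ Module.support P Γ(X, W) ↔ ¬ (_ = ⊤)
        rw [h2, top_add]
        refine iff_of_false ?_ (fun hn => hn rfl)
        exact h0.1 ((Module.supportDim_eq_bot_iff_subsingleton _ _).1 h1)
      · show Q ∈ Module.support P Γ(X, W) ↔ ¬ (_ = ⊤)
        rw [h2, ← Nat.cast_add]
        refine iff_of_true ?_ (ENat.natCast_ne_top _)
        by_contra hQ
        rw [(Module.supportDim_eq_bot_iff_subsingleton _ _).2 (h0.2 hQ)] at h1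
        exact WithBot.natCast_ne_bot a h1.symm
    cases k with
    | zero =>
      convert (isConstructible_cpSet (A := A) (n := n) Γ(X, W) 0).inter hD using 1
      ext Q
      simp only [Set.mem_inter_iff, Set.mem_ofPred_eq, and_congr_left_iff]
      intro hQ
      show _ ↔ ((_ : WithBot ℕ∞) ≤ _)
      haveI := isRegularLocalRing_fibQ Q.asIdeal
      rcases supportDim_depth_cases (ringKrullDim_fibQ Q.asIdeal) (FibM A Q.asIdeal Γ(X, W)) with ⟨h1, -⟩ | ⟨a, b, h1, h2⟩
      · exact absurd hQ ((subsingleton_fibM_iff A Q.asIdeal Γ(X, W)).1 ((Module.supportDim_eq_bot_iff_subsingleton _ _).1 h1))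
      · have h4 := InvFin.depth_le_supportDim (FibM A Q.asIdeal Γ(X, W)) h1
        rw [h2] at h4
        rw [h1, h2]
        rw [WithBot.coe_natCast]
        norm_cast at h4 ⊢
        omega
    | succ j =>
      convert ((isConstructible_cpSet (A := A) (n := n) Γ(X, W) (j + 1)).sdiff
        (isConstructible_cpSet (A := A) (n := n) Γ(X, W) j)).inter hD using 1
      ext Q
      simp only [Set.mem_inter_iff, Set.mem_sdiff, Set.mem_ofPred_eq, and_congr_left_iff]
      intro hQ
      show _ ↔ ((_ : WithBot ℕ∞) ≤ _) ∧ ¬ ((_ : WithBot ℕ∞) ≤ _)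
      haveI := isRegularLocalRing_fibQ Q.asIdeal
      rcases supportDim_depth_cases (ringKrullDim_fibQ Q.asIdeal) (FibM A Q.asIdeal Γ(X, W)) with ⟨h1, -⟩ | ⟨a, b, h1, h2⟩
      · exact absurd hQ ((subsingleton_fibM_iff A Q.asIdeal Γ(X, W)).1 ((Module.supportDim_eq_bot_iff_subsingleton _ _).1 h1))
      · rw [h1, h2, WithBot.coe_natCast]
        norm_cast
        omega
  · have hz : f.fiberι (f x') (f.asFiber x') ∈ W := by rw [f.fiberι_asFiber]; exact hx'
    have hP : chartPrime hW σ x' hx' = chartPrime hW σ _ hz := by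
      unfold chartPrime
      congr 2
      exact Subtype.ext (f.fiberι_asFiber x').symm
    obtain ⟨h1, h2, -⟩ := fibre_ring_eq f hV hW e σ hπ (fun a => π.commutes a) inferInstance (f x') (f.asFiber x') hz
    have hne : chartPrime hW σ _ hz ∈ D := by
      by_contra hD
      have h3 := (Module.supportDim_eq_bot_iff_subsingleton (FibQ A (chartPrime hW σ _ hz).asIdeal)
        (FibM A (chartPrime hW σ _ hz).asIdeal Γ(X, W))).2
        ((subsingleton_fibM_iff A (chartPrime hW σ _ hz).asIdeal Γ(X, W)).2 hD)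
      rw [← h1] at h3
      exact WithBot.coe_ne_bot (a := (0 : ℕ∞)) (le_bot_iff.1 (h3 ▸ ringKrullDim_nonneg_of_nontrivial))
    rw [Set.mem_ofPred_eq, Set.mem_ofPred_eq, h1, h2, hP]
    exact (and_iff_left hne).symm

/-- The loci of Serre's conditions of the fibres are locally constructible. -/
theorem isLocallyConstructible_hasSk (f : X ⟶ Y) [LocallyOfFinitePresentation f] (k : ℕ) :
    IsLocallyConstructible {x : X |
      LocCoh.HasSk k ((f.fiber (f x)).presheaf.stalk (f.asFiber x))
        ((f.fiber (f x)).presheaf.stalk (f.asFiber x))} := by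
  refine isLocallyConstructible_of_charts (Y := Y) fun x => ?_
  obtain ⟨V, W, hV, hW, hxW, e, -⟩ := Unibranch.exists_chart_le f (U := ⊤) (x := x) trivial
  letI : Algebra Γ(Y, V) Γ(X, W) := (f.appLE V W e).hom.toAlgebra
  haveI : Algebra.FinitePresentation Γ(Y, V) Γ(X, W) := f.finitePresentation_appLE hV hW e
  obtain ⟨n, π, hπ, hker⟩ := Algebra.FinitePresentation.out (R := Γ(Y, V)) (A := Γ(X, W))
  let P := MvPolynomial (Fin n) Γ(Y, V)
  let σ : P →+* Γ(X, W) := π.toRingHom
  letI : Algebra P Γ(X, W) := σ.toAlgebra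
  haveI : Module.Finite P Γ(X, W) := Module.Finite.of_surjective (Algebra.linearMap P Γ(X, W)) hπ
  haveI : Module.FinitePresentation P Γ(X, W) :=
    Module.finitePresentation_of_surjective (Algebra.linearMap P Γ(X, W)) hπ hker
  refine ⟨V, W, hW, n, σ, skSet (A := Γ(Y, V)) (n := n) Γ(X, W) k, hxW, isConstructible_skSet _ k, fun x' hx' => ?_⟩
  have hz : f.fiberι (f x') (f.asFiber x') ∈ W := by rw [f.fiberι_asFiber]; exact hx'
  have hP : chartPrime hW σ x' hx' = chartPrime hW σ _ hz := by
    unfold chartPrime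
    congr 2
    exact Subtype.ext (f.fiberι_asFiber x').symm
  obtain ⟨-, -, h3⟩ := fibre_ring_eq f hV hW e σ hπ (fun a => π.commutes a) inferInstance (f x') (f.asFiber x') hz
  rw [Set.mem_ofPred_eq, h3 k, hasSk_fibM_iff Γ(X, W) k, hP]

/-- The level sets of the rectified depth along the fibres are locally constructible. -/
theorem isLocallyConstructible_rect_eq (f : X ⟶ Y) [LocallyOfFinitePresentation f] (F : X.Modules)
    (hF : CohB1.IsFP F) (r : ℕ∞) :
    IsLocallyConstructible {x : X |
      ((LocCoh.depth ((f.fiber (f x)).presheaf.stalk (f.asFiber x))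
        (((Scheme.Modules.pullback (f.fiberι (f x))).obj F).presheaf.stalk (f.asFiber x)) : ℕ∞) : WithBot ℕ∞) +
          topologicalKrullDim ↥(closure ({f.asFiber x} : Set ↥(f.fiber (f x)))) = (r : WithBot ℕ∞)} := by
  refine isLocallyConstructible_of_charts (Y := Y) fun x => ?_
  have hq := isQCoh_of_isFP hF
  obtain ⟨V, W, hV, hW, hxW, e, -⟩ := Unibranch.exists_chart_le f (U := ⊤) (x := x) trivial
  letI : Algebra Γ(Y, V) Γ(X, W) := (f.appLE V W e).hom.toAlgebra
  haveI : Algebra.FinitePresentation Γ(Y, V) Γ(X, W) := f.finitePresentation_appLE hV hW e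
  obtain ⟨n, π, hπ, hker⟩ := Algebra.FinitePresentation.out (R := Γ(Y, V)) (A := Γ(X, W))
  let P := MvPolynomial (Fin n) Γ(Y, V)
  let σ : P →+* Γ(X, W) := π.toRingHom
  letI : Algebra P Γ(X, W) := σ.toAlgebra
  letI := chartModule F σ
  haveI : IsScalarTower P Γ(X, W) Γ(F, W) := IsScalarTower.of_algebraMap_smul fun _ _ => rfl
  haveI : Module.Finite P Γ(X, W) := Module.Finite.of_surjective (Algebra.linearMap P Γ(X, W)) hπ
  haveI : Module.FinitePresentation P Γ(X, W) :=
    Module.finitePresentation_of_surjective (Algebra.linearMap P Γ(X, W)) hπ hker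
  haveI := LocFree.finitePresentation_sections_of_isFP hq hF hW
  haveI : Module.FinitePresentation P Γ(F, W) := Module.FinitePresentation.trans P Γ(F, W) Γ(X, W)
  refine ⟨V, W, hW, n, σ, _, hxW, isConstructible_rect_eq (A := Γ(Y, V)) (n := n) Γ(F, W) r, fun x' hx' => ?_⟩
  have hz : f.fiberι (f x') (f.asFiber x') ∈ W := by rw [f.fiberι_asFiber]; exact hx'
  have hP : chartPrime hW σ x' hx' = chartPrime hW σ _ hz := by
    unfold chartPrime
    congr 2
    exact Subtype.ext (f.fiberι_asFiber x').symm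
  obtain ⟨-, h2, -⟩ := fibre_stalk_eq f F hq hV hW e σ hπ (fun a => π.commutes a) inferInstance (f x') (f.asFiber x') hz
  have hr : Unibranch.rdimIn f hW e (f.fiberι (f x') (f.asFiber x')) hz =
      Unibranch.rdim Γ(Y, V) (chartPrime hW σ _ hz).asIdeal :=
    (rdim_comap_of_surjective π hπ (hW.primeIdealOf ⟨_, hz⟩)).symm
  rw [Set.mem_ofPred_eq, Set.mem_ofPred_eq, dim_closure_fibre f hV hW e (f x') (f.asFiber x') hz, hr, h2, hP]
  norm_cast

end Groth.Agent.FibDepth
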