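import Groth.Agent.FibDepth.ConsFibBound
import Groth.Agent.FibDepth.GlobalCons
import Groth.Agent.FibDepth.AssDims

/-!
# Equidimensionality along the fibres is constructible
-/

set_option autoImplicit false
set_option linter.style.haveILetI false
set_option backward.isDefEq.respectTransparency false

universe u

open IsLocalRing CategoryTheory AlgebraicGeometry Topology

namespace Groth.Agent.FibDepth

/-- All irreducible components through a point have dimension `e` exactly when all minimal points above it do. -/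
theorem components_iff {T : Type u} [TopologicalSpace T] [QuasiSober T] [T0Space T] (z : T) (e : ℕ) :
    (∀ Z ∈ irreducibleComponents T, z ∈ Z → topologicalKrullDim ↥Z = (e : WithBot ℕ∞)) ↔
      ∀ w : T, (∀ v, v ⤳ w → v = w) → w ⤳ z → topologicalKrullDim ↥(closure ({w} : Set T)) = (e : WithBot ℕ∞) := by
  constructor
  · intro h w hw hwz
    refine h _ ⟨isIrreducible_singleton.closure, fun Z hZ hle => ?_⟩ (specializes_iff_mem_closure.1 hwz)
    obtain ⟨v, hv⟩ := QuasiSober.sober hZ.closure isClosed_closure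
    have hvw : v ⤳ w := by
      rw [specializes_iff_mem_closure, hv.def]
      exact subset_closure (hle (subset_closure rfl))
    rw [← hw v hvw, hv.def]
    exact subset_closure
  · intro h Z hZ hzZ
    obtain ⟨w, hw⟩ := QuasiSober.sober hZ.1 (isClosed_of_mem_irreducibleComponents Z hZ)
    rw [← hw.def]
    refine h w (fun v hvw => ?_) (specializes_iff_mem_closure.2 (hw.def.symm ▸ hzZ))
    have hle : Z ⊆ closure {v} := by
      rw [← hw.def]
      exact closure_minimal (Set.singleton_subset_iff.2 (specializes_iff_mem_closure.1 hvw)) isClosed_closure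
    refine (hvw.antisymm ?_).eq
    rw [specializes_iff_mem_closure, hw.def]
    exact hZ.2 isIrreducible_singleton.closure hle (subset_closure rfl)

section Alg

variable {A : Type u} [CommRing A] {n : ℕ} (S : Set (PrimeSpectrum (MvPolynomial (Fin n) A)))

/-- All minimal generisations in the fibre inside `S` have relative dimension `e`, as a bound. -/
theorem minimal_rdim_iff {Q : PrimeSpectrum (MvPolynomial (Fin n) A)} (e : ℕ) :
    (∀ P ∈ S, P.asIdeal ≤ Q.asIdeal → P.asIdeal.under A = Q.asIdeal.under A →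
        (∀ P' ∈ S, P'.asIdeal ≤ P.asIdeal → P'.asIdeal.under A = P.asIdeal.under A → P' = P) →
        Unibranch.rdim A P.asIdeal = e) ↔
      Q ∈ fibBound S (e + 1) ∩ fibBound (S ∩ fibBound S e) 0 := by
  classical
  -- every point lies over a minimal one of larger relative dimension
  have hex : ∀ P ∈ S, ∃ P' ∈ S, P'.asIdeal ≤ P.asIdeal ∧ P'.asIdeal.under A = P.asIdeal.under A ∧
      Unibranch.rdim A P.asIdeal ≤ Unibranch.rdim A P'.asIdeal ∧
      ∀ R ∈ S, R.asIdeal ≤ P'.asIdeal → R.asIdeal.under A = P'.asIdeal.under A → R = P' := by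
    intro P hP
    let p : ℕ → Prop := fun r => ∃ P' ∈ S,
      P'.asIdeal ≤ P.asIdeal ∧ P'.asIdeal.under A = P.asIdeal.under A ∧ Unibranch.rdim A P'.asIdeal = r
    have hp : p (Unibranch.rdim A P.asIdeal) := ⟨P, hP, le_rfl, rfl, rfl⟩
    obtain ⟨P', hP', hle', hu', hr⟩ := Nat.findGreatest_spec (P := p) (rdim_le_card P.asIdeal) hp
    refine ⟨P', hP', hle', hu', hr ▸ Nat.le_findGreatest (P := p) (rdim_le_card P.asIdeal) hp,
      fun R hR hle hu => ?_⟩
    by_contra hne
    have h1 := rdim_strict (lt_of_le_of_ne hle hne) hu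
    have h2 := Nat.le_findGreatest (P := p) (rdim_le_card R.asIdeal) ⟨R, hR, hle.trans hle', hu.trans hu', rfl⟩
    omega
  constructor
  · intro h
    refine ⟨fun P hP hPQ hu => ?_, fun P hP hPQ hu => absurd ?_ (lt_irrefl e)⟩
    · obtain ⟨P', hP', hle', hu', hr, hmin⟩ := hex P hP
      exact Nat.lt_succ_of_le (hr.trans (h P' hP' (hle'.trans hPQ) (hu'.trans hu) hmin).le)
    · obtain ⟨P', hP', hle', hu', -, hmin⟩ := hex P hP.1
      have h1 := hP.2 P' hP' hle' hu'
      rwa [h P' hP' (hle'.trans hPQ) (hu'.trans hu) hmin] at h1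
  · rintro ⟨h1, h2⟩ P hP hPQ hu hmin
    refine le_antisymm (Nat.lt_succ_iff.1 (h1 P hP hPQ hu)) (not_lt.1 fun hlt => Nat.not_lt_zero _
      (h2 P ⟨hP, fun P' hP' hle' hu' => ?_⟩ hPQ hu))
    rw [hmin P' hP' hle' hu']
    exact hlt

end Alg

variable {X Y : Scheme.{u}}

/-- Equidimensionality along the fibres is locally constructible. -/
theorem isLocallyConstructible_equidim (f : X ⟶ Y) [LocallyOfFinitePresentation f] :
    IsLocallyConstructible {x : X | ∃ e : ℕ,
      ∀ Z ∈ irreducibleComponents (↥(f.fiber (f x)) : Type u), f.asFiber x ∈ Z →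
        topologicalKrullDim (↥Z : Type u) = e} := by
  refine isLocallyConstructible_of_charts (Y := Y) fun x => ?_
  obtain ⟨V, W, hV, hW, hxW, e, -⟩ := Unibranch.exists_chart_le f (U := ⊤) (x := x) trivial
  letI : Algebra Γ(Y, V) Γ(X, W) := (f.appLE V W e).hom.toAlgebra
  haveI : Algebra.FinitePresentation Γ(Y, V) Γ(X, W) := f.finitePresentation_appLE hV hW e
  obtain ⟨n, π, hπ, hker⟩ := Algebra.FinitePresentation.out (R := Γ(Y, V)) (A := Γ(X, W))
  let A := Γ(Y, V)
  let P := MvPolynomial (Fin n) A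
  let σ : P →+* Γ(X, W) := π.toRingHom
  have hσC : ∀ a, σ (MvPolynomial.C a) = (f.appLE V W e).hom a := fun a => π.commutes a
  have hσ : Function.Surjective σ := hπ
  let S : Set (PrimeSpectrum P) := Set.range (PrimeSpectrum.comap σ)
  have hS : IsConstructible S := by
    show IsConstructible (Set.range (PrimeSpectrum.comap σ))
    rw [range_comap_of_surjective _ _ hσ]
    exact ((PrimeSpectrum.isRetrocompact_zeroLocus_compl_of_fg (I := RingHom.ker σ) hker).isConstructible
      (PrimeSpectrum.isClosed_zeroLocus _).isOpen_compl).of_compl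
  refine ⟨V, W, hW, n, σ, ⋃ d ∈ Finset.range (n + 1), (fibBound S (d + 1) ∩ fibBound (S ∩ fibBound S d) 0), hxW,
    IsConstructible.biUnion (Finset.finite_toSet _) fun d _ => (isConstructible_fibBound hS _).inter
      (isConstructible_fibBound (hS.inter (isConstructible_fibBound hS _)) _), fun x' hx' => ?_⟩
  let y := f x'
  let z : ↥(f.fiber y) := f.asFiber x'
  have hz : f.fiberι y z ∈ W := by rw [f.fiberι_asFiber]; exact hx'
  have hP : chartPrime hW σ x' hx' = chartPrime hW σ _ hz := by
    unfold chartPrime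
    congr 2
    exact Subtype.ext (f.fiberι_asFiber x').symm
  let c : ∀ (w : ↥(f.fiber y)), f.fiberι y w ∈ W → PrimeSpectrum P := fun w hw => chartPrime hW σ _ hw
  have hle : ∀ (w w' : ↥(f.fiber y)) (hw : f.fiberι y w ∈ W) (hw' : f.fiberι y w' ∈ W),
      (c w hw).asIdeal ≤ (c w' hw').asIdeal ↔ w ⤳ w' := fun w w' hw hw' =>
    (chartPrime_le_iff hW σ hσ _ _ hw hw').trans (f.fiberι y).isEmbedding.isInducing.specializes_iff
  have hbase : ∀ (w : ↥(f.fiber y)) (hw : f.fiberι y w ∈ W),
      hV.fromSpec (PrimeSpectrum.comap (algebraMap A P) (c w hw)) = y := fun w hw => by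
    rw [fromSpec_under f hV hW e σ hσC]
    exact (f.range_fiberι y).subset ⟨w, rfl⟩
  have hunder : ∀ (w w' : ↥(f.fiber y)) (hw : f.fiberι y w ∈ W) (hw' : f.fiberι y w' ∈ W),
      (c w hw).asIdeal.under A = (c w' hw').asIdeal.under A :=
    fun w w' hw hw' => congrArg PrimeSpectrum.asIdeal
      (hV.fromSpec.isOpenEmbedding.injective ((hbase w hw).trans (hbase w' hw').symm))
  have hpt : ∀ Q ∈ S, Q.asIdeal.under A = (c z hz).asIdeal.under A →
      ∃ (w : ↥(f.fiber y)) (hw : f.fiberι y w ∈ W), c w hw = Q := by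
    rintro _ ⟨q, rfl⟩ hu
    have hqW : hW.fromSpec q ∈ W := hW.opensRange_fromSpec.le ⟨q, rfl⟩
    have hcq : chartPrime hW σ (hW.fromSpec q) hqW = PrimeSpectrum.comap σ q := by
      rw [chartPrime]
      exact congrArg _ (hW.fromSpec.isOpenEmbedding.injective (hW.fromSpec_primeIdealOf ⟨_, hqW⟩))
    obtain ⟨w, hw⟩ : hW.fromSpec q ∈ Set.range (f.fiberι y) := by
      rw [f.range_fiberι, Set.mem_preimage, Set.mem_singleton_iff, ← fromSpec_under f hV hW e σ hσC _ hqW, hcq]
      exact (congrArg hV.fromSpec (PrimeSpectrum.ext hu)).trans (hbase z hz)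
    refine ⟨w, hw ▸ hqW, ?_⟩
    rw [← hcq]
    exact congrArg (PrimeSpectrum.comap _ <| hW.primeIdealOf ·) (Subtype.ext hw)
  have hr : ∀ (w : ↥(f.fiber y)) (hw : f.fiberι y w ∈ W),
      topologicalKrullDim ↥(closure ({w} : Set ↥(f.fiber y))) =
        (Unibranch.rdim A (c w hw).asIdeal : WithBot ℕ∞) := fun w hw => by
    rw [dim_closure_fibre f hV hW e y w hw]
    exact congrArg _ (rdim_comap_of_surjective π hπ (hW.primeIdealOf ⟨_, hw⟩)).symm
  have hmem : ∀ (w : ↥(f.fiber y)) (hw : f.fiberι y w ∈ W), c w hw ∈ S := fun w hw => ⟨_, rfl⟩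
  have hopen : ∀ (w w' : ↥(f.fiber y)), f.fiberι y w' ∈ W → w ⤳ w' → f.fiberι y w ∈ W := fun w w' hw' h =>
    (h.map (f.fiberι y).continuous).mem_open W.2 hw'
  have key : ∀ d : ℕ, (∀ Z ∈ irreducibleComponents (↥(f.fiber y) : Type u), z ∈ Z →
      topologicalKrullDim (↥Z : Type u) = d) ↔
      chartPrime hW σ x' hx' ∈ fibBound S (d + 1) ∩ fibBound (S ∩ fibBound S d) 0 := by
    intro d
    rw [hP, components_iff, ← minimal_rdim_iff]
    constructor
    · intro h Q hQ hQle hu hmin
      obtain ⟨w, hw, rfl⟩ := hpt Q hQ hu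
      have h1 := h w (fun v hv => ?_) ((hle w z hw hz).1 hQle)
      · rw [hr w hw] at h1
        exact_mod_cast h1
      · have hvW := hopen v w hw hv
        have h2 := hmin (c v hvW) (hmem v hvW) ((hle v w hvW hw).2 hv) (hunder v w hvW hw)
        exact (hv.antisymm ((hle w v hw hvW).1 (by rw [h2]))).eq
    · intro h w hmin hwz
      have hw := hopen w z hz hwz
      rw [hr w hw, h (c w hw) (hmem w hw) ((hle w z hw hz).2 hwz) (hunder w z hw hz) fun Q hQ hQle hu => ?_]
      obtain ⟨v, hv, rfl⟩ := hpt Q hQ (hu.trans (hunder w z hw hz))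
      obtain rfl := hmin v ((hle v w hv hw).1 hQle)
      rfl
  simp only [Set.mem_iUnion, Finset.mem_range, Set.mem_ofPred_eq]
  constructor
  · rintro ⟨d, hd⟩
    by_cases hdn : d < n + 1
    · exact ⟨d, hdn, (key d).1 hd⟩
    · exfalso
      obtain ⟨Z, hZ, hzZ⟩ : ∃ Z ∈ irreducibleComponents (↥(f.fiber y) : Type u), z ∈ Z :=
        ⟨irreducibleComponent z, irreducibleComponent_mem_irreducibleComponents z, mem_irreducibleComponent⟩
      obtain ⟨w, hw⟩ := QuasiSober.sober hZ.1 (isClosed_of_mem_irreducibleComponents Z hZ)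
      have h1 := hd Z hZ hzZ
      rw [← hw.def, hr w (hopen w z hz (specializes_iff_mem_closure.2 (hw.def.symm ▸ hzZ)))] at h1
      norm_cast at h1
      have h2 := rdim_le_card (c w (hopen w z hz (specializes_iff_mem_closure.2 (hw.def.symm ▸ hzZ)))).asIdeal
      omega
  · rintro ⟨d, -, hd⟩
    exact ⟨d, (key d).2 hd⟩

end Groth.Agent.FibDepth
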