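import Groth.Agent.FibDepth.GeomRk
import Groth.Agent.FibDepth.FibreLocus
import Groth.Agent.FibDepth.ConsFibBound
import Groth.Agent.FibDepth.GlobalCons
import Groth.Agent.FibDepth.AssDims

/-!
# Smoothness in small codimension along the fibres, on charts
-/

set_option autoImplicit false
set_option linter.style.haveILetI false
set_option backward.isDefEq.respectTransparency false

universe u

open IsLocalRing CategoryTheory AlgebraicGeometry Topology

namespace Groth.Agent.FibDepth

/-- A bound on the dimension through a bound on dimension plus relative dimension. -/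
theorem le_iff_exists_add_le {s : WithBot ℕ∞} {a r n j : ℕ} (hs : s = (a : WithBot ℕ∞)) (hn : a + r ≤ n) :
    s ≤ (j : WithBot ℕ∞) ↔ ∃ e ≤ n, s + (r : WithBot ℕ∞) ≤ (e : WithBot ℕ∞) ∧ e ≤ r + j := by
  subst hs
  norm_cast
  exact ⟨fun h => ⟨a + r, hn, le_rfl, by omega⟩, fun ⟨e, _, h1, h2⟩ => by omega⟩

variable {X Y : Scheme.{u}}

section Chart

variable {V : Y.Opens} {W : X.Opens} (hW : IsAffineOpen W) {n : ℕ} (σ : MvPolynomial (Fin n) Γ(Y, V) →+* Γ(X, W))

/-- The points of a chart at which the fibre is not smooth. -/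
def singSet (f : X ⟶ Y) : Set (PrimeSpectrum (MvPolynomial (Fin n) Γ(Y, V))) :=
  PrimeSpectrum.comap σ '' {q | hW.fromSpec q ∉ smoothFib f}

theorem chartPrime_mem_singSet_iff (hσ : Function.Surjective σ) (f : X ⟶ Y) (x : X) (hx : x ∈ W) :
    chartPrime hW σ x hx ∈ singSet hW σ f ↔ x ∉ smoothFib f := by
  rw [singSet, chartPrime, (PrimeSpectrum.comap_injective_of_surjective _ hσ).mem_set_image]
  show hW.fromSpec (hW.primeIdealOf ⟨x, hx⟩) ∉ _ ↔ _
  rw [hW.fromSpec_primeIdealOf]

theorem isConstructible_singSet (hσ : Function.Surjective σ) (hker : (RingHom.ker σ).FG) (f : X ⟶ Y)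
    [LocallyOfFinitePresentation f] : IsConstructible (singSet hW σ f) := by
  refine IsConstructible.image_of_isClosedEmbedding
    (PrimeSpectrum.isClosedEmbedding_comap_of_surjective _ _ hσ) ?_ ?_
  · rw [range_comap_of_surjective _ _ hσ]
    exact PrimeSpectrum.isRetrocompact_zeroLocus_compl_of_fg hker
  · exact (Topology.IsLocallyConstructible.isConstructible
      (Topology.IsLocallyConstructible.preimage_of_isOpenEmbedding
        (isFibreLocus_smoothFib.isLocallyConstructible f) hW.fromSpec.isOpenEmbedding)).compl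

/-- Smoothness in small codimension of the fibre through a point, on a chart. -/
theorem goodAt_chart_iff (f : X ⟶ Y) [LocallyOfFinitePresentation f] (hV : IsAffineOpen V) (e : W ≤ f ⁻¹ᵁ V)
    (hσ : Function.Surjective σ)
    (hσC : ∀ a, σ (MvPolynomial.C a) = (f.appLE V W e).hom a) (j : ℕ) (y : Y) (z : ↥(f.fiber y))
    (hz : f.fiberι y z ∈ W) :
    haveI := lfp_fiberToSpec f y
    GoodAt (f.fiberToSpecResidueField y) j z ↔ ∀ d ∈ Finset.range (n + 1), chartPrime hW σ _ hz ∈
      fibBound (singSet hW σ f ∩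
        fibBound (Set.range (PrimeSpectrum.comap σ)) (d + 1)) (d - j) := by
  let A := Γ(Y, V)
  let P := MvPolynomial (Fin n) A
  letI : Algebra P Γ(X, W) := σ.toAlgebra
  haveI : Module.Finite P Γ(X, W) := Module.Finite.of_surjective (Algebra.linearMap P Γ(X, W)) hσ
  haveI := lfp_fiberToSpec f y
  let c : ∀ (w : ↥(f.fiber y)), f.fiberι y w ∈ W → PrimeSpectrum P := fun w hw => chartPrime hW σ _ hw
  have hle : ∀ (w : ↥(f.fiber y)) (hw : f.fiberι y w ∈ W),
      (c w hw).asIdeal ≤ (c z hz).asIdeal ↔ w ⤳ z := fun w hw =>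
    (chartPrime_le_iff hW σ hσ _ _ hw hz).trans (f.fiberι y).isEmbedding.isInducing.specializes_iff
  have hbase : ∀ (w : ↥(f.fiber y)) (hw : f.fiberι y w ∈ W),
      hV.fromSpec (PrimeSpectrum.comap (algebraMap A P) (c w hw)) = y := fun w hw => by
    rw [fromSpec_under f hV hW e σ hσC]
    exact (f.range_fiberι y).subset ⟨w, rfl⟩
  have hunder : ∀ (w : ↥(f.fiber y)) (hw : f.fiberι y w ∈ W), (c w hw).asIdeal.under A = (c z hz).asIdeal.under A :=
    fun w hw => congrArg PrimeSpectrum.asIdeal
      (hV.fromSpec.isOpenEmbedding.injective ((hbase w hw).trans (hbase z hz).symm))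
  have hsupp : Module.support P Γ(X, W) = Set.range (PrimeSpectrum.comap σ) := by
    rw [Module.support_of_algebra, range_comap_of_surjective _ _ hσ]
    rfl
  rw [← hsupp]
  have hdim : ∀ (w : ↥(f.fiber y)) (hw : f.fiberι y w ∈ W),
      ringKrullDim ((f.fiber y).presheaf.stalk w) ≤ (j : WithBot ℕ∞) ↔
        ∃ d ≤ n, c w hw ∈ fibBound (Module.support P Γ(X, W)) (d + 1) ∧
          d ≤ Unibranch.rdim A (c w hw).asIdeal + j := by
    intro w hw
    haveI := isRegularLocalRing_fibQ (c w hw).asIdeal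
    have hdq := ringKrullDim_fibQ (c w hw).asIdeal
    obtain ⟨h1, -⟩ := fibre_ring_eq f hV hW e σ hσ hσC inferInstance y w hw
    have h1' : ringKrullDim ((f.fiber y).presheaf.stalk w) =
        Module.supportDim (FibQ A (c w hw).asIdeal) (FibM A (c w hw).asIdeal Γ(X, W)) := h1
    rw [h1']
    have hmem : c w hw ∈ Module.support P Γ(X, W) := hsupp ▸ ⟨_, rfl⟩
    rcases supportDim_depth_cases hdq (FibM A (c w hw).asIdeal Γ(X, W)) with ⟨h2, -⟩ | ⟨a, b, h2, -⟩
    · exact absurd hmem ((subsingleton_fibM_iff A (c w hw).asIdeal Γ(X, W)).1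
        ((Module.supportDim_eq_bot_iff_subsingleton _ _).1 h2))
    have h3 : a + Unibranch.rdim A (c w hw).asIdeal ≤ n := by
      have h4 := Module.supportDim_le_ringKrullDim (FibQ A (c w hw).asIdeal) (FibM A (c w hw).asIdeal Γ(X, W))
      rw [h2, hdq] at h4
      norm_cast at h4
      have := rdim_le_card (c w hw).asIdeal
      omega
    rw [le_iff_exists_add_le h2 h3]
    refine exists_congr fun d => and_congr_right fun _ => and_congr_left fun _ => ?_
    rw [supportDim_fibM_add_rdim_le_iff]
    exact forall₄_congr fun _ _ _ _ => Nat.lt_succ_iff.symm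
  constructor
  · intro h d hd Q hQ hQle hu
    obtain ⟨⟨q, hq, rfl⟩, hQd⟩ := hQ
    have hqW : hW.fromSpec q ∈ W := hW.opensRange_fromSpec.le ⟨q, rfl⟩
    have hcq : chartPrime hW σ (hW.fromSpec q) hqW =
        PrimeSpectrum.comap σ q := by
      rw [chartPrime]
      exact congrArg _ (hW.fromSpec.isOpenEmbedding.injective (hW.fromSpec_primeIdealOf ⟨_, hqW⟩))
    obtain ⟨w, hw⟩ : hW.fromSpec q ∈ Set.range (f.fiberι y) := by
      rw [f.range_fiberι, Set.mem_preimage, Set.mem_singleton_iff, ← fromSpec_under f hV hW e σ hσC _ hqW, hcq]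
      exact (congrArg hV.fromSpec (PrimeSpectrum.ext hu)).trans (hbase z hz)
    have hwW : f.fiberι y w ∈ W := hw ▸ hqW
    have hcw : c w hwW = PrimeSpectrum.comap σ q := by
      rw [← hcq]
      exact congrArg (PrimeSpectrum.comap _ <| hW.primeIdealOf ·) (Subtype.ext hw)
    by_contra hlt
    refine hq ?_
    rw [← hw]
    refine (mem_smoothFib_iff f y w).1 (h w ((hle w hwW).1 (by rw [hcw]; exact hQle))
      ((hdim w hwW).2 ⟨d, Nat.lt_succ_iff.1 (Finset.mem_range.1 hd), by rw [hcw]; exact hQd, ?_⟩))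
    rw [hcw]
    change ¬ Unibranch.rdim Γ(Y, V) (PrimeSpectrum.comap σ q).asIdeal < d - j at hlt
    show d ≤ Unibranch.rdim Γ(Y, V) (PrimeSpectrum.comap σ q).asIdeal + j
    omega
  · intro h w hwz hd
    have hwW : f.fiberι y w ∈ W := (hwz.map (f.fiberι y).continuous).mem_open W.2 hz
    obtain ⟨d, hdn, hd1, hd2⟩ := (hdim w hwW).1 hd
    refine (mem_smoothFib_iff f y w).2 (by_contra fun hns => ?_)
    have h1 := h d (Finset.mem_range.2 (Nat.lt_succ_of_le hdn)) (c w hwW)
      ⟨(chartPrime_mem_singSet_iff hW σ hσ f _ hwW).2 hns, hd1⟩ ((hle w hwW).2 hwz) (hunder w hwW)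
    change Unibranch.rdim A (c w hwW).asIdeal < _ at h1
    omega

/-- The sets cutting out smoothness in small codimension are constructible. -/
theorem isConstructible_goodSet (f : X ⟶ Y) [LocallyOfFinitePresentation f]
    (hσ : Function.Surjective σ)
    (hker : (RingHom.ker σ).FG) (j : ℕ) :
    IsConstructible (⋂ d ∈ Finset.range (n + 1), fibBound (singSet hW σ f ∩
        fibBound (Set.range (PrimeSpectrum.comap σ)) (d + 1)) (d - j)) := by
  have hs : IsConstructible (Set.range (PrimeSpectrum.comap σ)) := by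
    rw [range_comap_of_surjective _ _ hσ]
    have h := (PrimeSpectrum.isRetrocompact_zeroLocus_compl_of_fg hker).isConstructible
      (PrimeSpectrum.isClosed_zeroLocus _).isOpen_compl
    exact h.of_compl
  exact IsConstructible.biInter (Finset.finite_toSet _) fun d _ =>
    isConstructible_fibBound ((isConstructible_singSet hW σ hσ hker f).inter
      (isConstructible_fibBound hs (d + 1))) _

end Chart

/-- Smoothness in small codimension along the fibres is locally constructible. -/
theorem isLocallyConstructible_goodAt (f : X ⟶ Y) [LocallyOfFinitePresentation f] (j : ℕ) :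
    IsLocallyConstructible {x : X |
      haveI := lfp_fiberToSpec f (f x)
      GoodAt (f.fiberToSpecResidueField (f x)) j (f.asFiber x)} := by
  refine isLocallyConstructible_of_charts (Y := Y) fun x => ?_
  obtain ⟨V, W, hV, hW, hxW, e, -⟩ := Unibranch.exists_chart_le f (U := ⊤) (x := x) trivial
  letI : Algebra Γ(Y, V) Γ(X, W) := (f.appLE V W e).hom.toAlgebra
  haveI : Algebra.FinitePresentation Γ(Y, V) Γ(X, W) := f.finitePresentation_appLE hV hW e
  obtain ⟨n, π, hπ, hker⟩ := Algebra.FinitePresentation.out (R := Γ(Y, V)) (A := Γ(X, W))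
  let σ : MvPolynomial (Fin n) Γ(Y, V) →+* Γ(X, W) := π.toRingHom
  letI : Algebra (MvPolynomial (Fin n) Γ(Y, V)) Γ(X, W) := σ.toAlgebra
  refine ⟨V, W, hW, n, σ, _, hxW, isConstructible_goodSet hW σ f hπ hker j, fun x' hx' => ?_⟩
  have hz : f.fiberι (f x') (f.asFiber x') ∈ W := by rw [f.fiberι_asFiber]; exact hx'
  have hP : chartPrime hW σ x' hx' = chartPrime hW σ _ hz := by
    unfold chartPrime
    congr 2
    exact Subtype.ext (f.fiberι_asFiber x').symm
  rw [Set.mem_ofPred_eq, goodAt_chart_iff hW σ f hV e hπ (fun a => π.commutes a) j (f x') (f.asFiber x') hz, hP]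
  simp only [Set.mem_iInter]

end Groth.Agent.FibDepth
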