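import Groth.Agent.FibDepth.GlobalGood
import Groth.Agent.FibDepth.GeomNormal
import Groth.Agent.FibDepth.SkOne

/-!
# Openness of smoothness in small codimension with equidimensionality, along flat loci
-/

set_option autoImplicit false
set_option linter.style.haveILetI false
set_option backward.isDefEq.respectTransparency false

universe u

open IsLocalRing TensorProduct CategoryTheory AlgebraicGeometry Topology

namespace Groth.Agent.FibDepth

section Alg

variable {A : Type u} [CommRing A] {n : ℕ} (M : Type u) [AddCommGroup M] [Module (MvPolynomial (Fin n) A) M]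
  [Module.Finite (MvPolynomial (Fin n) A) M]

/-- At an equidimensional point the dimensions of the support near the generisations in the fibre are equal. -/
theorem fibBound_support_iff_of_equidim {Q : PrimeSpectrum (MvPolynomial (Fin n) A)} {d : ℕ}
    (h1 : Module.supportDim (FibQ A Q.asIdeal) (FibM A Q.asIdeal M) + (Unibranch.rdim A Q.asIdeal : WithBot ℕ∞) ≤
      (d : WithBot ℕ∞))
    (h2 : ∀ i < d, Q ∈ fibBound (Module.support (MvPolynomial (Fin n) A) M ∩ rectLeSet (A := A) (n := n) M i) i)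
    {P : PrimeSpectrum (MvPolynomial (Fin n) A)} (hP : P ∈ Module.support (MvPolynomial (Fin n) A) M)
    (hle : P.asIdeal ≤ Q.asIdeal) (hu : P.asIdeal.under A = Q.asIdeal.under A) (e : ℕ) :
    P ∈ fibBound (Module.support (MvPolynomial (Fin n) A) M) (e + 1) ↔ d ≤ e := by
  classical
  rw [supportDim_fibM_add_rdim_le_iff] at h1
  refine ⟨fun h => ?_, fun h P' hP' hle' hu' =>
    Nat.lt_succ_of_le ((h1 P' hP' (hle'.trans hle) (hu'.trans hu)).trans h)⟩
  let p : ℕ → Prop := fun r => ∃ P' ∈ Module.support (MvPolynomial (Fin n) A) M,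
    P'.asIdeal ≤ P.asIdeal ∧ P'.asIdeal.under A = P.asIdeal.under A ∧ Unibranch.rdim A P'.asIdeal = r
  have hp : p (Unibranch.rdim A P.asIdeal) := ⟨P, hP, le_rfl, rfl, rfl⟩
  obtain ⟨P', hP', hle', hu', hr⟩ := Nat.findGreatest_spec (P := p) (rdim_le_card P.asIdeal) hp
  have hmin : Module.supportDim (FibQ A P'.asIdeal) (FibM A P'.asIdeal M) ≤ 0 := by
    rw [supportDim_le_zero_iff]
    intro P'' hP'' hle'' hu''
    by_contra hne
    have hlt := rdim_strict (lt_of_le_of_ne hle'' hne) hu''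
    have hmax := Nat.le_findGreatest (P := p) (rdim_le_card P''.asIdeal)
      ⟨P'', hP'', hle''.trans hle', hu''.trans hu', rfl⟩
    omega
  have hd0 : LocCoh.depth (FibQ A P'.asIdeal) (FibM A P'.asIdeal M) = 0 := by
    haveI := isRegularLocalRing_fibQ P'.asIdeal
    rcases supportDim_depth_cases (ringKrullDim_fibQ P'.asIdeal) (FibM A P'.asIdeal M) with ⟨h3, -⟩ | ⟨a, b, h3, h4⟩
    · exact absurd hP' ((subsingleton_fibM_iff A P'.asIdeal M).1
        ((Module.supportDim_eq_bot_iff_subsingleton _ _).1 h3))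
    · have h5 := InvFin.depth_le_supportDim (FibM A P'.asIdeal M) h3
      rw [h4] at h5 ⊢
      rw [h3] at hmin
      norm_cast at h5 hmin ⊢
      omega
  have hlow : d ≤ Unibranch.rdim A P'.asIdeal := by
    by_contra hlt
    exact lt_irrefl _ (h2 _ (not_le.1 hlt) P' ⟨hP', by rw [mem_rectLeSet, hd0, zero_add]⟩ (hle'.trans hle)
      (hu'.trans hu))
  exact hlow.trans (Nat.lt_succ_iff.1 (h P' hP' hle' hu'))

end Alg

variable {X Y : Scheme.{u}}

/-- Equidimensionality of the local ring of a fibre, read on a chart. -/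
theorem fibre_ring_equidim (f : X ⟶ Y) {V : Y.Opens} (hV : IsAffineOpen V) {W : X.Opens} (hW : IsAffineOpen W)
    (e : W ≤ f ⁻¹ᵁ V) {n : ℕ} (σ : MvPolynomial (Fin n) Γ(Y, V) →+* Γ(X, W)) (hσ : Function.Surjective σ)
    (hσC : ∀ a, σ (MvPolynomial.C a) = (f.appLE V W e).hom a)
    (hfin : letI : Module (MvPolynomial (Fin n) Γ(Y, V)) Γ(X, W) := Module.compHom Γ(X, W) σ
      Module.Finite (MvPolynomial (Fin n) Γ(Y, V)) Γ(X, W))
    (y : Y) (z : ↥(f.fiber y)) (hz : f.fiberι y z ∈ W) :
    letI : Module (MvPolynomial (Fin n) Γ(Y, V)) Γ(X, W) := Module.compHom Γ(X, W) σ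
    EGA4.IsEquidimModule ((f.fiber y).presheaf.stalk z) ((f.fiber y).presheaf.stalk z) ↔
      EGA4.IsEquidimModule (FibQ Γ(Y, V) (chartPrime hW σ _ hz).asIdeal)
        (FibM Γ(Y, V) (chartPrime hW σ _ hz).asIdeal Γ(X, W)) := by
  letI : Algebra (X.presheaf.stalk (f.fiberι y z)) ((f.fiber y).presheaf.stalk z) :=
    ((f.fiberι y).stalkMap z).hom.toAlgebra
  letI : Algebra Γ(X, W) (X.presheaf.stalk (f.fiberι y z)) := (X.presheaf.germ W (f.fiberι y z) hz).hom.toAlgebra
  haveI : IsLocalization.AtPrime (X.presheaf.stalk (f.fiberι y z)) (hW.primeIdealOf ⟨f.fiberι y z, hz⟩).asIdeal :=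
    hW.isLocalization_stalk ⟨_, hz⟩
  obtain ⟨-, -, -, h4⟩ := fibre_tensor_eq f hV hW e σ hσ hσC Γ(X, W) hfin y z hz
    (X.presheaf.stalk (f.fiberι y z)) ⟨Algebra.linearMap Γ(X, W) _,
      (isLocalizedModule_iff_isLocalization' _ _).2 inferInstance⟩
  let eR := TensorProduct.AlgebraTensorModule.rid (X.presheaf.stalk (f.fiberι y z))
    ((f.fiber y).presheaf.stalk z) ((f.fiber y).presheaf.stalk z)
  exact (⟨isEquidimModule_congr eR.symm, isEquidimModule_congr eR⟩ : _ ↔ _).trans h4

/-- The points of the flat locus at which the fibre is smooth in small codimension, equidimensional and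
satisfies a condition of Serre form an open set. -/
theorem exists_open_flat_good_equiSk (f : X ⟶ Y) [LocallyOfFinitePresentation f] (j k : ℕ) (hk : 1 ≤ k) :
    ∃ O : Set X, IsOpen O ∧ ∀ (y : Y) (z : ↥(f.fiber y)), f.fiberι y z ∈ O ↔
      (f.stalkMap (f.fiberι y z)).hom.Flat ∧
        (haveI := lfp_fiberToSpec f y; GoodAt (f.fiberToSpecResidueField y) j z) ∧
          EGA4.IsEquidimModule ((f.fiber y).presheaf.stalk z) ((f.fiber y).presheaf.stalk z) ∧
            LocCoh.HasSk k ((f.fiber y).presheaf.stalk z) ((f.fiber y).presheaf.stalk z) := by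
  haveI := FibreFlat.flat_flatOpen f
  have hso : IsOpen ((FibreFlat.flatOpen f).ι ⁻¹' smoothFib f) := by
    rw [← isFibreLocus_smoothFib.comp_openImmersion]
    exact isFibreLocus_smoothFib.isOpen_of_flat _
  have hopen : IsOpen ((FibreFlat.flatOpen f : Set X) ∩ smoothFib f) := by
    have h := (FibreFlat.flatOpen f).ι.isOpenEmbedding.isOpenMap _ hso
    rwa [Set.image_preimage_eq_range_inter, Scheme.Opens.range_ι] at h
  have hloc : ∀ x ∈ FibreFlat.flatOpen f, ∃ W : X.Opens, x ∈ W ∧ W ≤ FibreFlat.flatOpen f ∧ ∃ O : Set X, IsOpen O ∧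
      ∀ (y : Y) (z : ↥(f.fiber y)), f.fiberι y z ∈ W → (f.fiberι y z ∈ O ↔
        (haveI := lfp_fiberToSpec f y; GoodAt (f.fiberToSpecResidueField y) j z) ∧
          EGA4.IsEquidimModule ((f.fiber y).presheaf.stalk z) ((f.fiber y).presheaf.stalk z) ∧
            LocCoh.HasSk k ((f.fiber y).presheaf.stalk z) ((f.fiber y).presheaf.stalk z)) := by
    intro x hx
    obtain ⟨V, W, hV, hW, hxW, e, hWU⟩ := Unibranch.exists_chart_le f (U := FibreFlat.flatOpen f) (x := x) hx
    letI : Algebra Γ(Y, V) Γ(X, W) := (f.appLE V W e).hom.toAlgebra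
    haveI : Module.Flat Γ(Y, V) Γ(X, W) := flat_of_le_flatOpen f hV hW e fun x hx => hWU hx
    haveI : Algebra.FinitePresentation Γ(Y, V) Γ(X, W) := f.finitePresentation_appLE hV hW e
    obtain ⟨n, π, hπ, hker⟩ := Algebra.FinitePresentation.out (R := Γ(Y, V)) (A := Γ(X, W))
    let A := Γ(Y, V)
    let P := MvPolynomial (Fin n) A
    let σ : P →+* Γ(X, W) := π.toRingHom
    have hσC : ∀ a, σ (MvPolynomial.C a) = (f.appLE V W e).hom a := fun a => π.commutes a
    letI : Algebra P Γ(X, W) := σ.toAlgebra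
    haveI : IsScalarTower A P Γ(X, W) := IsScalarTower.of_algebraMap_eq fun a => (π.commutes a).symm
    haveI : Module.Finite P Γ(X, W) := Module.Finite.of_surjective (Algebra.linearMap P Γ(X, W)) hπ
    haveI : Module.FinitePresentation P Γ(X, W) :=
      Module.finitePresentation_of_surjective (Algebra.linearMap P Γ(X, W)) hπ hker
    have hsupp : Module.support P Γ(X, W) = Set.range (PrimeSpectrum.comap σ) := by
      rw [Module.support_of_algebra, range_comap_of_surjective _ _ (show Function.Surjective σ from hπ)]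
      rfl
    have hsing : IsClosed (singSet hW σ f) := by
      refine (PrimeSpectrum.isClosedEmbedding_comap_of_surjective _ σ hπ).isClosedMap _ ?_
      have heq : {q : PrimeSpectrum Γ(X, W) | hW.fromSpec q ∉ smoothFib f} =
          {q : PrimeSpectrum Γ(X, W) | hW.fromSpec q ∈ (FibreFlat.flatOpen f : Set X) ∩ smoothFib f}ᶜ := by
        ext q
        exact ⟨fun h hq => h hq.2, fun h hq => h ⟨hWU (hW.opensRange_fromSpec.le ⟨q, rfl⟩), hq⟩⟩
      rw [heq]
      exact (hopen.preimage hW.fromSpec.continuous).isClosed_compl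
    let T : Set (PrimeSpectrum P) := skSet (A := A) (n := n) Γ(X, W) k ∩ ⋃ d : ℕ,
      (({Q | Module.supportDim (FibQ A Q.asIdeal) (FibM A Q.asIdeal Γ(X, W)) +
          (Unibranch.rdim A Q.asIdeal : WithBot ℕ∞) ≤ (d : WithBot ℕ∞)} ∩
        ⋂ i ∈ Finset.range d, fibBound (Module.support P Γ(X, W) ∩ rectLeSet (A := A) (n := n) Γ(X, W) i) i) ∩
      fibBound (singSet hW σ f) (d - j))
    have hT : IsOpen T := (isOpen_skSet Γ(X, W) k).inter (isOpen_iUnion fun d =>
      ((isOpen_supportDim_le Γ(X, W) d).inter (isOpen_biInter_finset fun i _ =>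
        isOpen_fibBound ((isClosed_support Γ(X, W)).inter (isClosed_rectLeSet Γ(X, W) i)) _)).inter
      (isOpen_fibBound hsing _))
    obtain ⟨O, hO, hO'⟩ := exists_open_chart hW σ hT
    refine ⟨W, hxW, hWU, O, hO, fun y z hz => ?_⟩
    obtain ⟨-, -, h3⟩ := fibre_ring_eq f hV hW e σ hπ hσC inferInstance y z hz
    have h4 := fibre_ring_equidim f hV hW e σ hπ hσC inferInstance y z hz
    rw [hO' _ hz, goodAt_chart_iff hW σ f hV e hπ hσC j y z hz, h3 k, h4, equidim_sk_iff Γ(X, W) k hk, ← hsupp]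
    simp only [T, equiSkSet, Set.mem_inter_iff, Set.mem_iUnion]
    constructor
    · rintro ⟨hsk, d, ⟨hd1, hd2⟩, hd3⟩
      refine ⟨fun i _ Q' hQ' hle hu => ?_, hsk, d, hd1, hd2⟩
      simp only [Set.mem_iInter, Finset.mem_range] at hd2
      have hQ's : Q' ∈ Module.support P Γ(X, W) := by
        rw [hsupp]
        exact Set.image_subset_range _ _ hQ'.1
      have h5 := (fibBound_support_iff_of_equidim Γ(X, W) hd1 hd2 hQ's hle hu i).1 hQ'.2
      have h6 := hd3 Q' hQ'.1 hle hu
      exact lt_of_lt_of_le h6 (Nat.sub_le_sub_right h5 j)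
    · rintro ⟨hg, hsk, d, hd1, hd2⟩
      refine ⟨hsk, d, ⟨hd1, hd2⟩, fun Q' hQ' hle hu => ?_⟩
      simp only [Set.mem_iInter, Finset.mem_range] at hd2
      have hQ's : Q' ∈ Module.support P Γ(X, W) := by
        rw [hsupp]
        exact Set.image_subset_range _ _ hQ'
      have h7 : min d n = d ∨ n < d := by omega
      rcases h7 with h7 | h7
      · exact hg d (Finset.mem_range.2 (by omega)) Q'
          ⟨hQ', (fibBound_support_iff_of_equidim Γ(X, W) hd1 hd2 hQ's hle hu d).2 le_rfl⟩ hle hu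
      · exfalso
        have h8 := (fibBound_support_iff_of_equidim Γ(X, W) hd1 hd2 hQ's hle hu n).1
          fun P' _ _ _ => Nat.lt_succ_of_le (rdim_le_card P'.asIdeal)
        omega
  choose W hxW hWU O hO hO' using hloc
  refine ⟨⋃ x, ⋃ hx, (W x hx : Set X) ∩ O x hx,
    isOpen_iUnion fun x => isOpen_iUnion fun hx => (W x hx).2.inter (hO x hx), fun y z => ⟨fun h => ?_, fun h => ?_⟩⟩
  · simp only [Set.mem_iUnion] at h
    obtain ⟨x, hx, h1, h2⟩ := h
    exact ⟨hWU x hx h1, (hO' x hx y z h1).1 h2⟩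
  · simp only [Set.mem_iUnion]
    exact ⟨_, h.1, hxW _ h.1, (hO' _ h.1 y z (hxW _ h.1)).2 h.2⟩

/-- The local ring of a fibre with `(R_j)` geometrically, in terms of the finite extensions. -/
theorem equidim_embedded_iff (f : X ⟶ Y) [LocallyOfFiniteType f] (y : Y) (z : ↥(f.fiber y)) :
    (EGA4.IsEquidim ↑((f.fiber y).presheaf.stalk z) ∧
      ∀ p ∈ associatedPrimes ↑((f.fiber y).presheaf.stalk z) ↑((f.fiber y).presheaf.stalk z),
        p ∈ minimalPrimes ↑((f.fiber y).presheaf.stalk z)) ↔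
      EGA4.IsEquidimModule ((f.fiber y).presheaf.stalk z) ((f.fiber y).presheaf.stalk z) ∧
        LocCoh.HasSk 1 ((f.fiber y).presheaf.stalk z) ((f.fiber y).presheaf.stalk z) := by
  haveI := isLocallyNoetherian_fiber f y
  rw [isEquidimModule_self_iff, hasSk_one_iff]

/-- Geometric normality of the fibre, through equidimensionality and the two conditions. -/
theorem geomNormal_iff_equidim (f : X ⟶ Y) [LocallyOfFinitePresentation f] (y : Y) (z : ↥(f.fiber y)) :
    haveI := lfp_fiberToSpec f y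
    (GoodAt (f.fiberToSpecResidueField y) 1 z ∧
      LocCoh.HasSk 2 ((f.fiber y).presheaf.stalk z) ((f.fiber y).presheaf.stalk z)) ↔
    (GoodAt (f.fiberToSpecResidueField y) 1 z ∧
      EGA4.IsEquidimModule ((f.fiber y).presheaf.stalk z) ((f.fiber y).presheaf.stalk z) ∧
      LocCoh.HasSk 2 ((f.fiber y).presheaf.stalk z) ((f.fiber y).presheaf.stalk z)) := by
  haveI := lfp_fiberToSpec f y
  haveI := isLocallyNoetherian_fiber f y
  refine ⟨fun ⟨h1, h2⟩ => ⟨h1, ?_, h2⟩, fun h => ⟨h.1, h.2.2⟩⟩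
  obtain ⟨_, _⟩ := normal_of_conditions ((f.fiber y).presheaf.stalk z)
    ((hasRk_stalk_iff 1 z).2 fun w hw hd => GeomProp.regular_stalk_of_mem_smoothLocus
      (f.fiberToSpecResidueField y) (h1 w hw hd)) h2
  exact isEquidimModule_self_of_isDomain _

end Groth.Agent.FibDepth
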