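import Groth.Agent.FlatModB.QuasiFlat
import Groth.Agent.Fitting.Local

/-!
# Images of supports of flat finitely presented modules
-/

set_option autoImplicit false
set_option linter.style.haveILetI false
set_option backward.isDefEq.respectTransparency false

universe u

namespace Groth.Agent.FibDepth

variable {A B : Type u} [CommRing A] [CommRing B] [Algebra A B]

/-- The support of a finitely presented module is cut out by a finitely generated ideal. -/
theorem exists_fg_support_eq (M : Type u) [AddCommGroup M] [Module B M] [Module.FinitePresentation B M] :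
    ∃ J : Ideal B, J.FG ∧ Module.support B M = PrimeSpectrum.zeroLocus (J : Set B) := by
  refine ⟨Fitt.ideal B M 0, Fitting.fg_ideal 0, Set.ext fun Q => ⟨fun hQ => ?_, fun hQ => ?_⟩⟩
  · exact (Fitting.le_annihilator (R := B) (M := M)).trans (Module.mem_support_iff_of_finite.1 hQ)
  · by_contra h
    haveI := Module.notMem_support_iff.1 h
    refine (Fitting.not_le_iff_localizedModule (M := M) Q.asIdeal 0).2 ⟨Fin.elim0, ?_⟩ hQ
    exact Subsingleton.elim _ _

/-- The image of an open piece of the support is open. -/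
theorem isOpen_image_support_inter [Algebra.FinitePresentation A B] (M : Type u) [AddCommGroup M] [Module B M]
    [Module A M] [IsScalarTower A B M] [Module.FinitePresentation B M] [Module.Flat A M]
    {U : Set (PrimeSpectrum B)} (hU : IsOpen U) :
    IsOpen (PrimeSpectrum.comap (algebraMap A B) '' (U ∩ Module.support B M)) := by
  obtain ⟨S, hS, rfl⟩ := PrimeSpectrum.isTopologicalBasis_basic_opens.open_eq_sUnion hU
  rw [Set.sUnion_eq_biUnion, Set.iUnion₂_inter, Set.image_iUnion₂]
  refine isOpen_biUnion fun D hD => ?_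
  obtain ⟨g, rfl⟩ := hS hD
  obtain ⟨J, hJ, hJeq⟩ := exists_fg_support_eq (B := B) M
  obtain ⟨G, hG⟩ := hJ
  refine PrimeSpectrum.isOpen_of_stableUnderGeneralization_of_isConstructible ?_ ?_
  · rintro _ q hq ⟨Q, ⟨hQg, hQ⟩, rfl⟩
    let I := Module.annihilator B M
    have hIQ : I ≤ Q.asIdeal := Module.mem_support_iff_of_finite.1 hQ
    letI : Module (B ⧸ I) M := Module.IsTorsionBySet.module
      (fun m r => Module.mem_annihilator.1 r.2 m)
    haveI : IsScalarTower B (B ⧸ I) M := Module.IsTorsionBySet.isScalarTower _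
    haveI : IsScalarTower A (B ⧸ I) M := IsScalarTower.of_algebraMap_smul fun a m => by
      rw [IsScalarTower.algebraMap_apply A B (B ⧸ I), algebraMap_smul, algebraMap_smul]
    haveI : Module.Finite (B ⧸ I) M := Module.Finite.of_restrictScalars_finite B (B ⧸ I) M
    obtain ⟨Q₀, rfl⟩ : Q ∈ Set.range (PrimeSpectrum.comap (Ideal.Quotient.mk I)) := by
      rw [range_comap_of_surjective _ _ Ideal.Quotient.mk_surjective, Ideal.mk_ker]
      exact hIQ
    have hQ₀ : Q₀ ∈ Module.support (B ⧸ I) M := by
      rw [Module.mem_support_iff_of_finite]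
      intro r hr
      obtain ⟨r, rfl⟩ := Ideal.Quotient.mk_surjective r
      rw [Ideal.Quotient.eq_zero_iff_mem.2 (Module.mem_annihilator.2 fun m => by
        rw [← algebraMap_smul (B ⧸ I) r m]; exact Module.mem_annihilator.1 hr m)]
      exact zero_mem _
    have hqle : q.asIdeal ≤ Q₀.asIdeal.comap (algebraMap A (B ⧸ I)) :=
      (PrimeSpectrum.le_iff_specializes q _).2 hq
    obtain ⟨Q₁, hQ₁, hQ₁q⟩ := FlatModB.exists_prime_le_of_flat M Q₀ hQ₀ q hqle
    refine ⟨PrimeSpectrum.comap (Ideal.Quotient.mk I) Q₁, ⟨fun h => hQg (Ideal.comap_mono hQ₁ h), ?_⟩, ?_⟩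
    · rw [Module.mem_support_iff_of_finite]
      intro r hr
      show Ideal.Quotient.mk I r ∈ Q₁.asIdeal
      rw [Ideal.Quotient.eq_zero_iff_mem.2 hr]
      exact zero_mem _
    · rw [← hQ₁q]
      rfl
  · refine PrimeSpectrum.isConstructible_comap_image (RingHom.finitePresentation_algebraMap.mpr ‹_›)
      (PrimeSpectrum.isConstructible_basicOpen.inter ?_)
    rw [hJeq, ← hG, PrimeSpectrum.zeroLocus_span, ← Topology.isConstructible_compl]
    exact (PrimeSpectrum.isRetrocompact_zeroLocus_compl G.finite_toSet).isConstructible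
      (PrimeSpectrum.isClosed_zeroLocus _).isOpen_compl

end Groth.Agent.FibDepth
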