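import Groth.Agent.FibDepth.GlobalSk
import Groth.Agent.FibDepth.SuppImage
import Groth.Agent.SupportLib.Pull
import Groth.Agent.QC.Support

/-!
# Dimension of the support along the fibres of a proper morphism
-/

set_option autoImplicit false
set_option linter.style.haveILetI false
set_option backward.isDefEq.respectTransparency false

universe u

open IsLocalRing TensorProduct CategoryTheory AlgebraicGeometry

namespace Groth.Agent.FibDepth

variable {X Y : Scheme.{u}}

/-- The points of a fibre where the restricted module is nonzero. -/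
def suppFib (f : X ⟶ Y) (F : X.Modules) (y : Y) : Set ↥(f.fiber y) :=
  {z : ↥(f.fiber y) | Nontrivial (((Scheme.Modules.pullback (f.fiberι y)).obj F).presheaf.stalk z)}

theorem suppFib_eq (f : X ⟶ Y) (F : X.Modules) (hF : CohB1.IsFP F) (y : Y) :
    suppFib f F y = (f.fiberι y) ⁻¹' CohB1.support F := by
  haveI := isQCoh_of_isFP hF
  haveI : CohB1.IsFT F := inferInstanceAs (SheafOfModules.IsFiniteType (R := X.ringCatSheaf) F)
  rw [← SupportLib.support_pullback (f.fiberι y) F ‹_›]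
  ext z
  exact (not_subsingleton_iff_nontrivial).symm

/-- The dimension of the support is read off the closures of its points. -/
theorem dim_suppFib_le_iff (f : X ⟶ Y) [LocallyOfFiniteType f] (F : X.Modules) (hF : CohB1.IsFP F) (y : Y) (e : ℕ) :
    topologicalKrullDim ↥(suppFib f F y) ≤ (e : WithBot ℕ∞) ↔
      ∀ z ∈ suppFib f F y, topologicalKrullDim ↥(closure ({z} : Set ↥(f.fiber y))) ≤ (e : WithBot ℕ∞) := by
  haveI := isQCoh_of_isFP hF
  haveI : CohB1.IsFT F := inferInstanceAs (SheafOfModules.IsFiniteType (R := X.ringCatSheaf) F)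
  have hcl : IsClosed (suppFib f F y) := by
    rw [suppFib_eq f F hF y]
    exact (QC.isClosed_support ‹CohB1.IsFT F›).preimage (f.fiberι y).continuous
  constructor
  · intro h z hz
    exact (Topology.IsInducing.topologicalKrullDim_le
      (Topology.IsEmbedding.inclusion (hcl.closure_subset_iff.2 (Set.singleton_subset_iff.2 hz))).isInducing).trans h
  · intro h
    haveI : QuasiSober ↥(suppFib f F y) := hcl.isClosedEmbedding_subtypeVal.quasiSober
    refine Unibranch.natCast_le_iff_of_le_iff.2 fun k hk => ?_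
    obtain ⟨c, hc⟩ := Unibranch.exists_chain_of_le_topologicalKrullDim hk
    have h1 := h _ (c 0).2
    haveI : QuasiSober ↥(closure ({(c 0).1} : Set ↥(f.fiber y))) :=
      isClosed_closure.isClosedEmbedding_subtypeVal.quasiSober
    haveI : T0Space ↥(f.fiber y) := inferInstance
    have hmem : ∀ i, (c i).1 ∈ closure ({(c 0).1} : Set ↥(f.fiber y)) := fun i =>
      specializes_iff_mem_closure.1 ((Unibranch.specializes_of_chain c hc i).map continuous_subtype_val)
    have h2 : (k : WithBot ℕ∞) ≤ topologicalKrullDim ↥(closure ({(c 0).1} : Set ↥(f.fiber y))) :=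
      Unibranch.natCast_le_topologicalKrullDim (fun i => ⟨(c i).1, hmem i⟩) fun i =>
        ⟨(subtype_specializes_iff _ _).2 ((hc i).1.map continuous_subtype_val), fun e =>
          (hc i).2 (Subtype.ext (congrArg (fun t : ↥(closure ({(c 0).1} : Set ↥(f.fiber y))) => t.1) e))⟩
    exact Nat.cast_le.1 (show ((k : ℕ) : WithBot ℕ∞) ≤ ((e : ℕ) : WithBot ℕ∞) from h2.trans h1)

section Chart

variable (f : X ⟶ Y) (F : X.Modules) {V : Y.Opens} (hV : IsAffineOpen V) {W : X.Opens}
  (hW : IsAffineOpen W) (e : W ≤ f ⁻¹ᵁ V) {n : ℕ} (σ : MvPolynomial (Fin n) Γ(Y, V) →+* Γ(X, W))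
  (hσ : Function.Surjective σ) (hσC : ∀ a, σ (MvPolynomial.C a) = (f.appLE V W e).hom a)

include hV hσC in
theorem fromSpec_under (x : X) (hx : x ∈ W) :
    hV.fromSpec (PrimeSpectrum.comap (algebraMap Γ(Y, V) (MvPolynomial (Fin n) Γ(Y, V))) (chartPrime hW σ x hx)) = f x := by
  rw [show PrimeSpectrum.comap (algebraMap Γ(Y, V) (MvPolynomial (Fin n) Γ(Y, V))) (chartPrime hW σ x hx) =
    PrimeSpectrum.comap (f.appLE V W e).hom (hW.primeIdealOf ⟨x, hx⟩) from by
      rw [chartPrime, ← PrimeSpectrum.comap_comp_apply]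
      exact congrArg (PrimeSpectrum.comap · _) (RingHom.ext hσC),
    Unibranch.fromSpec_comap_appLE f hV hW e, hW.fromSpec_primeIdealOf]

include hV hσ hσC in
theorem exists_point (hfin : letI := chartModule F σ; Module.Finite (MvPolynomial (Fin n) Γ(Y, V)) Γ(F, W))
    (P : PrimeSpectrum (MvPolynomial (Fin n) Γ(Y, V)))
    (hP : letI := chartModule F σ; P ∈ Module.support (MvPolynomial (Fin n) Γ(Y, V)) Γ(F, W)) :
    ∃ (x : X) (hx : x ∈ W), chartPrime hW σ x hx = P := by
  letI := chartModule F σ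
  haveI := hfin
  have hker : RingHom.ker σ ≤ P.asIdeal := by
    refine le_trans (fun r hr => ?_) (Module.mem_support_iff_of_finite.1 hP)
    rw [Module.mem_annihilator]
    intro m
    show σ r • m = 0
    rw [RingHom.mem_ker.1 hr, zero_smul]
  obtain ⟨q, rfl⟩ : P ∈ Set.range (PrimeSpectrum.comap σ) := by
    rw [range_comap_of_surjective _ _ hσ]
    exact hker
  obtain ⟨h, hh⟩ := InjFibre.primeIdealOf_fromSpec hW q
  exact ⟨_, h, by rw [chartPrime, hh]⟩

include hV hσ hσC in
theorem nontrivial_iff_mem_support (hq : Coh.IsQCoh F)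
    (hfin : letI := chartModule F σ; Module.Finite (MvPolynomial (Fin n) Γ(Y, V)) Γ(F, W))
    (y : Y) (z : ↥(f.fiber y)) (hz : f.fiberι y z ∈ W) :
    letI := chartModule F σ
    z ∈ suppFib f F y ↔ chartPrime hW σ _ hz ∈ Module.support (MvPolynomial (Fin n) Γ(Y, V)) Γ(F, W) := by
  letI := chartModule F σ
  haveI := hfin
  obtain ⟨h1, -⟩ := fibre_stalk_eq f F hq hV hW e σ hσ hσC hfin y z hz
  show Nontrivial _ ↔ _
  rw [← not_iff_not, not_nontrivial_iff_subsingleton,
    ← Module.supportDim_eq_bot_iff_subsingleton ((f.fiber y).presheaf.stalk z), h1,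
    Module.supportDim_eq_bot_iff_subsingleton]
  exact subsingleton_fibM_iff _ _ _

end Chart

/-- The dimension of the support near a point of a fibre. -/
def SuppDimLE (f : X ⟶ Y) (F : X.Modules) (e : ℕ) (y : Y) (z : ↥(f.fiber y)) : Prop :=
  Module.supportDim ((f.fiber y).presheaf.stalk z)
      (((Scheme.Modules.pullback (f.fiberι y)).obj F).presheaf.stalk z) +
    topologicalKrullDim ↥(closure ({z} : Set ↥(f.fiber y))) ≤ (e : WithBot ℕ∞)

/-- A chart with everything needed for the two semicontinuity statements. -/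
theorem suppDim_chart (f : X ⟶ Y) [LocallyOfFinitePresentation f] (F : X.Modules) (hF : CohB1.IsFP F)
    (hflat : FlatMod.IsFlatOver f F) (x : X) :
    ∃ W : X.Opens, x ∈ W ∧ ∃ n : ℕ,
      (∀ (y : Y) (z : ↥(f.fiber y)), f.fiberι y z ∈ W →
        topologicalKrullDim ↥(closure ({z} : Set ↥(f.fiber y))) ≤ (n : WithBot ℕ∞)) ∧
      (∀ e : ℕ, ∃ O : Set X, IsOpen O ∧ ∀ (y : Y) (z : ↥(f.fiber y)), f.fiberι y z ∈ W →
        (f.fiberι y z ∈ O ↔ SuppDimLE f F e y z)) ∧
      (∀ (e : ℕ) (y : Y) (z : ↥(f.fiber y)), f.fiberι y z ∈ W →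
        (∀ z' ∈ suppFib f F y, topologicalKrullDim ↥(closure ({z'} : Set ↥(f.fiber y))) ≤ (e : WithBot ℕ∞)) →
          SuppDimLE f F e y z) ∧
      (∀ (e : ℕ) (y : Y) (z : ↥(f.fiber y)), f.fiberι y z ∈ W → z ∈ suppFib f F y →
        (e : WithBot ℕ∞) ≤ topologicalKrullDim ↥(closure ({z} : Set ↥(f.fiber y))) →
        ∃ N : Set Y, IsOpen N ∧ y ∈ N ∧ ∀ y' ∈ N, ∃ z' ∈ suppFib f F y',
          (e : WithBot ℕ∞) ≤ topologicalKrullDim ↥(closure ({z'} : Set ↥(f.fiber y')))) := by
  have hq := isQCoh_of_isFP hF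
  obtain ⟨V, W, hV, hW, hxW, e₀, -⟩ := Unibranch.exists_chart_le f (U := ⊤) (x := x) trivial
  letI : Algebra Γ(Y, V) Γ(X, W) := (f.appLE V W e₀).hom.toAlgebra
  haveI : Algebra.FinitePresentation Γ(Y, V) Γ(X, W) := f.finitePresentation_appLE hV hW e₀
  obtain ⟨n, π, hπ, hker⟩ := Algebra.FinitePresentation.out (R := Γ(Y, V)) (A := Γ(X, W))
  let P := MvPolynomial (Fin n) Γ(Y, V)
  let σ : P →+* Γ(X, W) := π.toRingHom
  have hσC : ∀ a, σ (MvPolynomial.C a) = (f.appLE V W e₀).hom a := fun a => π.commutes a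
  letI : Algebra P Γ(X, W) := σ.toAlgebra
  letI := chartModule F σ
  haveI : IsScalarTower P Γ(X, W) Γ(F, W) := IsScalarTower.of_algebraMap_smul fun _ _ => rfl
  haveI : Module.Finite P Γ(X, W) := Module.Finite.of_surjective (Algebra.linearMap P Γ(X, W)) hπ
  haveI : Module.FinitePresentation P Γ(X, W) :=
    Module.finitePresentation_of_surjective (Algebra.linearMap P Γ(X, W)) hπ hker
  haveI := LocFree.finitePresentation_sections_of_isFP hq hF hW
  haveI : Module.FinitePresentation P Γ(F, W) := Module.FinitePresentation.trans P Γ(F, W) Γ(X, W)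
  letI := FlatModB.secModule f F W V e₀
  haveI : Module.Flat Γ(Y, V) Γ(F, W) := (FlatModB.flat_sections_iff f F hq hW hV e₀).2 fun x _ => hflat x
  haveI : IsScalarTower Γ(Y, V) P Γ(F, W) := IsScalarTower.of_algebraMap_smul fun a m => by
    show σ (MvPolynomial.C a) • m = (f.appLE V W e₀).hom a • m
    rw [hσC]
  have hr : ∀ (y : Y) (z : ↥(f.fiber y)) (hz : f.fiberι y z ∈ W),
      topologicalKrullDim ↥(closure ({z} : Set ↥(f.fiber y))) =
        (Unibranch.rdim Γ(Y, V) (chartPrime hW σ _ hz).asIdeal : WithBot ℕ∞) := fun y z hz => by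
    rw [dim_closure_fibre f hV hW e₀ y z hz]
    exact congrArg _ (rdim_comap_of_surjective π hπ (hW.primeIdealOf ⟨_, hz⟩)).symm
  -- primes of the support over a point of the base are points of the fibre
  have hpt : ∀ (y : Y) (Q : PrimeSpectrum P), Q ∈ Module.support P Γ(F, W) →
      hV.fromSpec (PrimeSpectrum.comap (algebraMap Γ(Y, V) P) Q) = y →
      ∃ z ∈ suppFib f F y, topologicalKrullDim ↥(closure ({z} : Set ↥(f.fiber y))) =
        (Unibranch.rdim Γ(Y, V) Q.asIdeal : WithBot ℕ∞) := by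
    rintro y Q hQ hy
    obtain ⟨x', hx', rfl⟩ := exists_point f F hV hW e₀ σ hπ hσC inferInstance Q hQ
    rw [fromSpec_under f hV hW e₀ σ hσC] at hy
    obtain ⟨z, rfl⟩ : x' ∈ Set.range (f.fiberι y) := by rw [f.range_fiberι]; exact hy
    exact ⟨z, (nontrivial_iff_mem_support f F hV hW e₀ σ hπ hσC hq inferInstance y z hx').2 hQ, hr y z hx'⟩
  have hrel : ∀ (k : ℕ) (y : Y) (z : ↥(f.fiber y)) (hz : f.fiberι y z ∈ W),
      SuppDimLE f F k y z ↔ Module.supportDim (FibQ Γ(Y, V) (chartPrime hW σ _ hz).asIdeal)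
          (FibM Γ(Y, V) (chartPrime hW σ _ hz).asIdeal Γ(F, W)) +
        (Unibranch.rdim Γ(Y, V) (chartPrime hW σ _ hz).asIdeal : WithBot ℕ∞) ≤ (k : WithBot ℕ∞) := fun k y z hz => by
    obtain ⟨h1, -⟩ := fibre_stalk_eq f F hq hV hW e₀ σ hπ hσC inferInstance y z hz
    rw [SuppDimLE, h1, hr y z hz]
  refine ⟨W, hxW, n, fun y z hz => ?_, fun k => ?_, fun k y z hz h => ?_, fun k y z hz hzs hk => ?_⟩
  · rw [hr y z hz]
    exact_mod_cast rdim_le_card (chartPrime hW σ _ hz).asIdeal
  · obtain ⟨O, hO, hO'⟩ := exists_open_chart hW σ (isOpen_supportDim_le (A := Γ(Y, V)) (n := n) Γ(F, W) k)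
    exact ⟨O, hO, fun y z hz => (hO' _ hz).trans (hrel k y z hz).symm⟩
  · rw [hrel k y z hz, supportDim_fibM_add_rdim_le_iff]
    intro Q hQs hQle hQu
    have hy : hV.fromSpec (PrimeSpectrum.comap (algebraMap Γ(Y, V) P) Q) = y := by
      rw [show PrimeSpectrum.comap (algebraMap Γ(Y, V) P) Q =
        PrimeSpectrum.comap (algebraMap Γ(Y, V) P) (chartPrime hW σ _ hz) from PrimeSpectrum.ext hQu,
        fromSpec_under f hV hW e₀ σ hσC]
      exact (f.range_fiberι y).subset ⟨z, rfl⟩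
    obtain ⟨z', hz', hdim⟩ := hpt y Q hQs hy
    have := h z' hz'
    rw [hdim] at this
    exact_mod_cast this
  · have hy : f (f.fiberι y z) = y := (f.range_fiberι y).subset ⟨z, rfl⟩
    have hQ0 := (nontrivial_iff_mem_support f F hV hW e₀ σ hπ hσC hq inferInstance y z hz).1 hzs
    let Q := chartPrime hW σ _ hz
    obtain ⟨w, hw⟩ := (range_comap_fibQ Γ(Y, V) Q.asIdeal Q).2 ⟨le_rfl, rfl⟩
    have hws : w ∈ Module.support (FibQ Γ(Y, V) Q.asIdeal) (FibM Γ(Y, V) Q.asIdeal Γ(F, W)) := by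
      rw [mem_support_fibM, hw]
      exact hQ0
    obtain ⟨p, hp, hpw⟩ := Ideal.exists_minimalPrimes_le (Module.mem_support_iff_of_finite.1 hws)
    haveI := hp.1.1
    let P' : PrimeSpectrum P := ⟨genPrime Q.asIdeal p, inferInstance⟩
    have hps : (⟨p, hp.1.1⟩ : PrimeSpectrum _) ∈ Module.support (FibQ Γ(Y, V) Q.asIdeal) (FibM Γ(Y, V) Q.asIdeal Γ(F, W)) :=
      Module.mem_support_iff_of_finite.2 hp.1.2
    have hP's : P' ∈ Module.support P Γ(F, W) := (mem_support_fibM _ _ _ _).1 hps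
    have hkP : k ≤ Unibranch.rdim Γ(Y, V) P'.asIdeal := by
      rw [hr y z hz] at hk
      refine le_trans (by exact_mod_cast hk) (rdim_mono (genPrime_le _ _) (genPrime_under _ _))
    obtain ⟨O, hO, hO'⟩ : ∃ O : Set (PrimeSpectrum P), IsOpen O ∧ O = {R | (k : ℕ∞) ≤
        LocCoh.depth (FibQ Γ(Y, V) R.asIdeal) (FibM Γ(Y, V) R.asIdeal Γ(F, W)) +
          (Unibranch.rdim Γ(Y, V) R.asIdeal : ℕ∞)} := ⟨_, isOpen_rect Γ(F, W) k, rfl⟩
    refine ⟨hV.fromSpec '' (PrimeSpectrum.comap (algebraMap Γ(Y, V) P) '' (O ∩ Module.support P Γ(F, W))),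
      hV.fromSpec.isOpenEmbedding.isOpenMap _ (isOpen_image_support_inter Γ(F, W) hO),
      ⟨_, ⟨P', ⟨?_, hP's⟩, rfl⟩, ?_⟩, ?_⟩
    · rw [hO', Set.mem_ofPred_eq]
      exact le_trans (Nat.cast_le.2 hkP) le_add_self
    · rw [show PrimeSpectrum.comap (algebraMap Γ(Y, V) P) P' = PrimeSpectrum.comap (algebraMap Γ(Y, V) P) Q from
        PrimeSpectrum.ext (genPrime_under Q.asIdeal p), fromSpec_under f hV hW e₀ σ hσC, hy]
    · rintro _ ⟨_, ⟨R, ⟨hR, hRs⟩, rfl⟩, rfl⟩
      rw [hO'] at hR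
      haveI := isRegularLocalRing_fibQ R.asIdeal
      by_contra hall
      push Not at hall
      have hlt : ∀ R' : PrimeSpectrum P, R' ∈ Module.support P Γ(F, W) → R'.asIdeal ≤ R.asIdeal →
          R'.asIdeal.under Γ(Y, V) = R.asIdeal.under Γ(Y, V) → Unibranch.rdim Γ(Y, V) R'.asIdeal < k := by
        intro R' hR's _ hR'u
        obtain ⟨z', hz', hdim⟩ := hpt _ R' hR's (congrArg hV.fromSpec (PrimeSpectrum.ext hR'u :
          PrimeSpectrum.comap (algebraMap Γ(Y, V) P) R' = PrimeSpectrum.comap (algebraMap Γ(Y, V) P) R))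
        have := hall z' hz'
        rw [hdim] at this
        exact_mod_cast this
      have hk1 : 1 ≤ k := (Nat.succ_le_iff.2 (lt_of_le_of_lt (Nat.zero_le _) (hlt R hRs le_rfl rfl)))
      have hsd := (supportDim_fibM_add_rdim_le_iff R.asIdeal Γ(F, W) (k - 1)).2
        fun R' h1 h2 h3 => Nat.le_sub_one_of_lt (hlt R' h1 h2 h3)
      rcases supportDim_depth_cases (ringKrullDim_fibQ R.asIdeal) (FibM Γ(Y, V) R.asIdeal Γ(F, W)) with
        ⟨h1, -⟩ | ⟨a, b, h1, h2⟩
      · exact (subsingleton_fibM_iff Γ(Y, V) R.asIdeal Γ(F, W)).1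
          ((Module.supportDim_eq_bot_iff_subsingleton _ _).1 h1) hRs
      · have h3 := InvFin.depth_le_supportDim (FibM Γ(Y, V) R.asIdeal Γ(F, W)) h1
        rw [h2] at h3
        rw [Set.mem_ofPred_eq, h2] at hR
        rw [h1] at hsd
        norm_cast at h3 hR hsd
        omega

/-- The dimension of the support of the restriction to the fibres is locally constant. -/
theorem isLocallyConstant_dim_suppFib (f : X ⟶ Y) [IsProper f] [LocallyOfFinitePresentation f] (F : X.Modules)
    (hF : CohB1.IsFP F) (hflat : FlatMod.IsFlatOver f F) :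
    IsLocallyConstant fun y : Y => topologicalKrullDim ↥(suppFib f F y) := by
  haveI := isQCoh_of_isFP hF
  haveI hFT : CohB1.IsFT F := inferInstanceAs (SheafOfModules.IsFiniteType (R := X.ringCatSheaf) F)
  choose W hxW n hn hO hgen hlow using suppDim_chart f F hF hflat
  rw [IsLocallyConstant.iff_exists_open]
  intro y
  by_cases hne : (suppFib f F y).Nonempty
  swap
  · refine ⟨(f '' CohB1.support F)ᶜ, (f.isClosedMap _ (QC.isClosed_support hFT)).isOpen_compl, ?_, fun y' hy' => ?_⟩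
    · rintro ⟨x, hx, rfl⟩
      refine hne ⟨f.asFiber x, ?_⟩
      rw [suppFib_eq f F hF, Set.mem_preimage, f.fiberι_asFiber]
      exact hx
    · have he : suppFib f F y' = ∅ := Set.eq_empty_iff_forall_notMem.2 fun z hz => hy'
        ⟨f.fiberι y' z, by rw [suppFib_eq f F hF] at hz; exact hz, (f.range_fiberι y').subset ⟨z, rfl⟩⟩
      show topologicalKrullDim _ = topologicalKrullDim _
      haveI : IsEmpty (TopologicalSpace.IrreducibleCloseds ↥(suppFib f F y)) :=
        ⟨fun C => C.2.nonempty.elim fun t _ => hne ⟨t.1, t.2⟩⟩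
      haveI : IsEmpty (TopologicalSpace.IrreducibleCloseds ↥(suppFib f F y')) :=
        ⟨fun C => C.2.nonempty.elim fun t _ => Set.eq_empty_iff_forall_notMem.1 he t.1 t.2⟩
      rw [topologicalKrullDim, topologicalKrullDim, Order.krullDim_eq_bot, Order.krullDim_eq_bot]
  -- a bound
  obtain ⟨T, hT⟩ := (isCompact_univ (X := ↥(f.fiber y))).elim_finite_subcover
    (fun x => (f.fiberι y) ⁻¹' (W x : Set X)) (fun x => (W x).2.preimage (f.fiberι y).continuous)
    fun z _ => Set.mem_iUnion.2 ⟨_, hxW _⟩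
  have hb : ∃ e : ℕ, topologicalKrullDim ↥(suppFib f F y) ≤ (e : WithBot ℕ∞) := by
    refine ⟨T.sup n, (dim_suppFib_le_iff f F hF y _).2 fun z _ => ?_⟩
    obtain ⟨x, hx, hzx⟩ : ∃ x ∈ T, f.fiberι y z ∈ W x := by simpa using hT (Set.mem_univ z)
    exact (hn x y z hzx).trans (by exact_mod_cast Finset.le_sup hx)
  classical
  obtain ⟨e, he, hmin⟩ : ∃ e : ℕ, topologicalKrullDim ↥(suppFib f F y) ≤ (e : WithBot ℕ∞) ∧
      ∀ e' < e, ¬ topologicalKrullDim ↥(suppFib f F y) ≤ (e' : WithBot ℕ∞) :=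
    ⟨Nat.find hb, Nat.find_spec hb, fun e' he' => Nat.find_min hb he'⟩
  -- a point of the support with closure of this dimension
  obtain ⟨z₀, hz₀, hze⟩ : ∃ z ∈ suppFib f F y,
      (e : WithBot ℕ∞) ≤ topologicalKrullDim ↥(closure ({z} : Set ↥(f.fiber y))) := by
    by_contra hno
    push Not at hno
    cases e with
    | zero =>
      obtain ⟨z, hz⟩ := hne
      haveI : Nonempty ↥(closure ({z} : Set ↥(f.fiber y))) := ⟨⟨z, subset_closure rfl⟩⟩
      haveI : Nonempty (TopologicalSpace.IrreducibleCloseds ↥(closure ({z} : Set ↥(f.fiber y)))) :=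
        ⟨⟨closure {⟨z, subset_closure rfl⟩}, isIrreducible_singleton.closure, isClosed_closure⟩⟩
      exact absurd (hno z hz) (not_lt.2 Order.krullDim_nonneg)
    | succ m =>
      exact hmin m (Nat.lt_succ_self m) ((dim_suppFib_le_iff f F hF y m).2 fun z hz => ENat.WithBot.lt_add_one_iff.1
        (by have := hno z hz; push_cast at this; exact this))
  obtain ⟨N, hN, hyN, hN'⟩ := hlow _ e y z₀ (hxW _) hz₀ hze
  choose O hOo hO' using fun x => hO x e
  obtain ⟨U, hU, hU'⟩ := exists_open_of_charts f (SuppDimLE f F e) fun x => ⟨W x, hxW x, O x, hOo x, hO' x⟩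
  refine ⟨{y' | ∀ z, SuppDimLE f F e y' z} ∩ N, (isOpen_forall_of_fibres f hU hU').inter hN,
    ⟨fun z => hgen _ e y z (hxW _) ((dim_suppFib_le_iff f F hF y e).1 he), hyN⟩, fun y' ⟨hy', hy'N⟩ => ?_⟩
  obtain ⟨z', hz', hz'e⟩ := hN' y' hy'N
  have hle : ∀ y'' : Y, (∀ z, SuppDimLE f F e y'' z) → topologicalKrullDim ↥(suppFib f F y'') ≤ (e : WithBot ℕ∞) := by
    intro y'' h
    refine (dim_suppFib_le_iff f F hF y'' e).2 fun z hz => le_trans ?_ (h z)
    have : Nontrivial (((Scheme.Modules.pullback (f.fiberι y'')).obj F).presheaf.stalk z) := hz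
    haveI := Module.nonempty_support_of_nontrivial (R := (f.fiber y'').presheaf.stalk z)
      (M := ((Scheme.Modules.pullback (f.fiberι y'')).obj F).presheaf.stalk z) |>.to_subtype
    exact le_add_of_nonneg_left (Order.krullDim_nonneg (α := Module.support ((f.fiber y'').presheaf.stalk z) _))
  have hge : ∀ {y'' : Y} {z : ↥(f.fiber y'')}, z ∈ suppFib f F y'' →
      (e : WithBot ℕ∞) ≤ topologicalKrullDim ↥(closure ({z} : Set ↥(f.fiber y''))) →
      (e : WithBot ℕ∞) ≤ topologicalKrullDim ↥(suppFib f F y'') := by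
    intro y'' z hz h
    refine h.trans (Topology.IsInducing.topologicalKrullDim_le
      (Topology.IsEmbedding.inclusion (?_ : closure {z} ⊆ suppFib f F y'')).isInducing)
    rw [suppFib_eq f F hF] at hz ⊢
    exact ((QC.isClosed_support hFT).preimage (f.fiberι y'').continuous).closure_subset_iff.2
      (Set.singleton_subset_iff.2 hz)
  exact (le_antisymm (hle y' hy') (hge hz' hz'e)).trans (le_antisymm he (hge hz₀ hze)).symm

end Groth.Agent.FibDepth
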